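import Cfsg.Agent.Th.D4Main
import Cfsg.Agent.Th.Final

/-!
# An element of order 13 of `Th` and an element of order 4 normalising it (helper303)

Explicit words in the generators of `³D₄(2)`, checked with the permutations of degree 819.
-/

set_option autoImplicit false

namespace Cfsg.Agent.H303.MaxTh

open Subgroup
open Cfsg.Agent.Th.Base Cfsg.Agent.Th.Word Cfsg.Agent.Th.PermTab Cfsg.Agent.Th.KOracle Cfsg.Agent.Th.D4
  Cfsg.Agent.Th.D4Perm

/-- an element of order 13 -/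
def v : List ℕ := [4, 5, 6, 5, 3, 4, 2, 3, 4, 3, 2, 4, 3, 5, 7, 5]

/-- the inverse of an element of order 4 normalising `⟨v⟩` -/
def g : List ℕ := [1, 2, 5, 4, 2, 3, 2, 1, 2, 7, 2, 6, 1, 3, 2, 6, 6, 2, 4, 7, 4, 7, 4, 1, 4, 2, 4, 5, 4, 2, 4, 2, 3, 4,
  6, 6, 3, 6, 3, 2, 6, 6, 1, 3, 1, 4, 3, 2, 3, 4, 3, 2, 5, 1, 7, 4, 3, 5, 1, 4, 1, 3]

def rp (L : List ℕ) (k : ℕ) : List ℕ := Nat.rec [] (fun _ ih => L ++ ih) k

theorem ev_rp {G : Type*} [Group G] (γ : ℕ → G) (L : List ℕ) (k : ℕ) : ev γ (rp L k) = ev γ L ^ k := by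
  induction k with
  | zero => rw [pow_zero]; rfl
  | succ k ih =>
    rw [show rp L (k + 1) = L ++ rp L k from rfl, ev_append, ih, pow_succ']

theorem isK_v13 : ∀ x ∈ rp v 13, isK x = true := by decide +kernel
theorem isK_g4 : ∀ x ∈ rp g 4, isK x = true := by decide +kernel
theorem isK_rel : ∀ x ∈ iw g ++ (v ++ (g ++ iw (rp v 5))), isK x = true := by decide +kernel

theorem chk_v13 : allB 819 (fun p => Nat.beq (tr act (rp v 13) p) p) = true := by decide +kernel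
theorem chk_g4 : allB 819 (fun p => Nat.beq (tr act (rp g 4) p) p) = true := by decide +kernel
theorem chk_rel : allB 819 (fun p => Nat.beq (tr act (iw g ++ (v ++ (g ++ iw (rp v 5)))) p) p) = true := by
  decide +kernel
theorem ne_v : Nat.beq (tr act v 0) 0 = false := by decide +kernel

theorem r_mem {x : ℕ} (h1 : 1 ≤ x) (h7 : x ≤ 7) : r x ∈ PL := by
  have i7 : r 7 = (r 6)⁻¹ := rho_invCompat isTab 6
  have h : ∀ y ∈ ({r 1, r 2, r 3, r 4, r 5, r 6} : Set (Equiv.Perm (Fin 819))), y ∈ PL :=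
    fun y hy => Subgroup.subset_closure hy
  interval_cases x
  · exact h _ (by simp)
  · exact h _ (by simp)
  · exact h _ (by simp)
  · exact h _ (by simp)
  · exact h _ (by simp)
  · exact h _ (by simp)
  · rw [i7]; exact Subgroup.inv_mem _ (h _ (by simp))

theorem ev_mem {L : List ℕ} (hL : ∀ x ∈ L, 1 ≤ x ∧ x ≤ 7) : ev (rho isTab) L ∈ PL := by
  induction L with
  | nil => exact one_mem _
  | cons x L ih =>
    rw [ev_cons]
    exact mul_mem (r_mem (hL x List.mem_cons_self).1 (hL x List.mem_cons_self).2)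
      (ih fun y hy => hL y (List.mem_cons_of_mem _ hy))

theorem eq_one {L : List ℕ} (hK : ∀ x ∈ L, isK x = true)
    (h : allB 819 (fun p => Nat.beq (tr act L p) p) = true) : ev (rho isTab) L = 1 :=
  ev_rho_eq_one isTab hK fun p hp => Nat.beq_eq.mp ((allB_iff _ _).1 h p hp)

theorem exists_PL : ∃ x h : PL, orderOf x = 13 ∧ h * x = x ^ 5 * h ∧ h ^ 4 = 1 := by
  have h13 : Fact (Nat.Prime 13) := ⟨by norm_num⟩
  refine ⟨⟨ev (rho isTab) v, ev_mem (by decide)⟩, ⟨ev (rho isTab) g, ev_mem (by decide)⟩⁻¹, ?_, ?_, ?_⟩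
  · apply orderOf_eq_prime
    · apply Subtype.ext
      show ev (rho isTab) v ^ 13 = 1
      rw [← ev_rp]
      exact eq_one isK_v13 chk_v13
    · intro h
      have h1 : ev (rho isTab) v = 1 := congrArg Subtype.val h
      have h2 := ev_rho_inv_apply isTab (w := v) (by decide) (0 : Fin 819)
      rw [h1, inv_one] at h2
      exact Nat.ne_of_beq_eq_false ne_v h2.symm
  · have h1 := eq_one isK_rel chk_rel
    rw [ev_append, ev_append, ev_append, ev_iw (rho_invCompat isTab), ev_iw (rho_invCompat isTab), ev_rp] at h1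
    apply Subtype.ext
    show (ev (rho isTab) g)⁻¹ * ev (rho isTab) v = ev (rho isTab) v ^ 5 * (ev (rho isTab) g)⁻¹
    rw [eq_mul_inv_iff_mul_eq, ← mul_inv_eq_one, ← h1]
    group
  · rw [inv_pow]
    apply inv_eq_one.2
    apply Subtype.ext
    show ev (rho isTab) g ^ 4 = 1
    rw [← ev_rp]
    exact eq_one isK_g4 chk_g4

theorem exists_Th : ∃ x h : Cfsg.Spor.Th, orderOf x = 13 ∧ h * x = x ^ 5 * h ∧ h ^ 4 = 1 := by
  have hc : Nat.card (Subgroup.closure ({Cfsg.Agent.Th.IndexUpper.gTh 1, Cfsg.Agent.Th.IndexUpper.gTh 2,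
      Cfsg.Agent.Th.IndexUpper.gTh 3, Cfsg.Agent.Th.IndexUpper.gTh 4, Cfsg.Agent.Th.IndexUpper.gTh 5,
      Cfsg.Agent.Th.IndexUpper.gTh 6, Cfsg.Agent.Th.IndexUpper.gTh 8} : Set Cfsg.Spor.Th)) = 634023936 := by
    rw [← sub_isK_eq Cfsg.Agent.Th.IndexUpper.gTh_inv]
    exact Cfsg.Agent.Th.Final.main.2.2.1
  obtain ⟨e⟩ := Cfsg.Agent.Th.D4Main.equiv_PL Cfsg.Agent.Th.IndexUpper.gTh_relK hc
  obtain ⟨x, h, hx, hh, h4⟩ := exists_PL
  refine ⟨((e.symm x : _) : Cfsg.Spor.Th), ((e.symm h : _) : Cfsg.Spor.Th), ?_, ?_, ?_⟩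
  · rw [Subgroup.orderOf_coe, MulEquiv.orderOf_eq, hx]
  · have h1 := congrArg (fun z => ((e.symm z : _) : Cfsg.Spor.Th)) hh
    simpa only [map_mul, map_pow, Subgroup.coe_mul, Subgroup.coe_pow] using h1
  · have h1 := congrArg (fun z => ((e.symm z : _) : Cfsg.Spor.Th)) h4
    simpa only [map_mul, map_pow, Subgroup.coe_mul, Subgroup.coe_pow, map_one, Subgroup.coe_one] using h1

end Cfsg.Agent.H303.MaxTh
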