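import Cfsg.Agent.H303.MaxThNum
import Cfsg.Agent.H303.MaxThThirteen
import Cfsg.Agent.H940.EngLoc
import Cfsg.Agent.H513.NilpTh
import Cfsg.Agent.H723.Spor.Th
import Cfsg.Agent.ThType.Seven
import Cfsg.Agent.H964.NoHall.RowTh
import Cfsg.Agent.Th.Final

/-!
# Row `Th` of S5906/S5907 (helper303)

`Th` has at least five classes of maximal subgroups: the covering argument for `3D4(2):3`, the centralizer of an
involution and the normalizers of the Sylow subgroups for 3, 5, 7, 13, 19, 31.

* the centralizers of the elements of order 13, 19, 31 contain no elements of order 2, 5, 7;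
* an element of order 19 is normalised by an element of order 9 and an involution acting faithfully;
* an element of order 13 is normalised by an element of order 4 acting faithfully;
* the rest is Sylow's theorem (`cnP` of `H940/EngLoc.lean`) and the covering argument.
-/

set_option autoImplicit false

namespace Cfsg.Agent.H303.MaxTh

open Subgroup Cfsg.Agent.OrdDiv Cfsg.Agent.H940 Cfsg.Agent.H940.Eng Cfsg.Agent.H940.Eng.D
open Cfsg.Agent.H940.MaxCls

/-- the group -/
abbrev G : Type := Cfsg.Spor.Th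

theorem simple : IsSimpleGroup G := Cfsg.Agent.Th.Final.isSimple

theorem card : Nat.card G = n_th := Cfsg.Agent.Th.Final.card_Th

theorem fin : Finite G := Nat.finite_of_card_ne_zero (by rw [card]; decide)

theorem center : Subgroup.center G = ⊥ := Cfsg.Agent.Th.Final.center_eq_bot

theorem not_comm : ¬ ∀ a b : G, a * b = b * a := by
  intro h
  have h1 : (⊤ : Subgroup G) = ⊥ := by
    rw [← center, eq_comm, eq_top_iff]
    intro x _
    rw [mem_center_iff]
    intro y
    exact h y x
  have h2 : Nat.card (⊤ : Subgroup G) = 1 := by rw [h1]; exact card_bot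
  rw [card_top, card] at h2
  exact absurd h2 (by decide)

/-- the normalizer of a Sylow subgroup is proper -/
theorem normalizer_ne_top {p : ℕ} [hp : Fact p.Prime] (h : p ∣ n_th) (P : Sylow p G) :
    normalizer ((P : Subgroup G) : Set G) ≠ ⊤ := by
  have := fin
  have := simple
  intro hN
  have hn : (P : Subgroup G).Normal := normalizer_eq_top_iff.1 hN
  have hd : p ∣ Nat.card P := by
    have h1 : p ^ 1 ∣ Nat.card P := P.pow_dvd_card_of_pow_dvd_card (by rw [pow_one, card]; exact h)
    rwa [pow_one] at h1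
  rcases hn.eq_bot_or_eq_top with h1 | h1
  · have h2 : Nat.card P = 1 := by rw [h1]; exact card_bot
    rw [h2] at hd
    exact hp.out.one_lt.ne' (Nat.dvd_one.1 hd)
  · have hpg : IsPGroup p G := by
      have h2 := P.isPGroup'
      rw [h1] at h2
      exact h2.of_equiv Subgroup.topEquiv
    have h3 := hpg.center_nontrivial
    rw [center] at h3
    exact not_nontrivial _ h3

theorem full_sylow {p k : ℕ} [hp : Fact p.Prime] (h : p ^ k ∣ n_th) (P : Sylow p G) :
    p ^ k ∣ Nat.card (normalizer ((P : Subgroup G) : Set G)) := by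
  have := fin
  have h1 : p ^ k ∣ Nat.card P := P.pow_dvd_card_of_pow_dvd_card (by rw [card]; exact h)
  exact h1.trans (card_dvd_of_le le_normalizer)

theorem normalizer_ne_top' {r : ℕ} (hr : isPrimeB r = true) (h2 : (n_th % (r ^ 2) != 0) = true)
    {R : Subgroup G} (hR : Nat.card R = r) : normalizer (R : Set G) ≠ ⊤ := by
  have := fin
  have := Fact.mk (prime_of hr)
  have h3 : ¬ r ^ 2 ∣ Nat.card G := by
    rw [card]
    intro h
    rw [Nat.dvd_iff_mod_eq_zero] at h
    rw [h] at h2
    exact absurd h2 (by decide)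
  obtain ⟨S, hS⟩ := H904.SylOne.exists_sylow hR h3
  have h4 := normalizer_ne_top (p := r) (by rw [← card, ← hR]; exact card_subgroup_dvd_card R) S
  rwa [hS] at h4

/-- a power of `q` divides the index of the centralizer in the normalizer -/
theorem dvd_nc {T : Type*} [Group T] [Finite T] {x h : T} {q k α : ℕ} (hq : q.Prime) (hα : h * x = x ^ α * h)
    (h1 : h ^ q ^ (k + 1) = 1) (h2 : h ^ q ^ k * x ≠ x * h ^ q ^ k) :
    q ^ (k + 1) * Nat.card (centralizer ((zpowers x : Subgroup T) : Set T)) ∣
      Nat.card (normalizer ((zpowers x : Subgroup T) : Set T)) := by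
  have := Fact.mk hq
  have hN : h ∈ normalizer ((zpowers x : Subgroup T) : Set T) := by
    apply mem_normalizer_fintype
    rintro _ ⟨i, rfl⟩
    change h * x ^ i * h⁻¹ ∈ zpowers x
    rw [← conj_zpow, hα, mul_inv_cancel_right]
    exact zpow_mem (pow_mem (mem_zpowers x) _) _
  set φ := (zpowers x).normalizerMonoidHom with hφ
  set y : normalizer ((zpowers x : Subgroup T) : Set T) := ⟨h, hN⟩ with hy
  have hcard : Nat.card (normalizer ((zpowers x : Subgroup T) : Set T)) = Nat.card φ.ker * Nat.card φ.range := by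
    rw [← Subgroup.index_ker]
    exact (Subgroup.card_mul_index _).symm
  have hker : Nat.card φ.ker = Nat.card (centralizer ((zpowers x : Subgroup T) : Set T)) := by
    rw [hφ, Subgroup.normalizerMonoidHom_ker]
    exact Nat.card_congr (Subgroup.subgroupOfEquivOfLe (centralizer_le_normalizer _)).toEquiv
  have ho : orderOf (φ y) = q ^ (k + 1) := by
    refine orderOf_eq_prime_pow ?_ ?_
    · intro h3
      rw [← map_pow, ← MonoidHom.mem_ker, hφ, Subgroup.normalizerMonoidHom_ker, mem_subgroupOf,
        mem_centralizer_iff] at h3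
      exact h2 (h3 x (mem_zpowers x)).symm
    · have h3 : y ^ q ^ (k + 1) = 1 := Subtype.ext h1
      rw [← map_pow, h3, map_one]
  have h3 : q ^ (k + 1) ∣ Nat.card φ.range := by
    have h4 : orderOf (⟨φ y, y, rfl⟩ : φ.range) = q ^ (k + 1) := by rw [← ho, ← Subgroup.orderOf_coe]
    rw [← h4]
    exact orderOf_dvd_natCard _
  rw [hcard, hker, mul_comm (q ^ (k + 1))]
  exact Nat.mul_dvd_mul_left _ h3


/-! ### local data -/

theorem cent_dvd {r : ℕ} (hr : r.Prime) (h1 : ¬ r ∣ 92897280) (h2 : ¬ r * r ∣ 90745943887872000) (h3 : ¬ r ∣ 7 * 168)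
    (h4 : ¬ r ∣ 7 * 360) (ps : List ℕ)
    (hps : ∀ p ∈ ps, p.Prime ∧ ∀ y : G, orderOf y = p → ¬ r ∣ Nat.card (centralizer ({y} : Set G)))
    {R : Subgroup G} (hR : Nat.card R = r) :
    Nat.card (centralizer (R : Set G)) ∣ prodl (l_th.filter fun x => !(([2, 5, 7] ++ ps).contains x.1)) := by
  have := fin
  refine dvd_filter v_th (m := Nat.card (centralizer (R : Set G))) (card ▸ card_subgroup_dvd_card _) _ ?_
  intro p hp
  simp only [List.cons_append, List.nil_append, List.mem_cons] at hp
  rcases hp with rfl | rfl | rfl | hp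
  · refine not_dvd_cent hr Nat.prime_two hR fun y hy => ?_
    rw [H513.NilpTh.card_inv hy]
    exact h1
  · exact not_dvd_cent hr Nat.prime_five hR fun y hy => H513.NilpTh.not_dvd_cent5 hy hr h1 h2
  · refine not_dvd_cent hr (by norm_num) hR fun y hy => ?_
    obtain ⟨t, ht, hty⟩ := ThType.Seven.exists_involution_Th Cfsg.Agent.Th.Main1700.isTh hy
    rcases H723.Spor.Th.card_seven KFacts.Th.Main.ctx H723.Spor.Th.hone hy ht hty with h5 | h5
    · rw [h5]; exact h3
    · rw [h5]; exact h4
  · exact not_dvd_cent hr (hps p hp).1 hR (hps p hp).2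

theorem sq13 : ¬ 13 ^ 2 ∣ Nat.card G := by rw [card]; decide +kernel
theorem sq19 : ¬ 19 ^ 2 ∣ Nat.card G := by rw [card]; decide +kernel

/-- the action of the normalizer of a subgroup of order 13 has order divisible by 4 -/
theorem four {R : Subgroup G} (hR : Nat.card R = 13) :
    4 * Nat.card (centralizer (R : Set G)) ∣ Nat.card (normalizer (R : Set G)) := by
  have := fin
  have : Fact (Nat.Prime 13) := ⟨by norm_num⟩
  obtain ⟨x, h, hx, hh, h4⟩ := exists_Th
  have hR0 : Nat.card (zpowers x) = 13 := by rw [Nat.card_zpowers, hx]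
  obtain ⟨K, e, s, -, -, -, -, hP⟩ := H904.SylOne.main (T := G) (p := 13) sq13 hx
  rw [(hP R hR).1, (hP R hR).2]
  obtain ⟨c1, c2⟩ := hP _ hR0
  rw [← c2, ← c1]
  refine dvd_nc (h := h) (q := 2) (k := 1) (α := 5) Nat.prime_two hh h4 ?_
  rw [pow_one]
  intro h2
  have h3 : h * x ^ 5 = x ^ 25 * h := by
    have e1 : h * x * h⁻¹ = x ^ 5 := mul_inv_eq_of_eq_mul hh
    have e2 : h * x ^ 5 * h⁻¹ = x ^ 25 := by
      rw [← conj_pow, e1, ← pow_mul]
    exact (mul_inv_eq_iff_eq_mul.1 e2)
  have h5 : h ^ 2 * x = x ^ 25 * h ^ 2 := by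
    rw [pow_two, mul_assoc, hh, ← mul_assoc, h3, mul_assoc]
  rw [h5] at h2
  have h6 := mul_right_cancel h2
  have h7 : x ^ 24 = 1 := by
    rw [pow_succ] at h6
    exact mul_eq_right.1 h6
  have h8 := orderOf_dvd_of_pow_eq_one h7
  rw [hx] at h8
  exact absurd h8 (by norm_num)

theorem fC13 : l_th.filter (fun x => !(([2, 5, 7] ++ []).contains x.1)) = [(3, 10), (13, 1), (19, 1), (31, 1)] := by
  decide +kernel

theorem cent13 {R : Subgroup G} (hR : Nat.card R = 13) :
    Nat.card (centralizer (R : Set G)) ∣ prodl [(3, 10), (13, 1), (19, 1), (31, 1)] := by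
  rw [← fC13]
  exact cent_dvd (by norm_num) (by norm_num) (by norm_num) (by norm_num) (by norm_num) []
    (fun p hp => absurd hp List.not_mem_nil) hR

theorem data13 {R : Subgroup G} (hR : Nat.card R = 13) :
    Nat.card (centralizer (R : Set G)) ∣ ld13.C ∧ Nat.card (normalizer (R : Set G)) ∣ prodl ld13.fN ∧
      468 ∣ Nat.card (normalizer (R : Set G)) := by
  have := fin
  have := simple
  have h := cnP_sound not_comm card (r := 13) (fC := [(3, 10), (13, 1), (19, 1), (31, 1)]) (by decide +kernel)
    (by decide +kernel) (by decide +kernel) hR (cent13 hR)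
    (P := fun c m => m % (4 * c) != 0 || (ld13.C % c == 0 && (prodl ld13.fN) % m == 0 && m % 468 == 0))
    (by decide +kernel) hR
  rw [Bool.or_eq_true, bne_iff_ne, Bool.and_eq_true, Bool.and_eq_true, beq_iff_eq, beq_iff_eq, beq_iff_eq] at h
  rcases h with h | h
  · exact absurd (Nat.mod_eq_zero_of_dvd (four hR)) h
  · exact ⟨Nat.dvd_of_mod_eq_zero h.1.1, Nat.dvd_of_mod_eq_zero h.1.2, Nat.dvd_of_mod_eq_zero h.2⟩

theorem loc13 : Loc G ld13 :=
  loc_of_eq card (by decide +kernel) (by decide +kernel) (by decide +kernel) fun _ hR =>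
    ⟨(data13 hR).1, (data13 hR).2.1⟩

theorem not_dvd13 {r : ℕ} (hr : ¬ r ∣ ld13.C) (y : G) (hy : orderOf y = 13) :
    ¬ r ∣ Nat.card (centralizer ({y} : Set G)) := by
  intro h
  apply hr
  refine h.trans ?_
  rw [← H904.SylOne.centralizer_zpowers_eq]
  exact (data13 (by rw [Nat.card_zpowers, hy])).1

section nineteen

open Cfsg.Agent.H964.NoHall

/-- the action of the normalizer of a subgroup of order 19 has order 18 -/
theorem eighteen {R : Subgroup G} (hR : Nat.card R = 19) :
    18 * Nat.card (centralizer (R : Set G)) ∣ Nat.card (normalizer (R : Set G)) := by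
  have := fin
  have : Fact (Nat.Prime 19) := ⟨by norm_num⟩
  have hx : orderOf (thE thW) = 19 := thW_order
  have hR0 : Nat.card (zpowers (thE thW)) = 19 := by rw [Nat.card_zpowers, hx]
  obtain ⟨K, e, s, -, -, -, -, hP⟩ := H904.SylOne.main (T := G) (p := 19) sq19 hx
  rw [(hP R hR).1, (hP R hR).2]
  obtain ⟨c1, c2⟩ := hP _ hR0
  have hne : ∀ k : ℕ, ¬ 19 ∣ k → thE thW ^ k ≠ 1 := fun k hk h => hk (hx ▸ orderOf_dvd_of_pow_eq_one h)
  have h9 : 3 ^ (1 + 1) * (19 * K) ∣ 19 * K * e := by
    rw [← c2, ← c1]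
    refine dvd_nc (h := thE thH) (α := 6) Nat.prime_three thH_conj ?_ ?_
    · have h := thE_eq thH_9
      rw [thE_pow, thE_pow, ← pow_mul, thE_one] at h
      exact h
    · rw [pow_one]
      intro h2
      have e1 : thE thH * thE thW * (thE thH)⁻¹ = thE thW ^ 6 := mul_inv_eq_of_eq_mul thH_conj
      have h3 : ∀ n : ℕ, thE thH * thE thW ^ n = thE thW ^ (6 * n) * thE thH := by
        intro n
        apply mul_inv_eq_iff_eq_mul.1
        rw [← conj_pow, e1, ← pow_mul]
      have h4 : thE thH ^ 3 * thE thW = thE thW ^ 216 * thE thH ^ 3 := by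
        have h5 := h3 1
        rw [pow_one] at h5
        rw [pow_succ, pow_succ, pow_one, mul_assoc, h5, ← mul_assoc, mul_assoc (thE thH) (thE thH), h3, ← mul_assoc, h3]
        simp only [mul_assoc]
      rw [h4] at h2
      have h5 : thE thW ^ 215 = 1 := by
        have h6 := mul_right_cancel h2
        rw [pow_succ] at h6
        exact mul_eq_right.1 h6
      exact hne 215 (by norm_num) h5
  have h2 : 2 ^ (0 + 1) * (19 * K) ∣ 19 * K * e := by
    rw [← c2, ← c1]
    refine dvd_nc (h := thE (.g .a)) (α := 18) Nat.prime_two thA_conj ?_ ?_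
    · have h := thE_eq thA_2
      rw [thE_pow, thE_one] at h
      exact h
    · rw [pow_zero, pow_one, thA_conj]
      intro h2
      have h5 : thE thW ^ 17 = 1 := by
        have h6 := mul_right_cancel h2
        rw [pow_succ] at h6
        exact mul_eq_right.1 h6
      exact hne 17 (by norm_num) h5
  have hK : 0 < 19 * K := by rw [← c1]; exact Nat.card_pos
  rw [mul_comm (3 ^ (1 + 1))] at h9
  rw [mul_comm (2 ^ (0 + 1))] at h2
  have h9' := Nat.dvd_of_mul_dvd_mul_left hK h9
  have h2' := Nat.dvd_of_mul_dvd_mul_left hK h2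
  rw [mul_comm 18]
  apply Nat.mul_dvd_mul_left
  exact Nat.Coprime.mul_dvd_of_dvd_of_dvd (by norm_num : Nat.Coprime 9 2) h9' h2'

end nineteen

theorem fC19 : l_th.filter (fun x => !(([2, 5, 7] ++ [13]).contains x.1)) = [(3, 10), (19, 1), (31, 1)] := by
  decide +kernel

theorem cent19 {R : Subgroup G} (hR : Nat.card R = 19) :
    Nat.card (centralizer (R : Set G)) ∣ prodl [(3, 10), (19, 1), (31, 1)] := by
  rw [← fC19]
  refine cent_dvd (by norm_num) (by norm_num) (by norm_num) (by norm_num) (by norm_num) [13] (fun p hp => ?_) hR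
  rw [List.mem_singleton.1 hp]
  exact ⟨by norm_num, not_dvd13 (by decide +kernel)⟩

theorem cent31 {R : Subgroup G} (hR : Nat.card R = 31) :
    Nat.card (centralizer (R : Set G)) ∣ prodl [(3, 10), (19, 1), (31, 1)] := by
  rw [← fC19]
  refine cent_dvd (by norm_num) (by norm_num) (by norm_num) (by norm_num) (by norm_num) [13] (fun p hp => ?_) hR
  rw [List.mem_singleton.1 hp]
  exact ⟨by norm_num, not_dvd13 (by decide +kernel)⟩

/-- a subgroup `Q` of order `p` of a normal subgroup `C` of `N` is normal in `N` if the numbers `≡ 1` modulo `p` dividing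
`|C|` are trivial -/
theorem normal_of_count {T : Type*} [Group T] [Finite T] {p : ℕ} [hp : Fact p.Prime] {C N Q : Subgroup T}
    (hCN : ∀ n ∈ N, ∀ c ∈ C, n * c * n⁻¹ ∈ C) (hQC : Q ≤ C) (hQ : Nat.card Q = p) (h2 : ¬ p ^ 2 ∣ Nat.card C)
    (hs : ∀ s : ℕ, s ∣ Nat.card C → s ≡ 1 [MOD p] → s = 1) : N ≤ normalizer (Q : Set T) := by
  -- `Q` is the only subgroup of order `p` in `C`
  have key : ∀ Q' : Subgroup T, Q' ≤ C → Nat.card Q' = p → Q' = Q := by
    intro Q' hQ'C hQ'
    have hc : ∀ X : Subgroup T, X ≤ C → Nat.card X = p → Nat.card (X.subgroupOf C) = p := by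
      intro X hX hXc
      rw [Nat.card_congr (Subgroup.subgroupOfEquivOfLe hX).toEquiv, hXc]
    obtain ⟨S, hS⟩ := H904.SylOne.exists_sylow (hc Q hQC hQ) h2
    obtain ⟨S', hS'⟩ := H904.SylOne.exists_sylow (hc Q' hQ'C hQ') h2
    have h1 : Nat.card (Sylow p C) = 1 := by
      apply hs _ _ (card_sylow_modEq_one p C)
      rw [Sylow.card_eq_index_normalizer S]
      exact Subgroup.index_dvd_card _
    have h3 : S = S' := by
      have : Subsingleton (Sylow p C) := (Nat.card_eq_one_iff_unique.1 h1).1
      exact Subsingleton.elim _ _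
    have h4 : Q.subgroupOf C = Q'.subgroupOf C := by rw [← hS, ← hS', h3]
    apply le_antisymm
    · intro z hz
      have h5 : (⟨z, hQ'C hz⟩ : C) ∈ Q'.subgroupOf C := hz
      rw [← h4] at h5
      exact h5
    · intro z hz
      have h5 : (⟨z, hQC hz⟩ : C) ∈ Q.subgroupOf C := hz
      rw [h4] at h5
      exact h5
  intro n hn
  have h1 := key (Q.map (MulAut.conj n).toMonoidHom) (by
    rintro _ ⟨z, hz, rfl⟩
    exact hCN n hn z (hQC hz)) (by rw [card_map_of_injective (MulAut.conj n).injective, hQ])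
  apply mem_normalizer_fintype
  intro z hz
  rw [← h1]
  exact ⟨z, hz, rfl⟩

theorem centralizer_conj {T : Type*} [Group T] {R : Subgroup T} :
    ∀ n ∈ normalizer (R : Set T), ∀ c ∈ centralizer (R : Set T), n * c * n⁻¹ ∈ centralizer (R : Set T) := by
  intro n hn c hc
  rw [mem_centralizer_iff] at hc ⊢
  intro z hz
  have h1 : n⁻¹ * z * n ∈ R := by
    have h2 := (mem_normalizer_iff.1 hn (n⁻¹ * z * n)).2 (by
      have h3 : n * (n⁻¹ * z * n) * n⁻¹ = z := by group
      rw [h3]
      exact hz)
    exact h2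
  have h2 := hc _ h1
  calc z * (n * c * n⁻¹) = n * ((n⁻¹ * z * n) * c) * n⁻¹ := by group
    _ = n * (c * (n⁻¹ * z * n)) * n⁻¹ := by rw [h2]
    _ = n * c * n⁻¹ * z := by group

theorem data19 {R : Subgroup G} (hR : Nat.card R = 19) :
    Nat.card (centralizer (R : Set G)) = 19 ∧ Nat.card (normalizer (R : Set G)) = 342 := by
  have := fin
  have := simple
  have h := cnP_sound not_comm card (r := 19) (fC := [(3, 10), (19, 1), (31, 1)]) (by decide +kernel)
    (by decide +kernel) (by decide +kernel) hR (cent19 hR)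
    (P := fun c m => m % (18 * c) != 0 || (c == 19 && m == 342) || (c == 15903 && m == 286254))
    (by decide +kernel) hR
  rw [Bool.or_eq_true, Bool.or_eq_true, bne_iff_ne, Bool.and_eq_true, Bool.and_eq_true, beq_iff_eq, beq_iff_eq,
    beq_iff_eq, beq_iff_eq] at h
  rcases h with (h | h) | h
  · exact absurd (Nat.mod_eq_zero_of_dvd (eighteen hR)) h
  · exact h
  · exfalso
    obtain ⟨h1, h2⟩ := h
    have h31 : Fact (Nat.Prime 31) := ⟨by norm_num⟩
    obtain ⟨y, hy⟩ := exists_prime_orderOf_dvd_card' (G := centralizer (R : Set G)) 31 (by rw [h1]; norm_num)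
    have hQ : Nat.card (zpowers (y : G)) = 31 := by rw [Nat.card_zpowers, Subgroup.orderOf_coe, hy]
    have h3 : normalizer (R : Set G) ≤ normalizer ((zpowers (y : G) : Subgroup G) : Set G) := by
      refine normal_of_count (p := 31) (C := centralizer (R : Set G)) centralizer_conj
        (by rw [zpowers_le]; exact y.2) hQ (by rw [h1]; norm_num) ?_
      intro s hs hs1
      rw [h1] at hs
      have h5 : s ∈ divsT [(3, 3), (19, 1), (31, 1)] := by
        apply mem_divsT
        · simp; norm_num
        · exact hs.trans (by decide +kernel)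
      have h6 : (divsT [(3, 3), (19, 1), (31, 1)]).all (fun s => s == 1 || s % 31 != 1) = true := by decide +kernel
      rw [List.all_eq_true] at h6
      have h7 := h6 s h5
      rw [Bool.or_eq_true, beq_iff_eq, bne_iff_ne] at h7
      rcases h7 with h7 | h7
      · exact h7
      · exact absurd hs1 h7
    have h4 := card_dvd_of_le h3
    rw [h2] at h4
    have h5 := cnP_sound not_comm card (r := 31) (fC := [(3, 10), (19, 1), (31, 1)]) (by decide +kernel)
      (by decide +kernel) (by decide +kernel) hQ (cent31 hQ)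
      (P := fun _ m => m % 286254 != 0) (by decide +kernel) hQ
    rw [bne_iff_ne] at h5
    exact h5 (Nat.mod_eq_zero_of_dvd h4)

theorem loc19 : Loc G ld19 := by
  refine loc_of_eq card (by decide +kernel) (by decide +kernel) (by decide +kernel) fun R hR => ?_
  obtain ⟨h1, h2⟩ := data19 hR
  rw [h1, h2]
  decide +kernel

theorem fC31 : l_th.filter (fun x => !(([2, 5, 7] ++ [13, 19]).contains x.1)) = [(3, 10), (31, 1)] := by
  decide +kernel

theorem cent31' {R : Subgroup G} (hR : Nat.card R = 31) :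
    Nat.card (centralizer (R : Set G)) ∣ prodl [(3, 10), (31, 1)] := by
  rw [← fC31]
  refine cent_dvd (by norm_num) (by norm_num) (by norm_num) (by norm_num) (by norm_num) [13, 19] (fun p hp => ?_) hR
  simp only [List.mem_cons, List.not_mem_nil, or_false] at hp
  rcases hp with rfl | rfl
  · exact ⟨by norm_num, not_dvd13 (by decide +kernel)⟩
  · refine ⟨by norm_num, fun y hy h => ?_⟩
    rw [← H904.SylOne.centralizer_zpowers_eq, (data19 (by rw [Nat.card_zpowers, hy])).1] at h
    exact absurd h (by norm_num)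

theorem data31 {R : Subgroup G} (hR : Nat.card R = 31) :
    Nat.card (centralizer (R : Set G)) ∣ ld31.C ∧ Nat.card (normalizer (R : Set G)) ∣ prodl ld31.fN ∧
      465 ∣ Nat.card (normalizer (R : Set G)) := by
  have := fin
  have := simple
  have h := cnP_sound not_comm card (r := 31) (fC := [(3, 10), (31, 1)]) (by decide +kernel)
    (by decide +kernel) (by decide +kernel) hR (cent31' hR)
    (P := fun c m => ld31.C % c == 0 && (prodl ld31.fN) % m == 0 && m % 465 == 0)
    (by decide +kernel) hR
  rw [Bool.and_eq_true, Bool.and_eq_true, beq_iff_eq, beq_iff_eq, beq_iff_eq] at h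
  exact ⟨Nat.dvd_of_mod_eq_zero h.1.1, Nat.dvd_of_mod_eq_zero h.1.2, Nat.dvd_of_mod_eq_zero h.2⟩

theorem loc31 : Loc G ld31 :=
  loc_of_eq card (by decide +kernel) (by decide +kernel) (by decide +kernel) fun _ hR =>
    ⟨(data31 hR).1, (data31 hR).2.1⟩

theorem ctx (B : Base) : Ctx G l_th n_th o_th loc where
  fin := fin
  simple := simple
  card := card
  val := v_th
  nodup := nd_th
  ords := ords_th B
  loc := by
    intro ld hld
    simp only [loc, List.mem_cons, List.not_mem_nil, or_false] at hld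
    rcases hld with rfl | rfl | rfl
    · exact loc13
    · exact loc19
    · exact loc31

/-! ### overgroups, split by the primes 13, 19, 31 -/

/-- an item from the enumerations at three primes and the enumeration of the orders prime to them -/
theorem good4 {T : Type} [Group T] {l : List (ℕ × ℕ)} {n : ℕ} {ords : List ℕ} {lo : List LD} (c : Ctx T l n ords lo)
    {A : Subgroup T} (hA : A ≠ ⊤) {x : CI} (ha : x.a ∣ Nat.card A) (hf : ∀ p ∈ x.full, Full p A) (bd : ℕ)
    {l1 l2 l3 : LD} (m1 : l1 ∈ lo) (m2 : l2 ∈ lo) (m3 : l3 ∈ lo)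
    (k1 : chkO2 l n (Nat.lcm x.a l1.r) l1 x.ords x.full bd lo ords = true)
    (k2 : chkO2 l n (Nat.lcm x.a l2.r) l2 x.ords x.full bd lo ords = true)
    (k3 : chkO2 l n (Nat.lcm x.a l3.r) l3 x.ords x.full bd lo ords = true)
    (lD : List (ℕ × ℕ)) {q : ℕ} (hq : q = l1.r * l2.r * l3.r)
    (k4 : chkR l n x.a q lD x.ords x.full bd ords = true) : x.Good A := by
  have := c.fin
  have := c.simple
  refine ⟨hA, ha, hf, fun K hAK hK => ?_⟩
  have haK : x.a ∣ Nat.card K := ha.trans (card_dvd_of_le hAK)
  have hfK : ∀ p ∈ x.full, Full p K := fun p hp => (hf p hp).mono hAK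
  by_cases d1 : l1.r ∣ Nat.card K
  · exact c.orders2 l1 m1 x.ords x.full bd k1 (Nat.lcm_dvd haK d1) hfK hK
  by_cases d2 : l2.r ∣ Nat.card K
  · exact c.orders2 l2 m2 x.ords x.full bd k2 (Nat.lcm_dvd haK d2) hfK hK
  by_cases d3 : l3.r ∣ Nat.card K
  · exact c.orders2 l3 m3 x.ords x.full bd k3 (Nat.lcm_dvd haK d3) hfK hK
  have p1 : l1.r.Prime := (c.loc l1 m1).1
  have p2 : l2.r.Prime := (c.loc l2 m2).1
  have p3 : l3.r.Prime := (c.loc l3 m3).1
  have hcop : Nat.Coprime q (Nat.card K) := by
    rw [hq]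
    exact (((Nat.Prime.coprime_iff_not_dvd p1).2 d1).mul_left ((Nat.Prime.coprime_iff_not_dvd p2).2 d2)).mul_left
      ((Nat.Prime.coprime_iff_not_dvd p3).2 d3)
  unfold chkR at k4
  rw [Bool.and_eq_true, Bool.and_eq_true, List.all_eq_true, beq_iff_eq, List.all_eq_true] at k4
  obtain ⟨⟨h1, h2⟩, h3⟩ := k4
  have hcard := card_mul_index K
  rw [c.card] at hcard
  have hn : 0 < n := valid_pos c.val
  have hqn : q ∣ n := by rw [← h2]; exact ⟨x.a * prodl lD, by ring⟩
  have hqi : q ∣ K.index := by
    rw [← hcard] at hqn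
    exact hcop.dvd_of_dvd_mul_left hqn
  obtain ⟨d, hd⟩ := hqi
  obtain ⟨z, hz⟩ := haK
  have hapos : 0 < x.a * q := Nat.pos_of_ne_zero (by
    intro h0
    rw [← mul_assoc, h0, zero_mul] at h2
    exact hn.ne h2)
  have h4 : z * d = prodl lD := by
    apply Nat.eq_of_mul_eq_mul_left hapos
    have h5 : x.a * q * prodl lD = n := by rw [← h2]; ring
    rw [h5, ← hcard, hd, hz]
    ring
  have h5 := h3 d (mem_divsT (fun x hx => prime_of (h1 x hx)) ⟨z, by rw [← h4]; ring⟩)
  have hpos : 0 < K.index := Nat.pos_of_ne_zero index_ne_zero_of_finite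
  have h6 : n / (q * d) = Nat.card K := by
    rw [← hd]
    exact Nat.div_eq_of_eq_mul_left hpos hcard.symm
  rw [h6, Bool.or_eq_true, List.contains_iff_mem] at h5
  rcases h5 with h5 | h5
  · exact h5
  · rw [not_bad c.val c.card c.ords (loc := []) (fun ld hld => absurd hld List.not_mem_nil) hfK hK] at h5
    exact absurd h5 (by decide)

theorem m13 : ld13 ∈ loc := by simp [loc]
theorem m19 : ld19 ∈ loc := by simp [loc]
theorem m31 : ld31 ∈ loc := by simp [loc]

/-- the row `Th` -/
theorem five (B : Base) : Sep 5 G := by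
  have c := ctx B
  have := fin
  have := simple
  have hc := card
  obtain ⟨R13, h13⟩ := exists_card_eq (G := G) (r := 13) (by decide +kernel) (by rw [hc]; decide +kernel)
  obtain ⟨R19, h19⟩ := exists_card_eq (G := G) (r := 19) (by decide +kernel) (by rw [hc]; decide +kernel)
  obtain ⟨R31, h31⟩ := exists_card_eq (G := G) (r := 31) (by decide +kernel) (by rw [hc]; decide +kernel)
  have p3 : Fact (Nat.Prime 3) := ⟨by norm_num⟩
  have p5 : Fact (Nat.Prime 5) := ⟨by norm_num⟩
  have p7 : Fact (Nat.Prime 7) := ⟨by norm_num⟩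
  obtain ⟨P3⟩ := (inferInstance : Nonempty (Sylow 3 G))
  obtain ⟨P5⟩ := (inferInstance : Nonempty (Sylow 5 G))
  obtain ⟨P7⟩ := (inferInstance : Nonempty (Sylow 7 G))
  obtain ⟨t, ht⟩ : ∃ t : G, orderOf t = 2 :=
    ⟨_, MonsterX.ThOneClass.orderOf_a⟩
  obtain ⟨D, hD⟩ : ∃ D : Subgroup G, Nat.card D = 634023936 := ⟨_, Cfsg.Agent.Th.Final.main.2.2.1⟩
  have ne : ∀ {K : Subgroup G} {k : ℕ}, Nat.card K = k → (k != n_th) = true → K ≠ ⊤ := by
    intro K k h1 h2 h3
    rw [h3, card_top, hc] at h1
    rw [bne_iff_ne] at h2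
    exact h2 h1.symm
  have fr : ∀ {r : ℕ} {R : Subgroup G}, isPrimeB r = true → (n_th % (r ^ 2) != 0) = true → Nat.card R = r →
      ∀ p ∈ [r], Full p (normalizer (R : Set G)) := by
    intro r R h1 h2 h3 p hp
    rw [List.mem_singleton.1 hp]
    exact full_of_card hc h1 h2 h3
  have hA : ∀ x ∈ [i0, i1, i2, i3, i4, i5, i6, i7], x.Good ((fun x : CI => match x.id with
      | 0 => D
      | 1 => normalizer (R19 : Set G)
      | 2 => normalizer (R31 : Set G)
      | 3 => normalizer (R13 : Set G)
      | 4 => centralizer ({t} : Set G)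
      | 5 => normalizer ((P7 : Subgroup G) : Set G)
      | 6 => normalizer ((P3 : Subgroup G) : Set G)
      | _ => normalizer ((P5 : Subgroup G) : Set G)) x) := by
    intro x hx
    simp only [List.mem_cons, List.not_mem_nil, or_false] at hx
    rcases hx with rfl | rfl | rfl | rfl | rfl | rfl | rfl | rfl
    · exact c.good2 (ne hD (by decide +kernel)) (x := i0) (by rw [show i0.a = 634023936 from rfl]; exact hD.symm.dvd)
        (fun p hp => absurd hp List.not_mem_nil) _ m13 _ k0
    · exact c.good2 (normalizer_ne_top' (by decide +kernel) (by decide +kernel) h19) (x := i1)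
        (by rw [show i1.a = 342 from rfl]; exact (data19 h19).2.symm.dvd)
        (fr (by decide +kernel) (by decide +kernel) h19) _ m19 _ k1
    · exact c.good2 (normalizer_ne_top' (by decide +kernel) (by decide +kernel) h31) (x := i2) (data31 h31).2.2
        (fr (by decide +kernel) (by decide +kernel) h31) _ m31 _ k2
    · exact c.good2 (normalizer_ne_top' (by decide +kernel) (by decide +kernel) h13) (x := i3) (data13 h13).2.2
        (fr (by decide +kernel) (by decide +kernel) h13) _ m13 _ k3
    · exact good4 c (ne (H513.NilpTh.card_inv ht) (by decide +kernel)) (x := i4)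
        (by rw [show i4.a = 92897280 from rfl]; exact (H513.NilpTh.card_inv ht).symm.dvd)
        (fun p hp => absurd hp List.not_mem_nil) _ m13 m19 m31 k4a k4b k4c _ (by decide +kernel) k4d
    · exact good4 c (normalizer_ne_top (by decide +kernel) P7) (x := i5)
        (by rw [show i5.a = 7 ^ 2 from rfl]; exact full_sylow (by decide +kernel) P7)
        (fun p hp => by rw [List.mem_singleton.1 hp]; exact full_normalizer p7.out P7) _ m13 m19 m31
        k5a k5b k5c _ (by decide +kernel) k5d
    · exact good4 c (normalizer_ne_top (by decide +kernel) P3) (x := i6)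
        (by rw [show i6.a = 3 ^ 10 from rfl]; exact full_sylow (by decide +kernel) P3)
        (fun p hp => by rw [List.mem_singleton.1 hp]; exact full_normalizer p3.out P3) _ m13 m19 m31
        k6a k6b k6c _ (by decide +kernel) k6d
    · exact good4 c (normalizer_ne_top (by decide +kernel) P5) (x := i7)
        (by rw [show i7.a = 5 ^ 3 from rfl]; exact full_sylow (by decide +kernel) P5)
        (fun p hp => by rw [List.mem_singleton.1 hp]; exact full_normalizer p5.out P5) _ m13 m19 m31
        k7a k7b k7c _ (by decide +kernel) k7d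
  exact sep_of_cover hc (fun _ _ => false) [i0, i1, i2, i3, i4, i5, i6, i7] _ hA
    (fun x _ y _ h => absurd h (by decide)) cov

end Cfsg.Agent.H303.MaxTh
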