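import Cfsg.Agent.H947.El.Ree
import Cfsg.Agent.H452.FprDeg
import Cfsg.Agent.S2343
import Cfsg.Agent.S1155
import Cfsg.Agent.S1157
import Cfsg.Agent.S1073
import Cfsg.Agent.H902.MonoRee
import Cfsg.Agent.H56.Exc.Fac

/-!
# The small Ree groups have no factorisation with a solvable factor (helper303, task 2839, S5937)

`R = ²G₂(q)`, `q = 3 ^ (2m + 1) ≥ 27`, `r = 3 ^ (m + 1)`, `q² - q + 1 = (q - r + 1)(q + r + 1)`. Let `H` be solvable,
`M` proper, `|R : M|` a divisor of `|H|`.

* If a prime `s ∣ q² - q + 1` divides `|H|` then `|H| ≤ 6 (q + r + 1)`: look at a minimal normal subgroup of `H`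
  (`card_le_of_solvable`).
* `|R : M| ≥ q² - q + 1` (the degrees of the characters). So no prime divisor of `q² - q + 1` divides the index.
* A subgroup whose order is divisible by `q² - q + 1` is `R` (after helper947, `H947/El/Ree*`).
-/

set_option autoImplicit false
set_option linter.unusedSectionVars false

namespace Cfsg.Agent.H303.ReeFac

open Subgroup MulAction Cfsg Cfsg.Agent.H947.El

section

variable {R : Type*} [Group R] [Finite R] {m q r ρ : ℕ} (h : ReeF R m q r) (n : ReeN m q r ρ)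

include n

theorem sq_sub : q ^ 2 - q = (q - 1) * q := by rw [Nat.sub_mul, one_mul, pow_two]

/-- the primes dividing `q² - q + 1` -/
theorem prime_facts {s : ℕ} (hs : s.Prime) (hd : s ∣ q ^ 2 - q + 1) :
    5 ≤ s ∧ ¬ s ∣ q ∧ ¬ s ∣ q - 1 ∧ ¬ s ∣ q + 1 := by
  have h27 := n.q27
  have hq3 := n.q3
  have hq2 := n.q2
  have e := sq_sub n
  have h1 : ¬ s ∣ q := by
    intro h1
    rw [e] at hd
    exact hs.one_lt.ne' (Nat.dvd_one.1 ((Nat.dvd_add_right (h1.mul_left _)).1 hd))
  have h2 : ¬ s ∣ q - 1 := by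
    intro h1
    rw [e] at hd
    exact hs.one_lt.ne' (Nat.dvd_one.1 ((Nat.dvd_add_right (h1.mul_right _)).1 hd))
  have h3 : s ≠ 3 := by
    rintro rfl
    exact h1 hq3
  have h4 : s ≠ 2 := by
    rintro rfl
    apply h2
    omega
  have h5 : 5 ≤ s := by
    have := hs.two_le
    have : s ≠ 4 := by rintro rfl; exact absurd hs (by norm_num)
    omega
  refine ⟨h5, h1, h2, fun h6 => ?_⟩
  have h7 : (q + 1) * (q + 1) = (q ^ 2 - q + 1) + 3 * q := by
    have : q ≤ q ^ 2 := Nat.le_self_pow (by norm_num) q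
    obtain ⟨t, ht⟩ := Nat.exists_eq_add_of_le this
    rw [ht, Nat.add_sub_cancel_left]
    nlinarith
  have h8 : s ∣ 3 * q := (Nat.dvd_add_right hd).1 (h7 ▸ h6.mul_right _)
  rcases hs.dvd_mul.1 h8 with h9 | h9
  · have := Nat.le_of_dvd (by norm_num) h9
    omega
  · exact h1 h9

include h

theorem not_commute_two {s : ℕ} (hs : s.Prime) (hd : s ∣ q ^ 2 - q + 1) {x e : R} (hx : orderOf x = s)
    (he : orderOf e = 2) : x * e ≠ e * x := by
  intro hc
  obtain ⟨h5, h6, h7, h8⟩ := prime_facts n hs hd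
  have hco : Nat.Coprime (orderOf x) (orderOf e) := by
    rw [hx, he, Nat.coprime_primes hs Nat.prime_two]
    omega
  have h1 := (show Commute x e from hc).orderOf_mul_eq_mul_orderOf_of_coprime hco
  rw [hx, he] at h1
  have hρd : s ∣ orderOf (x * e) := h1 ▸ dvd_mul_right _ _
  have hed : 2 ∣ orderOf (x * e) := h1 ▸ dvd_mul_left _ _
  have h27 := n.q27
  have hrq := n.rq
  have hq2 := n.q2
  have hr2 := n.r2
  rcases h.ord (x * e) with h2 | h2 | h2 | h2 | h2 | h2
  · have h9 : s ∣ 2 * 3 := hρd.trans h2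
    rcases hs.dvd_mul.1 h9 with h9 | h9
    · have := Nat.le_of_dvd (by norm_num) h9; omega
    · have := Nat.le_of_dvd (by norm_num) h9; omega
  · have h9 : s ∣ 3 * 3 := hρd.trans h2
    rcases hs.dvd_mul.1 h9 with h9 | h9 <;>
    · have := Nat.le_of_dvd (by norm_num) h9; omega
  · exact h7 (hρd.trans h2)
  · exact h8 ((hρd.trans h2).trans (Nat.div_dvd_of_dvd (by have := n.q4; omega)))
  · have h3 := hed.trans h2
    omega
  · have h3 := hed.trans h2
    omega

/-- the action of an element of order `s` on a 2-subgroup -/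
theorem card_sub_one_two {s : ℕ} (hs : s.Prime) (hd : s ∣ q ^ 2 - q + 1) {x : R} (hx : orderOf x = s)
    {E : Subgroup R} (hE : IsPGroup 2 E) (hn : x ∈ Subgroup.normalizer (E : Set R)) : s ∣ Nat.card E - 1 := by
  have : Fact s.Prime := ⟨hs⟩
  let f := (Subgroup.normalizerMonoidHom E)
  have hpg : IsPGroup s (zpowers x) := IsPGroup.of_card (n := 1) (by rw [Nat.card_zpowers, hx, pow_one])
  let g : zpowers x →* MulAut E := f.comp (Subgroup.inclusion (by rw [zpowers_le]; exact hn))
  letI : MulAction (zpowers x) E := MulAction.compHom E g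
  have h1 := hpg.card_modEq_card_fixedPoints E
  have h2 : Nat.card (fixedPoints (zpowers x) E) = 1 := by
    rw [Nat.card_eq_one_iff_unique]
    refine ⟨⟨fun a b => ?_⟩, ⟨1, ?_⟩⟩
    · have key : ∀ a : fixedPoints (zpowers x) E, a.1 = 1 := by
        intro a
        by_contra ha
        have h3 : (x : R) * (a.1 : R) = (a.1 : R) * x := by
          have h4 := a.2 ⟨x, mem_zpowers x⟩
          have h5 : x * (a.1 : R) * x⁻¹ = (a.1 : R) := congrArg Subtype.val h4
          exact mul_inv_eq_iff_eq_mul.1 h5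
        obtain ⟨k, hk⟩ := (IsPGroup.iff_orderOf.1 hE) a.1
        have hk0 : k ≠ 0 := by
          rintro rfl
          rw [pow_zero, orderOf_eq_one_iff] at hk
          exact ha hk
        have h6 : orderOf ((a.1 : R) ^ 2 ^ (k - 1)) = 2 := by
          rw [orderOf_pow, Subgroup.orderOf_coe, hk, Nat.gcd_eq_right (pow_dvd_pow 2 (by omega)),
            Nat.pow_div (by omega) (by norm_num), show k - (k - 1) = 1 by omega, pow_one]
        exact not_commute_two h n hs hd hx h6 ((show Commute x a.1 from h3).pow_right _)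
      exact Subtype.ext ((key a).trans (key b).symm)
    · intro y
      exact map_one (g y)
  rw [h2] at h1
  exact (Nat.modEq_iff_dvd' Nat.card_pos).1 h1.symm

/-- a group of odd prime power order `> 3`, elementary abelian: the order and the normalizer -/
theorem normalizer_of_elem {p : ℕ} (hp : p.Prime) (h3p : 3 < p) {E : Subgroup R} (hE : IsPGroup p E) (hE1 : E ≠ ⊥)
    (hEe : ∀ x ∈ E, x ^ p = 1) : ∃ A : ℕ, ((2 * A = q - 1 ∧ Nat.card (Subgroup.normalizer (E : Set R)) = 4 * A) ∨
      (4 * A = q + 1 ∧ Nat.card (Subgroup.normalizer (E : Set R)) = 24 * A) ∨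
      ((A = q - r + 1 ∨ A = q + r + 1) ∧ Nat.card (Subgroup.normalizer (E : Set R)) = 6 * A)) := by
  have hnt : Nontrivial E := (Subgroup.nontrivial_iff_ne_bot E).2 hE1
  have hcE : 1 < Nat.card E := Finite.one_lt_card
  have hcyc := h.cyc p hp h3p E hE
  have hEp : Nat.card E = p := by
    have h1 : Monoid.exponent E ∣ p := by
      rw [Monoid.exponent_dvd_iff_forall_pow_eq_one]
      intro y
      exact Subtype.ext (hEe y y.2)
    rw [IsCyclic.exponent_eq_card] at h1
    rcases (Nat.dvd_prime hp).1 h1 with h2 | h2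
    · omega
    · exact h2
  obtain ⟨A, hAc, hEA, hA⟩ := h.norm p hp h3p E hEp
  exact ⟨Nat.card A, hA⟩

/-- a minimal normal subgroup of a subgroup, abelian case -/
theorem exists_elem (H : Subgroup R) [Group.IsSolvable H] [Nontrivial H] :
    ∃ (p : ℕ) (E : Subgroup R), p.Prime ∧ IsPGroup p E ∧ E ≠ ⊥ ∧ (∀ x ∈ E, x ^ p = 1) ∧
      H ≤ Subgroup.normalizer (E : Set R) := by
  obtain ⟨N, hN, hN1, hmin⟩ := Cfsg.Agent.Lib.SubnormalJoin.exists_minimal_normal H
  obtain ⟨T, k, hTN, hTs, hk, ⟨e⟩⟩ := Cfsg.Agent.Lib.MinNormal.exists_mulEquiv_pi N hN1 hmin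
  have hTsol : Group.IsSolvable T := inferInstance
  have hT := IsSimpleGroup.comm_iff_isSolvable (G := T) |>.2 hTsol
  have hab : ∀ x ∈ N, ∀ y ∈ N, Commute x y := by
    intro x hx y hy
    have h1 : (⟨x, hx⟩ : N) * ⟨y, hy⟩ = ⟨y, hy⟩ * ⟨x, hx⟩ := by
      apply e.injective
      rw [map_mul, map_mul]
      funext i
      exact hT _ _
    exact congrArg Subtype.val h1
  obtain ⟨p, hp, hpN, hexp⟩ := Cfsg.Agent.Lib.MinNormalNonabelian.abelian_structure N hN1 hmin hab
  refine ⟨p, N.map H.subtype, hp, hpN.map _, ?_, ?_, ?_⟩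
  · intro hb
    rw [Subgroup.map_eq_bot_iff_of_injective _ H.subtype_injective] at hb
    exact hN1 hb
  · rintro _ ⟨x, hx, rfl⟩
    rw [← map_pow, hexp x hx, map_one]
  · have h1 := Subgroup.le_normalizer_map (H := N) H.subtype
    rw [Subgroup.normalizer_eq_top N, ← MonoidHom.range_eq_map, Subgroup.range_subtype] at h1
    exact h1

/-- **a solvable subgroup meeting the tori of order `q ± r + 1` is small** -/
theorem card_le_of_solvable
    (hN3 : ∀ E : Subgroup R, IsPGroup 3 E → E ≠ ⊥ → Nat.card (Subgroup.normalizer (E : Set R)) ∣ q ^ 3 * (q - 1))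
    (hN2 : ∀ E : Subgroup R, Nat.card E = 8 → Nat.card (Subgroup.normalizer (E : Set R)) = 168)
    (H : Subgroup R) [Group.IsSolvable H] {s : ℕ} (hs : s.Prime) (hd : s ∣ q ^ 2 - q + 1) (hsH : s ∣ Nat.card H) :
    Nat.card H ≤ 6 * (q + r + 1) := by
  have hsF : Fact s.Prime := ⟨hs⟩
  obtain ⟨h5, h6, h7, h8⟩ := prime_facts n hs hd
  have h27 := n.q27
  have hq4 := n.q4
  have hrq := n.rq
  have hnt : Nontrivial H := by
    rw [← Finite.one_lt_card_iff_nontrivial]
    have := Nat.le_of_dvd Nat.card_pos hsH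
    omega
  obtain ⟨p, E, hp, hE, hE1, hEe, hHE⟩ := exists_elem h n H
  have hHd : Nat.card H ∣ Nat.card (Subgroup.normalizer (E : Set R)) := Subgroup.card_dvd_of_le hHE
  have hsN := hsH.trans hHd
  rcases Nat.lt_or_ge 3 p with h3p | hp3
  · obtain ⟨A, hA⟩ := normalizer_of_elem h n hp h3p hE hE1 hEe
    rcases hA with ⟨hA1, hA2⟩ | ⟨hA1, hA2⟩ | ⟨hA1, hA2⟩
    · exfalso
      rw [hA2, show 4 * A = 2 * (2 * A) by ring, hA1] at hsN
      rcases hs.dvd_mul.1 hsN with h1 | h1
      · have := Nat.le_of_dvd (by norm_num) h1; omega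
      · exact h7 h1
    · exfalso
      rw [hA2, show 24 * A = 2 * (3 * (4 * A)) by ring, hA1] at hsN
      rcases hs.dvd_mul.1 hsN with h1 | h1
      · have := Nat.le_of_dvd (by norm_num) h1; omega
      · rcases hs.dvd_mul.1 h1 with h1 | h1
        · have := Nat.le_of_dvd (by norm_num) h1; omega
        · exact h8 h1
    · have h1 := Nat.le_of_dvd Nat.card_pos hHd
      rw [hA2] at h1
      have h2 : A ≤ q + r + 1 := by rcases hA1 with hA1 | hA1 <;> omega
      omega
  · have hp23 : p = 2 ∨ p = 3 := by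
      have := hp.two_le
      omega
    rcases hp23 with rfl | rfl
    · obtain ⟨x, hx⟩ := exists_prime_orderOf_dvd_card' (G := H) s hsH
      have hxo : orderOf (x : R) = s := by rw [Subgroup.orderOf_coe, hx]
      have h1 := card_sub_one_two h n hs hd hxo hE (hHE x.2)
      have h2 := (h.pow_two_le n hE).1
      have hntE : Nontrivial E := (Subgroup.nontrivial_iff_ne_bot E).2 hE1
      have hcE : 1 < Nat.card E := Finite.one_lt_card
      obtain ⟨a, ha⟩ := (IsPGroup.iff_card).1 hE
      have h3 := Nat.le_of_dvd (by omega) h1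
      have h9 : Nat.card E = 8 := by
        rw [ha] at h2 h3 hcE ⊢
        have ha3 : a ≤ 3 := by
          by_contra hlt
          push Not at hlt
          have : 2 ^ 4 ≤ 2 ^ a := Nat.pow_le_pow_right (by norm_num) hlt
          omega
        interval_cases a <;> omega
      have h10 := Nat.le_of_dvd Nat.card_pos hHd
      rw [hN2 E h9] at h10
      omega
    · exfalso
      have h1 := hsN.trans (hN3 E hE hE1)
      rcases hs.dvd_mul.1 h1 with h1 | h1
      · exact h6 (hs.dvd_of_dvd_pow h1)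
      · exact h7 h1

/-- no elementary abelian subgroup is normalised by `M` if `q² - q + 1` divides `|M|` -/
theorem not_elem (M : Subgroup R) (hM : q ^ 2 - q + 1 ∣ Nat.card M) {p : ℕ} (hp : p.Prime)
    {E : Subgroup R} (hE : IsPGroup p E) (hE1 : E ≠ ⊥) (hEe : ∀ x ∈ E, x ^ p = 1)
    (hn : M ≤ Subgroup.normalizer (E : Set R)) : False := by
  have : Fact ρ.Prime := ⟨n.pr⟩
  have : Fact p.Prime := ⟨hp⟩
  have h27 := n.q27
  have h19 := n.q19
  have hge := n.ge
  have hm := h.hm
  have hrq := n.rq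
  obtain ⟨x, hx⟩ := exists_prime_orderOf_dvd_card' (G := M) ρ (n.dvd.trans hM)
  have hxo : orderOf (x : R) = ρ := by rw [Subgroup.orderOf_coe, hx]
  have hnt : Nontrivial E := (Subgroup.nontrivial_iff_ne_bot E).2 hE1
  have hcE : 1 < Nat.card E := Finite.one_lt_card
  obtain ⟨a, ha⟩ := (IsPGroup.iff_card).1 hE
  have ha0 : 0 < a := by
    rcases Nat.eq_zero_or_pos a with rfl | ha0
    · rw [pow_zero] at ha; omega
    · exact ha0
  rcases Nat.lt_or_ge 3 p with h3p | hp3
  · obtain ⟨A, hA⟩ := normalizer_of_elem h n hp h3p hE hE1 hEe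
    have hρN : ρ ∣ Nat.card (Subgroup.normalizer (E : Set R)) :=
      (n.dvd.trans hM).trans (Subgroup.card_dvd_of_le hn)
    rcases hA with ⟨hA1, hA2⟩ | ⟨hA1, hA2⟩ | ⟨hA1, hA2⟩
    · rw [hA2, show 4 * A = 2 * (2 * A) by ring, hA1] at hρN
      rcases n.pr.dvd_mul.1 hρN with h1 | h1
      · have := Nat.le_of_dvd (by norm_num) h1; omega
      · exact n.nq1 h1
    · rw [hA2, show 24 * A = 6 * (4 * A) by ring, hA1] at hρN
      rcases n.pr.dvd_mul.1 hρN with h1 | h1
      · have := Nat.le_of_dvd (by norm_num) h1; omega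
      · exact n.nqp h1
    · have h1 := Nat.le_of_dvd Nat.card_pos (hM.trans (Subgroup.card_dvd_of_le hn))
      rw [hA2, n.fac] at h1
      have h2 : A ≤ q + r + 1 := by rcases hA1 with hA1 | hA1 <;> omega
      have h3 : 7 ≤ q - r + 1 := by omega
      have h4 : 7 * (q + r + 1) ≤ (q - r + 1) * (q + r + 1) := Nat.mul_le_mul_right _ h3
      omega
  · have hp23 : p = 2 ∨ p = 3 := by
      have := hp.two_le
      omega
    have h1 := h.card_sub_one n hxo hp23 hE (hn x.2)
    rcases hp23 with rfl | rfl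
    · have := (h.pow_two_le n hE).1
      have := Nat.le_of_dvd (by omega) h1
      omega
    · rw [ha] at h1
      have h2 := Nat.le_of_dvd ha0 ((n.iff a).1 h1)
      have h3 : 3 ^ a ∣ q ^ 3 * (q - 1) * (q ^ 3 + 1) := by
        rw [← ha, ← h.card]; exact Subgroup.card_subgroup_dvd_card _
      have h4 : Nat.Coprime (3 ^ a) (q - 1) := by
        apply Nat.Coprime.pow_left
        rw [Nat.prime_three.coprime_iff_not_dvd]
        have := n.q3
        omega
      have h5 : Nat.Coprime (3 ^ a) (q ^ 3 + 1) := by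
        apply Nat.Coprime.pow_left
        rw [Nat.prime_three.coprime_iff_not_dvd]
        intro h6
        have h7 : 3 ∣ q ^ 3 := n.q3.pow (by norm_num)
        omega
      have h6 := h4.dvd_of_dvd_mul_right (h5.dvd_of_dvd_mul_right h3)
      rw [h.hq, ← pow_mul] at h6
      have h7 := (Nat.pow_dvd_pow_iff_le_right (by norm_num)).1 h6
      omega

/-- **a subgroup whose order is divisible by `q² - q + 1`** -/
theorem eq_top (M : Subgroup R) (hM : q ^ 2 - q + 1 ∣ Nat.card M) : M = ⊤ := by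
  classical
  have hf2 : Fact (Nat.Prime 2) := ⟨Nat.prime_two⟩
  have hρM : ρ ∣ Nat.card M := n.dvd.trans hM
  have h19 := n.q19
  have h16 : ¬ 16 ∣ Nat.card R := by
    intro h1
    obtain ⟨S⟩ : Nonempty (Sylow 2 R) := inferInstance
    have h2 := (h.syl2 S).1
    rw [S.card_eq_multiplicity] at h2
    have h3 : 4 ≤ (Nat.card R).factorization 2 :=
      (Nat.prime_two.pow_dvd_iff_le_factorization Nat.card_pos.ne').1 (by norm_num; exact h1)
    have h4 : 2 ^ 4 ≤ 2 ^ (Nat.card R).factorization 2 := Nat.pow_le_pow_right (by norm_num) h3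
    omega
  have hnt : Nontrivial M := by
    rw [← Finite.one_lt_card_iff_nontrivial]
    have := Nat.le_of_dvd Nat.card_pos hρM
    omega
  obtain ⟨N, hN, hN1, hmin⟩ := Cfsg.Agent.Lib.SubnormalJoin.exists_minimal_normal M
  obtain ⟨T, k, hTN, hTs, hk, ⟨e⟩⟩ := Cfsg.Agent.Lib.MinNormal.exists_mulEquiv_pi N hN1 hmin
  by_cases hT : IsMulCommutative T
  · exfalso
    have hab : ∀ x ∈ N, ∀ y ∈ N, Commute x y := by
      intro x hx y hy
      have h1 : (⟨x, hx⟩ : N) * ⟨y, hy⟩ = ⟨y, hy⟩ * ⟨x, hx⟩ := by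
        apply e.injective
        rw [map_mul, map_mul]
        funext i
        exact hT.is_comm.comm _ _
      exact congrArg Subtype.val h1
    obtain ⟨p, hp, hpN, hexp⟩ := Cfsg.Agent.Lib.MinNormalNonabelian.abelian_structure N hN1 hmin hab
    refine not_elem h n M hM hp (E := N.map M.subtype) (hpN.map _) ?_ ?_ ?_
    · intro hb
      rw [Subgroup.map_eq_bot_iff_of_injective _ M.subtype_injective] at hb
      exact hN1 hb
    · rintro _ ⟨x, hx, rfl⟩
      rw [← map_pow, hexp x hx, map_one]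
    · have h1 := Subgroup.le_normalizer_map (H := N) M.subtype
      rw [Subgroup.normalizer_eq_top N, ← MonoidHom.range_eq_map, Subgroup.range_subtype] at h1
      exact h1
  · have hTns : ¬ Group.IsSolvable T := by
      intro h1
      have h2 := IsSimpleGroup.comm_iff_isSolvable (G := T) |>.2 h1
      exact hT ⟨⟨h2⟩⟩
    have h4T : 4 ∣ Nat.card T := by
      by_contra h4
      exact hTns (Cfsg.Agent.CpAut.SmallP.isSolvable_of_not_four_dvd h4)
    have hcN : Nat.card N = Nat.card T ^ k := by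
      rw [Nat.card_congr e.toEquiv, Nat.card_pi, Finset.prod_const, Finset.card_univ, Fintype.card_fin]
    have hNR : Nat.card N ∣ Nat.card R := (Subgroup.card_subgroup_dvd_card N).trans (Subgroup.card_subgroup_dvd_card M)
    have hk1 : k = 1 := by
      by_contra hk1
      apply h16
      refine dvd_trans ?_ hNR
      rw [hcN]
      calc 16 = 4 ^ 2 := by norm_num
        _ ∣ Nat.card T ^ 2 := pow_dvd_pow_of_dvd h4T 2
        _ ∣ Nat.card T ^ k := pow_dvd_pow _ (by omega)
    subst hk1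
    have e' : T ≃* N := ((MulEquiv.piUnique (fun _ : Fin 1 => T)).symm).trans e.symm
    have hNs : IsSimpleGroup N := e'.symm.isSimpleGroup
    have hNna : ¬ IsMulCommutative N := by
      intro h1
      apply hT
      refine ⟨⟨fun a b => ?_⟩⟩
      apply e'.injective
      rw [map_mul, map_mul]
      exact h1.is_comm.comm _ _
    have h4N : 4 ∣ Nat.card N := by rw [hcN, pow_one]; exact h4T
    have hρN := h.dvd_of_simple n M hρM N h4N
    have h5 := h.card_of_simple n (M.subtype.comp N.subtype) (M.subtype_injective.comp N.subtype_injective) hNs hNna hρN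
    have h6 : Nat.card N ≤ Nat.card M := Subgroup.card_le_card_group N
    exact Subgroup.eq_top_of_le_card M (h5.trans h6)

/-- the index of a proper subgroup does not divide the order of a solvable subgroup -/
theorem main
    (hN3 : ∀ E : Subgroup R, IsPGroup 3 E → E ≠ ⊥ → Nat.card (Subgroup.normalizer (E : Set R)) ∣ q ^ 3 * (q - 1))
    (hN2 : ∀ E : Subgroup R, Nat.card E = 8 → Nat.card (Subgroup.normalizer (E : Set R)) = 168)
    (hI : ∀ M : Subgroup R, M ≠ ⊤ → q ^ 2 - q + 1 ≤ M.index)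
    (H M : Subgroup R) (hH : Group.IsSolvable H) (hM : M ≠ ⊤) (hd : M.index ∣ Nat.card H) : False := by
  apply hM
  apply eq_top h n
  have h27 := n.q27
  have hrq := n.rq
  have hcop : Nat.Coprime (q ^ 2 - q + 1) M.index := by
    refine Nat.coprime_of_dvd fun s hs hsd hsi => ?_
    have h1 := card_le_of_solvable h n hN3 hN2 H hs hsd (hsi.trans hd)
    have h2 := Nat.le_of_dvd Nat.card_pos hd
    have h3 := hI M hM
    rw [n.fac] at h3
    have h4 : 7 ≤ q - r + 1 := by omega
    have h5 : 7 * (q + r + 1) ≤ (q - r + 1) * (q + r + 1) := Nat.mul_le_mul_right _ h4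
    omega
  have h1 : q ^ 2 - q + 1 ∣ Nat.card M * M.index := by
    rw [Subgroup.card_mul_index, h.card, n.cube]
    exact (dvd_mul_left _ _).mul_left _
  exact hcop.dvd_of_dvd_mul_right h1

end

variable {K : Type*} [Field K] [Fintype K] {m : ℕ}

theorem normalizer_three (hm : 1 ≤ m) (hK : Fintype.card K = 3 ^ (2 * m + 1))
    (E : Subgroup ↥(Cfsg.Lie.twistedG2 K (3 ^ m))) (hE : IsPGroup 3 E) (hE1 : E ≠ ⊥) :
    Nat.card (Subgroup.normalizer (E : Set ↥(Cfsg.Lie.twistedG2 K (3 ^ m)))) ∣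
      (3 ^ (2 * m + 1)) ^ 3 * (3 ^ (2 * m + 1) - 1) := by
  have : Fact (Nat.Prime 3) := ⟨Nat.prime_three⟩
  obtain ⟨P, hP⟩ := hE.exists_le_sylow
  rw [← (Cfsg.Agent.H902.MonoRee.sylow hm hK P).2.2]
  apply Subgroup.card_dvd_of_le
  intro g hg
  by_contra hgP
  have hne : g • P ≠ P := by
    intro h1
    exact hgP (Sylow.smul_eq_iff_mem_normalizer.1 h1)
  have h1 := Cfsg.Agent.S1155.result hm hK (g • P) P hne
  apply hE1
  rw [eq_bot_iff, ← h1]
  refine le_inf ?_ hP
  intro x hx
  have h2 : g⁻¹ * x * g ∈ E := by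
    have h3 := (Subgroup.mem_normalizer_iff.1 hg (g⁻¹ * x * g)).2 (by
      have h4 : g * (g⁻¹ * x * g) * g⁻¹ = x := by group
      rw [h4]
      exact hx)
    exact h3
  rw [Sylow.coe_subgroup_smul]
  refine ⟨g⁻¹ * x * g, hP h2, ?_⟩
  show g * (g⁻¹ * x * g) * g⁻¹ = x
  group

/-- **the small Ree groups have no factorisation with a solvable factor** -/
theorem noFac_ree (hm : 1 ≤ m) (hK : Fintype.card K = 3 ^ (2 * m + 1)) :
    Cfsg.Agent.H56.Exc.NoFac ↥(Cfsg.Lie.twistedG2 K (3 ^ m)) := by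
  obtain ⟨ρ, n⟩ := exists_reeN m hm
  have F := reeF hm hK n
  have hs : IsSimpleGroup ↥(Cfsg.Lie.twistedG2 K (3 ^ m)) := (Cfsg.Agent.S1073.result hm hK).1
  have hfin : Finite ↥(Cfsg.Lie.twistedG2 K (3 ^ m)) := inferInstance
  have hf2 : Fact (Nat.Prime 2) := ⟨Nat.prime_two⟩
  have hna : ∃ x y : ↥(Cfsg.Lie.twistedG2 K (3 ^ m)), x * y ≠ y * x := by
    by_contra hcon
    push Not at hcon
    let i : CommGroup ↥(Cfsg.Lie.twistedG2 K (3 ^ m)) :=
      { (inferInstance : Group ↥(Cfsg.Lie.twistedG2 K (3 ^ m))) with mul_comm := hcon }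
    have h1 : (Nat.card ↥(Cfsg.Lie.twistedG2 K (3 ^ m))).Prime := @IsSimpleGroup.prime_card _ i hs
    rw [F.card] at h1
    have hq27 := n.q27
    have h2 := n.q3.trans (dvd_pow_self (3 ^ (2 * m + 1)) (by norm_num : 3 ≠ 0))
    have h3 := (Nat.prime_dvd_prime_iff_eq Nat.prime_three h1).1 ((h2.mul_right _).mul_right _)
    have h4 : 27 ≤ (3 ^ (2 * m + 1)) ^ 3 := hq27.trans (Nat.le_self_pow (by norm_num) _)
    have h5 : 1 ≤ (3 ^ (2 * m + 1) - 1) * ((3 ^ (2 * m + 1)) ^ 3 + 1) := Nat.mul_pos (by omega) (by omega)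
    rw [mul_assoc] at h3
    have h6 := Nat.mul_le_mul_left ((3 ^ (2 * m + 1)) ^ 3) h5
    omega
  refine Cfsg.Agent.H56.Exc.noFac_of fun H M hH hM hd => ?_
  refine main F n (normalizer_three hm hK) ?_ ?_ H M hH hM hd
  · intro E hE
    have hpE : IsPGroup 2 E := IsPGroup.of_card (n := 3) (by rw [hE]; norm_num)
    obtain ⟨S, hS⟩ := hpE.exists_le_sylow
    have h1 : E = S := Subgroup.eq_of_le_of_card_ge hS (by rw [(F.syl2 S).1, hE])
    rw [h1]
    exact (Cfsg.Agent.S1157.result hm hK S).2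
  · intro M hM
    obtain ⟨k, σ, h1, h2, h3⟩ := Cfsg.Agent.H452.FprDeg.exists_irr hna hM
    exact (Cfsg.Agent.S2343.result m hm hK k σ h1 h2).trans h3

end Cfsg.Agent.H303.ReeFac
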