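import Mathlib
import Cfsg.Agent.Transfer.TausskyTwoGroup

set_option autoImplicit false
set_option linter.style.haveILetI false
set_option linter.unnecessarySimpa false

/-! Basic facts on finite 2-groups: normal subgroups and the upper central series, and the
embedding of an elementary abelian normal subgroup with at most two central elements in a
permutation module. -/

namespace Cfsg.Agent.H303.RuBase

open Subgroup
open scoped commutatorElement Pointwise

variable {T : Type*} [Group T]

theorem index_le_of_fun {G : Type*} [Group G] {β : Type*} [Finite β] (H : Subgroup G)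
    (f : G → β) (hf : ∀ a b : G, f a = f b → a⁻¹ * b ∈ H) : H.index ≤ Nat.card β := by
  have hinj : Function.Injective (fun q : G ⧸ H => f q.out) := by
    intro q q' h
    have h1 := hf _ _ h
    rw [← QuotientGroup.eq] at h1
    rwa [QuotientGroup.out_eq', QuotientGroup.out_eq'] at h1
  exact Nat.card_le_card_of_injective _ hinj

theorem mem_upper_quot {j : ℕ} {x : T} :
    x ∈ Subgroup.upperCentralSeries T (j + 1) ↔
      (QuotientGroup.mk' (Subgroup.upperCentralSeries T j)) x ∈ center (T ⧸ Subgroup.upperCentralSeries T j) := by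
  have h : Subgroup.upperCentralSeries T (j + 1) = (center (T ⧸ Subgroup.upperCentralSeries T j)).comap
      (QuotientGroup.mk' (Subgroup.upperCentralSeries T j)) :=
    Subgroup.upperCentralSeriesStep_eq_comap_center (Subgroup.upperCentralSeries T j)
  rw [h, mem_comap]

theorem upper_le_succ (j : ℕ) : Subgroup.upperCentralSeries T j ≤ Subgroup.upperCentralSeries T (j + 1) :=
  Subgroup.upperCentralSeries_mono (G := T) (Nat.le_succ j)

/-- If the normal subgroup `N` is not in `Z_j`, then `N ∩ Z_{j+1}` is bigger than `N ∩ Z_j`. -/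
theorem two_mul_card_le [Finite T] (hT : IsPGroup 2 T) (N : Subgroup T) [N.Normal] (j : ℕ)
    (h : ¬ N ≤ Subgroup.upperCentralSeries T j) :
    2 * Nat.card ↥(N ⊓ Subgroup.upperCentralSeries T j) ≤ Nat.card ↥(N ⊓ Subgroup.upperCentralSeries T (j + 1)) := by
  have : Fact (Nat.Prime 2) := ⟨Nat.prime_two⟩
  set Z := Subgroup.upperCentralSeries T j with hZ
  have hN : N.map (QuotientGroup.mk' Z) ≠ ⊥ := by
    intro h0
    apply h
    rw [← QuotientGroup.ker_mk' Z]
    exact (Subgroup.map_eq_bot_iff N).1 h0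
  have : (N.map (QuotientGroup.mk' Z)).Normal :=
    Subgroup.Normal.map inferInstance _ (QuotientGroup.mk'_surjective _)
  obtain ⟨z, hzN, hzc, hz1⟩ := Cfsg.Agent.Transfer.TausskyTwoGroup.exists_ne_one_mem_inf_center
    (hT.to_quotient Z) (N.map (QuotientGroup.mk' Z)) hN
  obtain ⟨n, hn, rfl⟩ := Subgroup.mem_map.1 hzN
  have hn1 : n ∈ Subgroup.upperCentralSeries T (j + 1) := mem_upper_quot.2 hzc
  have hn2 : n ∉ Z := by
    intro h0
    exact hz1 ((QuotientGroup.eq_one_iff n).2 h0)
  have hlt : N ⊓ Z < N ⊓ Subgroup.upperCentralSeries T (j + 1) := by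
    refine lt_of_le_of_ne (inf_le_inf_left _ (upper_le_succ j)) ?_
    intro he
    have : n ∈ N ⊓ Subgroup.upperCentralSeries T (j + 1) := ⟨hn, hn1⟩
    rw [← he] at this
    exact hn2 this.2
  have hdvd := Subgroup.card_dvd_of_le hlt.le
  obtain ⟨m, hm⟩ := hdvd
  have hne : Nat.card ↥(N ⊓ Z) ≠ Nat.card ↥(N ⊓ Subgroup.upperCentralSeries T (j + 1)) := by
    intro he
    exact hlt.ne (Subgroup.eq_of_le_of_card_ge hlt.le he.ge)
  have hpos : 0 < Nat.card ↥(N ⊓ Subgroup.upperCentralSeries T (j + 1)) := Nat.card_pos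
  rcases m with _ | _ | m
  · rw [Nat.mul_zero] at hm; omega
  · exact absurd (by simpa using hm.symm) hne
  · rw [hm]; nlinarith [Nat.zero_le (Nat.card ↥(N ⊓ Z) * m)]

/-- A normal subgroup `N` lies in `Z_j` or meets it in at least `2^j` elements. -/
theorem le_or_card [Finite T] (hT : IsPGroup 2 T) (N : Subgroup T) [N.Normal] (j : ℕ) :
    N ≤ Subgroup.upperCentralSeries T j ∨ 2 ^ j ≤ Nat.card ↥(N ⊓ Subgroup.upperCentralSeries T j) := by
  induction j with
  | zero => right; simpa using Nat.card_pos (α := ↥(N ⊓ Subgroup.upperCentralSeries T 0))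
  | succ j ih =>
    by_cases h : N ≤ Subgroup.upperCentralSeries T j
    · left; exact h.trans (upper_le_succ j)
    · right
      have h1 := ih.resolve_left h
      have h2 := two_mul_card_le hT N j h
      calc 2 ^ (j + 1) = 2 * 2 ^ j := by ring
        _ ≤ 2 * Nat.card ↥(N ⊓ Subgroup.upperCentralSeries T j) := Nat.mul_le_mul_left _ h1
        _ ≤ _ := h2

/-- If `#T > 16` and `#Z_4 = 16` then `#Z_j = 2^j` for `j ≤ 4`. -/
theorem card_upper [Finite T] (hT : IsPGroup 2 T) (ha : 16 < Nat.card T)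
    (hb : Nat.card ↥(Subgroup.upperCentralSeries T 4) = 16) :
    ∀ j ≤ 4, Nat.card ↥(Subgroup.upperCentralSeries T j) = 2 ^ j := by
  have hn : ∀ j ≤ 4, ¬ (⊤ : Subgroup T) ≤ Subgroup.upperCentralSeries T j := by
    intro j hj h
    have h4 : Subgroup.upperCentralSeries T 4 = ⊤ :=
      top_le_iff.1 (h.trans (Subgroup.upperCentralSeries_mono (G := T) hj))
    rw [h4, Subgroup.card_top] at hb
    omega
  have key : ∀ j ≤ 4, 2 * Nat.card ↥(Subgroup.upperCentralSeries T j) ≤
      Nat.card ↥(Subgroup.upperCentralSeries T (j + 1)) := by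
    intro j hj
    have := two_mul_card_le hT ⊤ j (hn j hj)
    simpa using this
  have h0 : Nat.card ↥(Subgroup.upperCentralSeries T 0) = 1 := by simp
  have k0 := key 0 (by norm_num)
  have k1 := key 1 (by norm_num)
  have k2 := key 2 (by norm_num)
  have k3 := key 3 (by norm_num)
  simp only [zero_add, Nat.reduceAdd] at k0 k1 k2 k3
  intro j hj
  interval_cases j <;> omega

/-- A separating homomorphism to `ℤ/2`. -/
theorem exists_hom {E : Type*} [CommGroup E] (hE : ∀ x : E, x ^ 2 = 1) {c : E} (hc : c ≠ 1) :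
    ∃ f : E →* Multiplicative (ZMod 2), f c ≠ 1 := by
  letI : Module (ZMod 2) (Additive E) := AddCommGroup.zmodModule (n := 2) (by
    intro x
    have := hE x.toMul
    exact congrArg Additive.ofMul this)
  have hne : (Additive.ofMul c : Additive E) ≠ 0 := by
    intro h
    exact hc (Additive.ofMul.injective h)
  by_contra hcon
  push Not at hcon
  apply hne
  rw [← Module.forall_dual_apply_eq_zero_iff (ZMod 2)]
  intro φ
  have := hcon (AddMonoidHom.toMultiplicativeRight φ.toAddMonoidHom)
  exact congrArg Multiplicative.toAdd this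

/-- `V` an elementary abelian normal subgroup of the 2-group `G` with at most two elements in the
centre of `G`: there is a homomorphism `lam : V → ℤ/2` all of whose conjugates have trivial
common kernel. -/
theorem exists_functional {G : Type*} [Group G] [Finite G] (hG : IsPGroup 2 G) (V : Subgroup G)
    [hVn : V.Normal] (hV2 : ∀ x ∈ V, x ^ 2 = 1)
    (hc : Nat.card ↥(V ⊓ center G) ≤ 2) :
    ∃ lam : ↥V →* Multiplicative (ZMod 2), ∀ v : ↥V,
      (∀ g : G, lam ⟨g⁻¹ * v * g, by simpa using hVn.conj_mem v v.2 g⁻¹⟩ = 1) → v = 1 := by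
  have : Fact (Nat.Prime 2) := ⟨Nat.prime_two⟩
  have hcomm : ∀ x y : ↥V, x * y = y * x := by
    intro x y
    apply Subtype.ext
    have h1 := hV2 _ (V.mul_mem x.2 y.2)
    have hx := hV2 _ x.2
    have hy := hV2 _ y.2
    have e1 : (x : G) * y * (x * y) = 1 := by rw [← pow_two]; exact h1
    have hx' : (x : G) * x = 1 := by rw [← pow_two]; exact hx
    have hy' : (y : G) * y = 1 := by rw [← pow_two]; exact hy
    calc (x : G) * y = (x * x) * (y * x) * (y * y) * 1 * 1 := ?_
      _ = y * x := by rw [hx', hy']; group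
    calc (x : G) * y = x * (x * y * (x * y)) * y := by rw [e1]; group
      _ = (x * x) * (y * x) * (y * y) * 1 * 1 := by group
  letI : CommGroup ↥V := { (inferInstance : Group ↥V) with mul_comm := hcomm }
  by_cases hV : V = ⊥
  · refine ⟨1, fun v _ => ?_⟩
    apply Subtype.ext
    have := v.2
    simpa [hV] using this
  obtain ⟨c, hcV, hcc, hc1⟩ :=
    Cfsg.Agent.Transfer.TausskyTwoGroup.exists_ne_one_mem_inf_center hG V hV
  obtain ⟨lam, hlam⟩ := exists_hom (E := ↥V) (fun x => Subtype.ext (hV2 x x.2))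
    (c := ⟨c, hcV⟩) (by intro h; exact hc1 (congrArg Subtype.val h))
  refine ⟨lam, ?_⟩
  -- the common kernel
  let N : Subgroup G :=
    { carrier := {x | ∃ hx : x ∈ V, ∀ g : G,
        lam ⟨g⁻¹ * x * g, by simpa using hVn.conj_mem x hx g⁻¹⟩ = 1}
      one_mem' := by
        refine ⟨V.one_mem, fun g => ?_⟩
        have : (⟨g⁻¹ * 1 * g, by simpa using hVn.conj_mem 1 V.one_mem g⁻¹⟩ : ↥V) = 1 :=
          Subtype.ext (by simp)
        rw [this, map_one]
      mul_mem' := by
        rintro x y ⟨hx, hx'⟩ ⟨hy, hy'⟩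
        refine ⟨V.mul_mem hx hy, fun g => ?_⟩
        have : (⟨g⁻¹ * (x * y) * g, by simpa using hVn.conj_mem _ (V.mul_mem hx hy) g⁻¹⟩ : ↥V) =
            ⟨g⁻¹ * x * g, by simpa using hVn.conj_mem x hx g⁻¹⟩ *
              ⟨g⁻¹ * y * g, by simpa using hVn.conj_mem y hy g⁻¹⟩ := by
          apply Subtype.ext
          simp only [Subgroup.coe_mul]
          group
        rw [this, map_mul, hx', hy', one_mul]
      inv_mem' := by
        rintro x ⟨hx, hx'⟩
        refine ⟨V.inv_mem hx, fun g => ?_⟩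
        have : (⟨g⁻¹ * x⁻¹ * g, by simpa using hVn.conj_mem _ (V.inv_mem hx) g⁻¹⟩ : ↥V) =
            (⟨g⁻¹ * x * g, by simpa using hVn.conj_mem x hx g⁻¹⟩)⁻¹ := by
          apply Subtype.ext
          simp only [Subgroup.coe_inv]
          group
        rw [this, map_inv, hx', inv_one] }
  have hNn : N.Normal := by
    refine ⟨?_⟩
    rintro x ⟨hx, hx'⟩ g
    refine ⟨hVn.conj_mem x hx g, fun h => ?_⟩
    have := hx' (g⁻¹ * h)
    convert! this using 3
    group
  have hN : N = ⊥ := by
    by_contra hne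
    obtain ⟨z, hz, hzc, hz1⟩ :=
      Cfsg.Agent.Transfer.TausskyTwoGroup.exists_ne_one_mem_inf_center hG N hne
    obtain ⟨hzV, hz'⟩ := hz
    have hzc' : z = c := by
      by_contra hzc'
      have : 3 ≤ Nat.card ↥(V ⊓ center G) := by
        classical
        letI := Fintype.ofFinite ↥(V ⊓ center G)
        rw [Nat.card_eq_fintype_card]
        have hcard : ({1, ⟨c, hcV, hcc⟩, ⟨z, hzV, hzc⟩} : Finset ↥(V ⊓ center G)).card = 3 := by
          rw [Finset.card_eq_three]
          refine ⟨_, _, _, ?_, ?_, ?_, rfl⟩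
          · intro h; exact hc1 (congrArg Subtype.val h).symm
          · intro h; exact hz1 (congrArg Subtype.val h).symm
          · intro h; exact hzc' (congrArg Subtype.val h).symm
        rw [← hcard]
        exact Finset.card_le_univ _
      omega
    subst hzc'
    have := hz' 1
    apply hlam
    convert! this using 2
    apply Subtype.ext
    simp
  intro v hv
  have : (v : G) ∈ N := ⟨v.2, hv⟩
  rw [hN, Subgroup.mem_bot] at this
  exact Subtype.ext this

/-- The coordinate map `V → (G/K → ℤ/2)` attached to `lam`. -/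
noncomputable def coord {G : Type*} [Group G] (V : Subgroup G) [hVn : V.Normal]
    (lam : ↥V →* Multiplicative (ZMod 2)) (v : ↥V) (g : G) : Multiplicative (ZMod 2) :=
  lam ⟨g⁻¹ * v * g, by simpa using hVn.conj_mem v v.2 g⁻¹⟩

theorem coord_mul {G : Type*} [Group G] (V : Subgroup G) [hVn : V.Normal]
    (lam : ↥V →* Multiplicative (ZMod 2)) (v w : ↥V) (g : G) :
    coord V lam (v * w) g = coord V lam v g * coord V lam w g := by
  unfold coord
  rw [← map_mul]
  congr 1
  apply Subtype.ext
  simp only [Subgroup.coe_mul]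
  group

theorem coord_conj {G : Type*} [Group G] (V : Subgroup G) [hVn : V.Normal]
    (lam : ↥V →* Multiplicative (ZMod 2)) (v : ↥V) (g h : G) :
    coord V lam ⟨h * v * h⁻¹, hVn.conj_mem v v.2 h⟩ g = coord V lam v (h⁻¹ * g) := by
  unfold coord
  congr 1
  apply Subtype.ext
  simp only
  group

theorem coord_mul_right {G : Type*} [Group G] (V : Subgroup G) [hVn : V.Normal]
    (lam : ↥V →* Multiplicative (ZMod 2)) (v : ↥V) (g : G) {k : G}
    (hk : ∀ x ∈ V, k * x = x * k) :
    coord V lam v (g * k) = coord V lam v g := by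
  unfold coord
  congr 1
  apply Subtype.ext
  have h1 : g⁻¹ * (v : G) * g ∈ V := by simpa using hVn.conj_mem v v.2 g⁻¹
  have h2 := hk _ h1
  show (g * k)⁻¹ * (v : G) * (g * k) = g⁻¹ * v * g
  calc (g * k)⁻¹ * (v : G) * (g * k) = k⁻¹ * ((g⁻¹ * v * g) * k) := by group
    _ = k⁻¹ * (k * (g⁻¹ * v * g)) := by rw [h2]
    _ = g⁻¹ * v * g := by group

/-- The bound `|V| ≤ 2^|G:K|` when `K` centralises `V`. -/
theorem card_le_two_pow {G : Type*} [Group G] [Finite G] (hG : IsPGroup 2 G) (V K : Subgroup G)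
    [hVn : V.Normal] (hV2 : ∀ x ∈ V, x ^ 2 = 1)
    (hK : ∀ k ∈ K, ∀ x ∈ V, k * x = x * k)
    (hc : Nat.card ↥(V ⊓ center G) ≤ 2) : Nat.card ↥V ≤ 2 ^ K.index := by
  obtain ⟨lam, hlam⟩ := exists_functional hG V hV2 hc
  have hinj : Function.Injective (fun (v : ↥V) (q : G ⧸ K) => coord V lam v q.out) := by
    intro v w hvw
    have hall : ∀ g : G, coord V lam v g = coord V lam w g := by
      intro g
      have h1 := congrFun hvw (QuotientGroup.mk g)
      simp only at h1
      obtain ⟨k, hk⟩ := QuotientGroup.mk_out_eq_mul K g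
      rw [hk, coord_mul_right V lam v g (hK _ k.2), coord_mul_right V lam w g (hK _ k.2)] at h1
      exact h1
    have h2 : v * w⁻¹ = 1 := by
      apply hlam
      intro g
      have h3 := coord_mul V lam (v * w⁻¹) w g
      rw [inv_mul_cancel_right, hall g] at h3
      have h4 : coord V lam (v * w⁻¹) g = 1 := by
        have := h3.symm
        exact (mul_eq_right).1 this
      exact h4
    exact mul_inv_eq_one.1 h2
  have h1 := Nat.card_le_card_of_injective _ hinj
  have h2 : Nat.card (G ⧸ K → Multiplicative (ZMod 2)) = 2 ^ K.index := by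
    rw [Nat.card_fun, Subgroup.index]
    congr 1
    simp
  rwa [h2] at h1

/-- When the bound is attained, `V` is generated by the conjugates of one element. -/
theorem exists_generator {G : Type*} [Group G] [Finite G] (hG : IsPGroup 2 G) (V K : Subgroup G)
    [hVn : V.Normal] (hV2 : ∀ x ∈ V, x ^ 2 = 1)
    (hK : ∀ k ∈ K, ∀ x ∈ V, k * x = x * k)
    (hc : Nat.card ↥(V ⊓ center G) ≤ 2) (hcard : 2 ^ K.index ≤ Nat.card ↥V) :
    ∃ v₀ : ↥V, ∀ ψ : ↥V →* Multiplicative (ZMod 2),
      (∀ g : G, ψ ⟨g * v₀ * g⁻¹, hVn.conj_mem v₀ v₀.2 g⟩ = 1) → ∀ v, ψ v = 1 := by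
  classical
  obtain ⟨lam, hlam⟩ := exists_functional hG V hV2 hc
  let Φ : ↥V →* (G ⧸ K → Multiplicative (ZMod 2)) :=
    { toFun := fun v q => coord V lam v q.out
      map_one' := by
        funext q
        have h := coord_mul V lam 1 1 q.out
        rw [one_mul] at h
        exact (mul_eq_left.1 h.symm)
      map_mul' := fun v w => by
        funext q
        exact coord_mul V lam v w q.out }
  have hΦ : ∀ (v : ↥V) (g : G), Φ v (QuotientGroup.mk g) = coord V lam v g := by
    intro v g
    obtain ⟨k, hk⟩ := QuotientGroup.mk_out_eq_mul K g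
    show coord V lam v (QuotientGroup.mk g : G ⧸ K).out = _
    rw [hk, coord_mul_right V lam v g (hK _ k.2)]
  have hinj : Function.Injective Φ := by
    rw [injective_iff_map_eq_one]
    intro v hv
    apply hlam
    intro g
    have := congrFun hv (QuotientGroup.mk g)
    rw [hΦ] at this
    exact this
  have hcard' : Nat.card (G ⧸ K → Multiplicative (ZMod 2)) = 2 ^ K.index := by
    rw [Nat.card_fun, Subgroup.index]
    congr 1
    simp
  have hbij : Function.Bijective Φ := by
    rw [Nat.bijective_iff_injective_and_card]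
    refine ⟨hinj, ?_⟩
    apply le_antisymm
    · exact Nat.card_le_card_of_injective _ hinj
    · rw [hcard']; exact hcard
  let Ψ : ↥V ≃* (G ⧸ K → Multiplicative (ZMod 2)) := MulEquiv.ofBijective Φ hbij
  have hΨ : ∀ v, Ψ v = Φ v := fun v => rfl
  let v₀ := Ψ.symm (Pi.mulSingle (QuotientGroup.mk 1) (Multiplicative.ofAdd 1))
  have hv₀ : ∀ g : G, coord V lam v₀ g =
      if (QuotientGroup.mk g : G ⧸ K) = QuotientGroup.mk 1 then Multiplicative.ofAdd 1 else 1 := by
    intro g
    rw [← hΦ, ← hΨ, MulEquiv.apply_symm_apply]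
    rw [Pi.mulSingle_apply]
  refine ⟨v₀, fun ψ hψ => ?_⟩
  have hconj : ∀ g : G, Ψ ⟨g * v₀ * g⁻¹, hVn.conj_mem v₀ v₀.2 g⟩ =
      Pi.mulSingle (QuotientGroup.mk g) (Multiplicative.ofAdd 1) := by
    intro g
    funext q
    obtain ⟨k, rfl⟩ := QuotientGroup.mk_surjective q
    rw [hΨ, hΦ, coord_conj, hv₀, Pi.mulSingle_apply]
    congr 1
    apply propext
    rw [QuotientGroup.eq, QuotientGroup.eq]
    simp
  have hone : ψ.comp Ψ.symm.toMonoidHom = 1 := by
    apply MonoidHom.functions_ext
    intro q m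
    obtain ⟨g, rfl⟩ := QuotientGroup.mk_surjective q
    have hm : m = 1 ∨ m = Multiplicative.ofAdd 1 := by
      revert m; decide
    rcases hm with rfl | rfl
    · rw [Pi.mulSingle_one, map_one, map_one]
    · rw [← hconj g]
      show ψ (Ψ.symm (Ψ _)) = 1
      rw [MulEquiv.symm_apply_apply]
      exact hψ g
  intro v
  have := DFunLike.congr_fun hone (Ψ v)
  simpa using this

/-- A quadratic map on a group with values in `ℤ/2`, vanishing with its polar form on a normal
subgroup `Q` of index at most 16, vanishes on a subgroup of index at most 8. -/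
theorem exists_singular {Ω : Type*} [Group Ω] [Finite Ω] (Q : Subgroup Ω) [hQn : Q.Normal]
    (hQi : Q.index ≤ 16) (hQsq : ∀ x : Ω, x * x ∈ Q)
    (s : Ω → ZMod 2) (f : Ω → Ω → ZMod 2)
    (hf : ∀ x y z, f x (y * z) = f x y + f x z) (hs : ∀ x y, s (x * y) = s x + s y + f x y)
    (hff : ∀ x, f x x = 0) (hsym : ∀ x y, f x y = f y x)
    (hfQ : ∀ x, ∀ q ∈ Q, f x q = 0) (hsQ : ∀ q ∈ Q, s q = 0) :
    ∃ Y : Subgroup Ω, Y.index ≤ 8 ∧ ∀ y ∈ Y, s y = 0 := by
  classical
  by_cases h8 : Q.index ≤ 8
  · exact ⟨Q, h8, hsQ⟩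
  by_cases hex : ∃ y, y ∉ Q ∧ s y = 0
  · obtain ⟨y, hyQ, hy⟩ := hex
    refine ⟨Q ⊔ Subgroup.zpowers y, ?_, ?_⟩
    · have hle : Q ≤ Q ⊔ Subgroup.zpowers y := le_sup_left
      have h1 := Subgroup.relIndex_mul_index hle
      have h2 : Q.relIndex (Q ⊔ Subgroup.zpowers y) ≠ 1 := by
        intro h
        rw [Subgroup.relIndex_eq_one] at h
        exact hyQ (h (Subgroup.mem_sup_right (Subgroup.mem_zpowers y)))
      have h3 : Q.relIndex (Q ⊔ Subgroup.zpowers y) ≠ 0 :=
        Subgroup.index_ne_zero_of_finite (H := Q.subgroupOf (Q ⊔ Subgroup.zpowers y))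
      have h4 : 2 ≤ Q.relIndex (Q ⊔ Subgroup.zpowers y) := by omega
      have h5 := Nat.mul_le_mul_right (Q ⊔ Subgroup.zpowers y).index h4
      omega
    · have hfpow : ∀ x : Ω, ∀ n : ℕ, f x y = 0 → f x (y ^ n) = 0 := by
        intro x n hx
        induction n with
        | zero => rw [pow_zero]; exact hfQ x 1 Q.one_mem
        | succ n ih => rw [pow_succ, hf, ih, hx, add_zero]
      have hspow : ∀ n : ℕ, s (y ^ n) = 0 := by
        intro n
        induction n with
        | zero => rw [pow_zero]; exact hsQ 1 Q.one_mem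
        | succ n ih =>
          rw [pow_succ', hs, ih, hy, hfpow y n (hff y)]
          rfl
      intro x hx
      have hx' : x ∈ (Q : Set Ω) * (Subgroup.zpowers y : Set Ω) := by
        rw [← Subgroup.normal_mul]; exact hx
      obtain ⟨q, hq, w, hw, rfl⟩ := hx'
      obtain ⟨n, rfl⟩ : ∃ n : ℕ, y ^ n = w := by
        have := (mem_powers_iff_mem_zpowers).2 hw
        exact this
      show s (q * y ^ n) = 0
      rw [hs, hsQ q hq, hspow n, hsym, hfQ _ q hq]
      rfl
  · push Not at hex
    exfalso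
    have hone : ∀ y, y ∉ Q → s y = 1 := by
      intro y hy
      have h1 := hex y hy
      have : ∀ a : ZMod 2, a ≠ 0 → a = 1 := by decide
      exact this _ h1
    have hcard : 9 ≤ Nat.card (Ω ⧸ Q) := by
      have : Q.index = Nat.card (Ω ⧸ Q) := rfl
      omega
    have hsqE : ∀ a : Ω ⧸ Q, a * a = 1 := by
      intro a
      obtain ⟨x, rfl⟩ := QuotientGroup.mk_surjective a
      exact (QuotientGroup.eq_one_iff _).2 (hQsq x)
    letI := Fintype.ofFinite (Ω ⧸ Q)
    rw [Nat.card_eq_fintype_card] at hcard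
    have pick : ∀ F : Finset (Ω ⧸ Q), F.card ≤ 4 → ∃ a, a ∉ F := by
      intro F hF
      by_contra hcon
      push Not at hcon
      have : F = Finset.univ := Finset.eq_univ_iff_forall.2 hcon
      rw [this, Finset.card_univ] at hF
      omega
    obtain ⟨e1, he1⟩ := pick {1} (by simp)
    obtain ⟨e2, he2⟩ := pick {1, e1} ((Finset.card_le_two).trans (by norm_num))
    obtain ⟨e3, he3⟩ := pick {1, e1, e2, e1 * e2} Finset.card_le_four
    simp only [Finset.mem_insert, Finset.mem_singleton, not_or] at he1 he2 he3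
    obtain ⟨y1, rfl⟩ := QuotientGroup.mk_surjective e1
    obtain ⟨y2, rfl⟩ := QuotientGroup.mk_surjective e2
    obtain ⟨y3, rfl⟩ := QuotientGroup.mk_surjective e3
    have n1 : y1 ∉ Q := fun h => he1 ((QuotientGroup.eq_one_iff _).2 h)
    have n2 : y2 ∉ Q := fun h => he2.1 ((QuotientGroup.eq_one_iff _).2 h)
    have n3 : y3 ∉ Q := fun h => he3.1 ((QuotientGroup.eq_one_iff _).2 h)
    have inv_eq : ∀ a b : Ω ⧸ Q, a * b = 1 → b = a := by
      intro a b hab
      have h1 := hsqE a
      exact mul_left_cancel (hab.trans h1.symm)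
    have n12 : y1 * y2 ∉ Q := fun h => he2.2 (inv_eq _ _ ((QuotientGroup.eq_one_iff _).2 h))
    have n13 : y1 * y3 ∉ Q := fun h => he3.2.1 (inv_eq _ _ ((QuotientGroup.eq_one_iff _).2 h))
    have n23 : y2 * y3 ∉ Q := fun h => he3.2.2.1 (inv_eq _ _ ((QuotientGroup.eq_one_iff _).2 h))
    have n123 : y1 * (y2 * y3) ∉ Q := fun h => he3.2.2.2 (by
      have h1 : (y1 * y2 : Ω) * y3 ∈ Q := by rwa [mul_assoc]
      have h2 := inv_eq ((y1 * y2 : Ω) : Ω ⧸ Q) (y3 : Ω ⧸ Q)
        ((QuotientGroup.eq_one_iff ((y1 * y2 : Ω) * y3)).2 h1)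
      exact h2)
    have h12 := hs y1 y2
    have h13 := hs y1 y3
    have h23 := hs y2 y3
    have h123 := hs y1 (y2 * y3)
    rw [hf] at h123
    rw [hone _ n1, hone _ n2, hone _ n12] at h12
    rw [hone _ n1, hone _ n3, hone _ n13] at h13
    rw [hone _ n1, hone _ n23, hone _ n123] at h123
    have : ∀ a b : ZMod 2, 1 = 1 + 1 + a → 1 = 1 + 1 + b → 1 = 1 + 1 + (a + b) → False := by
      decide
    exact this _ _ h12 h13 h123

end Cfsg.Agent.H303.RuBase
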