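import Cfsg.Agent.H303.RsForm
import Cfsg.Agent.H303.RuBase

set_option autoImplicit false
set_option linter.style.haveILetI false
set_option linter.unnecessarySimpa false

/-! The Sylow 2-subgroup of the group of the Rudvalis graph is of Rudvalis type. -/

namespace Cfsg.Agent.H303.RsRel

open Subgroup
open scoped commutatorElement
open Cfsg.Agent.Schreier Cfsg.Agent.Schreier.PcSeries

local notation "Zu" => Subgroup.upperCentralSeries

/-- the characters of order 2 of a finite abelian group -/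
theorem card_hom_le (A : Type*) [CommGroup A] [Finite A] :
    Nat.card (A →* Multiplicative (ZMod 2)) ≤ Nat.card A := by
  have : NeZero ((Monoid.exponent A : ℕ) : ℂ) := ⟨by
    exact_mod_cast Monoid.exponent_ne_zero_of_finite⟩
  have h1 : Nat.card (A →* ℂˣ) = Nat.card A := CommGroup.card_monoidHom_of_hasEnoughRootsOfUnity A ℂ
  let ι : Multiplicative (ZMod 2) →* ℂˣ :=
    { toFun := fun x => if x = 1 then 1 else -1
      map_one' := by simp
      map_mul' := by
        have e : ∀ x : Multiplicative (ZMod 2), x = 1 ∨ x = Multiplicative.ofAdd 1 := by decide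
        have e1 : (Multiplicative.ofAdd (1 : ZMod 2)) ≠ 1 := by decide
        have e2 : (Multiplicative.ofAdd (1 : ZMod 2)) * Multiplicative.ofAdd 1 = 1 := by decide
        intro x y
        rcases e x with rfl | rfl <;> rcases e y with rfl | rfl <;> simp [e1, e2] }
  have hι : Function.Injective ι := by
    rw [injective_iff_map_eq_one]
    intro x hx
    by_contra hne
    have h2 : ι x = -1 := if_neg hne
    rw [h2] at hx
    have h3 := congrArg (fun u : ℂˣ => (u : ℂ)) hx
    norm_num at h3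
  have h2 : Finite (A →* ℂˣ) := Nat.finite_of_card_ne_zero (by rw [h1]; exact Nat.card_pos.ne')
  rw [← h1]
  refine Nat.card_le_card_of_injective (fun f : A →* Multiplicative (ZMod 2) => ι.comp f) ?_
  intro f f' hff
  ext a
  exact hι (DFunLike.congr_fun hff a)

/-- `U / R` pairs with `W / U`. -/
theorem card_mul_card_le {W : Type*} [Group W] [Finite W] (U R : Subgroup W) (hRU : R ≤ U)
    (hcomm : ∀ x y : W, ⁅x, y⁆ ∈ R) (f : W → W → ZMod 2)
    (hl : ∀ x y z, f (x * y) z = f x z + f y z) (hr : ∀ x y z, f x (y * z) = f x y + f x z)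
    (hU : ∀ x ∈ U, ∀ y ∈ U, f x y = 0) (hR : ∀ x, (∀ y, f x y = 0) → x ∈ R) :
    Nat.card U * Nat.card U ≤ Nat.card R * Nat.card W := by
  have hUn : U.Normal := by
    refine ⟨fun n hn g => ?_⟩
    have e : g * n * g⁻¹ = ⁅g, n⁆ * n := by rw [commutatorElement_def]; group
    rw [e]
    exact mul_mem (hRU (hcomm _ _)) hn
  letI : CommGroup (W ⧸ U) :=
    { (inferInstance : Group (W ⧸ U)) with
      mul_comm := by
        intro a b
        obtain ⟨x, rfl⟩ := QuotientGroup.mk'_surjective U a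
        obtain ⟨y, rfl⟩ := QuotientGroup.mk'_surjective U b
        rw [← commutatorElement_eq_one_iff_mul_comm, ← map_commutatorElement]
        exact (QuotientGroup.eq_one_iff _).2 (hRU (hcomm x y)) }
  have hRn : R.Normal := by
    refine ⟨fun n hn g => ?_⟩
    have e : g * n * g⁻¹ = ⁅g, n⁆ * n := by rw [commutatorElement_def]; group
    rw [e]
    exact mul_mem (hcomm _ _) hn
  have h1r : ∀ x, f x 1 = 0 := by
    intro x
    have := hr x 1 1
    rw [mul_one] at this
    simpa using this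
  let χ : ↥U → (W ⧸ U →* Multiplicative (ZMod 2)) := fun u =>
    QuotientGroup.lift U
      { toFun := fun w => Multiplicative.ofAdd (f u w)
        map_one' := by rw [h1r]; rfl
        map_mul' := fun a b => by rw [hr]; rfl }
      (fun w hw => congrArg Multiplicative.ofAdd (hU u u.2 w hw))
  have hχ : ∀ (u : ↥U) (w : W), χ u (QuotientGroup.mk w) = Multiplicative.ofAdd (f u w) := fun u w => rfl
  have h2 : (R.subgroupOf U).index ≤ Nat.card (W ⧸ U →* Multiplicative (ZMod 2)) := by
    have hfin : Finite (W ⧸ U →* Multiplicative (ZMod 2)) :=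
      Finite.of_injective (fun f : W ⧸ U →* Multiplicative (ZMod 2) => (f : W ⧸ U → Multiplicative (ZMod 2)))
        DFunLike.coe_injective
    apply RuBase.index_le_of_fun (R.subgroupOf U) χ
    intro a b hab
    rw [Subgroup.mem_subgroupOf]
    apply hR
    intro y
    have h3 := DFunLike.congr_fun hab (QuotientGroup.mk y)
    rw [hχ, hχ] at h3
    have h4 : f a y = f b y := Multiplicative.ofAdd.injective h3
    have h5 := hl (a : W) ((a : W)⁻¹ * b) y
    rw [mul_inv_cancel_left, ← h4] at h5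
    have h6 := (left_eq_add).1 h5
    simpa using h6
  have h3 := h2.trans (card_hom_le (W ⧸ U))
  have h4 : Nat.card R * (R.subgroupOf U).index = Nat.card U := by
    have := (R.subgroupOf U).card_mul_index
    rwa [Nat.card_congr (Subgroup.subgroupOfEquivOfLe hRU).toEquiv] at this
  have h5 := U.card_mul_index
  have h6 : U.index = Nat.card (W ⧸ U) := rfl
  rw [← h6] at h3
  calc Nat.card U * Nat.card U = Nat.card R * (R.subgroupOf U).index * Nat.card U := by rw [h4]
    _ ≤ Nat.card R * U.index * Nat.card U := Nat.mul_le_mul_right _ (Nat.mul_le_mul_left _ h3)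
    _ = Nat.card R * Nat.card W := by rw [← h5]; ring

namespace Rel

variable {G : Type*} [Group G] {g : ℕ → G} (h : Rel G g)
include h

theorem R_sq {x : G} (hx : x ∈ N g 14 11) : x ^ 2 = 1 := by
  have hR : ∀ x ∈ Subgroup.closure {x | ∃ i, 11 ≤ i ∧ i < 14 ∧ x = g i}, x ∈ N g 14 11 := fun x hx => hx
  rw [N] at hx
  induction hx using Subgroup.closure_induction with
  | one => simp
  | mul x y hx hy ihx ihy =>
    have h1 := R_comm (hR x hx) (h.R_le_W (hR y hy))
    have e : (x * y) ^ 2 = x * (y * x) * y := by rw [pow_two]; group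
    rw [e, ← h1]
    calc x * (x * y) * y = x ^ 2 * y ^ 2 := by rw [pow_two, pow_two]; group
      _ = 1 := by rw [ihx, ihy, one_mul]
  | inv x hx ih => rw [inv_pow, ih, inv_one]
  | mem x hx =>
    obtain ⟨i, h1, h2, rfl⟩ := hx
    have e : ∀ i < 14, 11 ≤ i → RuSyl.sqi i = [] := by decide
    rw [pow_two, h.sq i h2, e i h2 h1]
    rfl

theorem exists_ch {K : Subgroup G} {c : G} (hc : c ∈ N g 14 11) (hcK : c ∉ K) :
    ∃ φ : G → ZMod 2, Ch g φ ∧ (∀ x ∈ K, x ∈ N g 14 11 → φ x = 0) ∧ φ c ≠ 0 := by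
  classical
  letI : CommGroup ↥(N g 14 11) :=
    { (inferInstance : Group ↥(N g 14 11)) with
      mul_comm := fun a b => Subtype.ext (R_comm a.2 (h.R_le_W b.2)) }
  have hE : ∀ x : ↥(N g 14 11) ⧸ K.subgroupOf (N g 14 11), x ^ 2 = 1 := by
    intro x
    obtain ⟨y, rfl⟩ := QuotientGroup.mk'_surjective _ x
    rw [← map_pow]
    have : y ^ 2 = 1 := Subtype.ext (h.R_sq y.2)
    rw [this, map_one]
  obtain ⟨f, hf⟩ := RuBase.exists_hom hE (c := QuotientGroup.mk' (K.subgroupOf (N g 14 11)) ⟨c, hc⟩) (by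
    intro h1
    exact hcK ((QuotientGroup.eq_one_iff (N := K.subgroupOf (N g 14 11)) (⟨c, hc⟩ : ↥(N g 14 11))).1 h1))
  let φ : G → ZMod 2 := fun x => if hx : x ∈ N g 14 11 then
    Multiplicative.toAdd (f (QuotientGroup.mk' (K.subgroupOf (N g 14 11)) ⟨x, hx⟩)) else 0
  have hφ : ∀ x (hx : x ∈ N g 14 11),
      φ x = Multiplicative.toAdd (f (QuotientGroup.mk' (K.subgroupOf (N g 14 11)) ⟨x, hx⟩)) :=
    fun x hx => dif_pos hx
  have hφc : φ c ≠ 0 := by
    rw [hφ c hc]
    intro h1
    exact hf (Multiplicative.toAdd.injective h1)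
  refine ⟨φ, ⟨?_, ⟨c, hc, hφc⟩⟩, ?_, hφc⟩
  · intro x hx y hy
    rw [hφ _ (mul_mem hx hy), hφ x hx, hφ y hy, ← toAdd_mul, ← map_mul, ← map_mul]
    rfl
  · intro x hxK hx
    rw [hφ x hx]
    have : QuotientGroup.mk' (K.subgroupOf (N g 14 11)) ⟨x, hx⟩ = 1 := (QuotientGroup.eq_one_iff _).2 hxK
    rw [this, map_one]
    rfl

/-- **Claim B** -/
theorem claimB {t : G} (ht : t ∈ W g) (h1 : ∀ x ∈ W g, ⁅t, x⁆ ∈ N g 14 12) : t ∈ N g 14 11 := by
  obtain ⟨φ, c, h2, -⟩ := h.exists_ch (K := N g 14 12) (mem_N le_rfl (by norm_num)) (h.not_mem (k := 11) (by norm_num))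
  exact h.nondeg c ht fun x hx => h2 _ (h1 x hx) (h.comm_W ht hx)

theorem upper : ∀ j ≤ 4, Zu G j = N g 14 (14 - j) := by
  have hge : ∀ j ≤ 4, N g 14 (14 - j) ≤ Zu G j := by
    intro j
    induction j with
    | zero => intro _; rw [N_eq_bot (by norm_num)]; exact bot_le
    | succ j ih =>
      intro hj x hx
      rw [Subgroup.mem_upperCentralSeries_succ_iff]
      intro y
      apply ih (by omega)
      have := h.comm_top (k := 14 - (j + 1)) hx (by omega) y
      have e : 14 - (j + 1) + 1 = 14 - j := by omega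
      rwa [e] at this
  have h1 : Zu G 1 ≤ N g 14 13 := by
    intro t ht
    rw [Subgroup.mem_upperCentralSeries_succ_iff] at ht
    have ht' : ∀ x : G, ⁅t, x⁆ = 1 := fun x => by
      have := ht x
      rwa [Subgroup.upperCentralSeries_zero, Subgroup.mem_bot] at this
    have h1 : t ∈ W g := h.claimA fun x _ => by rw [ht']; exact one_mem _
    have h2 : t ∈ N g 14 11 := h.claimB h1 fun x _ => by rw [ht']; exact one_mem _
    have h3 : t ∈ N g 14 12 := h.claimD1 h2 fun x => by rw [ht']; exact one_mem _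
    exact h.claimD2 h3 ht'
  have h2 : Zu G 2 ≤ N g 14 12 := by
    intro t ht
    rw [Subgroup.mem_upperCentralSeries_succ_iff] at ht
    have ht' : ∀ x : G, ⁅t, x⁆ ∈ N g 14 13 := fun x => h1 (ht x)
    have h1 : t ∈ W g := h.claimA fun x _ => N_mono (by norm_num) (ht' x)
    have h2 : t ∈ N g 14 11 := h.claimB h1 fun x _ => N_mono (by norm_num) (ht' x)
    exact h.claimD1 h2 ht'
  have h3 : Zu G 3 ≤ N g 14 11 := by
    intro t ht
    rw [Subgroup.mem_upperCentralSeries_succ_iff] at ht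
    have ht' : ∀ x : G, ⁅t, x⁆ ∈ N g 14 12 := fun x => h2 (ht x)
    have h1 : t ∈ W g := h.claimA fun x _ => N_mono (by norm_num) (ht' x)
    exact h.claimB h1 fun x _ => ht' x
  have h4 : Zu G 4 ≤ N g 14 10 := by
    intro t ht
    rw [Subgroup.mem_upperCentralSeries_succ_iff] at ht
    have ht' : ∀ x : G, ⁅t, x⁆ ∈ N g 14 11 := fun x => h3 (ht x)
    exact h.claimC (h.claimA fun x _ => ht' x) ht'
  intro j hj
  refine le_antisymm ?_ (hge j hj)
  interval_cases j
  · rw [Subgroup.upperCentralSeries_zero]; exact bot_le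
  · exact h1
  · exact h2
  · exact h3
  · exact h4

/-- squares of elements of `W` -/
theorem sq_W {w : G} (hw : w ∈ W g) : w ^ 2 ∈ N g 14 11 := by
  have hN := h.le_normalizer 11
  let S : Subgroup ↥(W g) :=
    { carrier := {w | (w : G) ^ 2 ∈ N g 14 11}
      one_mem' := by simp [one_mem]
      mul_mem' := by
        intro a b ha hb
        simp only [Set.mem_ofPred_eq, Subgroup.coe_mul] at ha hb ⊢
        have h1 := h.comm_W b.2 a.2
        have e : ((a : G) * b) ^ 2 = (a : G) * ⁅(b : G), (a : G)⁆ * (a : G)⁻¹ * ((a : G) ^ 2 * (b : G) ^ 2) := by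
          rw [commutatorElement_def, pow_two, pow_two, pow_two]; group
        rw [e]
        exact mul_mem (hN.conj_mem _ h1 _) (mul_mem ha hb)
      inv_mem' := by
        intro a ha
        simp only [Set.mem_ofPred_eq, Subgroup.coe_inv, inv_pow] at ha ⊢
        exact inv_mem ha }
  have hlt : ∀ i < 14, (i = 1 ∨ i = 2 ∨ i = 3) ∨ RuSyl.ge 11 (RuSyl.sqi i) = true := by decide
  have hS : ∀ i (hi : i < 14), ∀ hw : g i ∈ W g, i ≠ 1 → i ≠ 2 → i ≠ 3 → (⟨g i, hw⟩ : ↥(W g)) ∈ S := by
    intro i hi hw h1 h2 h3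
    change g i ^ 2 ∈ N g 14 11
    rw [pow_two, h.sq i hi]
    exact prod_mem_N (RuSyl.ge_spec ((hlt i hi).resolve_left (by omega)))
  have h4 : N g 14 4 ≤ S.map (W g).subtype := by
    rw [N, Subgroup.closure_le]
    rintro x ⟨i, h1, h2, rfl⟩
    exact ⟨⟨g i, h.g_mem_W h2 (by omega) (by omega) (by omega)⟩, hS i h2 _ (by omega) (by omega) (by omega), rfl⟩
  have h0 : g 0 ∈ S.map (W g).subtype := ⟨⟨g 0, h.g0_mem_W⟩, hS 0 (by norm_num) _ (by omega) (by omega) (by omega), rfl⟩
  have h5 : w ∈ S.map (W g).subtype := by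
    rcases h.mem_W_iff.1 hw with h1 | h1
    · exact h4 h1
    · have := mul_mem h0 (h4 h1)
      rwa [mul_inv_cancel_left] at this
  obtain ⟨v, hv, rfl⟩ := h5
  exact hv

theorem frattini_le : frattini ↥(W g) ≤ (N g 14 11).subgroupOf (W g) := by
  have := h.fin
  have : Fact (Nat.Prime 2) := ⟨Nat.prime_two⟩
  apply Lib.FrattiniBasic.frattini_le_of_elementary (p := 2)
  · rw [_root_.commutator_def, Subgroup.commutator_le]
    intro a _ b _
    rw [Subgroup.mem_subgroupOf]
    exact h.comm_W a.2 b.2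
  · intro x
    rw [Subgroup.mem_subgroupOf]
    exact h.sq_W x.2

theorem card_W : Nat.card (W g) = 2 ^ 11 := by
  have := h.fin
  -- `W` contains `N 4` with index 2
  have h1 : Nat.card (W g) ≤ 2 * Nat.card (N g 14 4) := by
    have h2 : Function.Surjective (fun p : Bool × ↥(N g 14 4) =>
        (⟨(if p.1 then g 0 else 1) * (p.2 : G), mul_mem (by
          split_ifs; exacts [h.g0_mem_W, one_mem _]) (h.N4_le_W p.2.2)⟩ : ↥(W g))) := by
      rintro ⟨w, hw⟩
      rcases h.mem_W_iff.1 hw with h3 | h3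
      · exact ⟨(false, ⟨w, h3⟩), by simp⟩
      · exact ⟨(true, ⟨_, h3⟩), by simp⟩
    have h3 := Nat.card_le_card_of_surjective _ h2
    rw [Nat.card_prod] at h3
    simpa using h3
  have h2 : Nat.card (N g 14 4) < Nat.card (W g) := by
    by_contra hcon
    push Not at hcon
    have h3 := Subgroup.eq_of_le_of_card_ge h.N4_le_W hcon
    have h4 : g 0 ∈ N g 14 4 := by rw [h3]; exact h.g0_mem_W
    exact h.not_mem (k := 0) (by norm_num) (N_mono (by norm_num) h4)
  have h3 : Nat.card (N g 14 4) ∣ Nat.card (W g) := Subgroup.card_dvd_of_le h.N4_le_W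
  obtain ⟨m, hm⟩ := h3
  rw [hm] at h1 h2 ⊢
  rw [h.card_N (by norm_num)] at h1 h2 ⊢
  have : m = 2 := by
    norm_num at h1 h2
    omega
  rw [this]; norm_num

/-- **The group is of Rudvalis type.** -/
theorem hyp : RuMain.Hyp G (W g) where
  fin := h.fin
  two := IsPGroup.of_card h.card
  ha := h.card.ge
  hb := by
    rw [h.upper 4 le_rfl, h.card_N (by norm_num)]
    norm_num
  hW := by rw [h.upper 3 (by norm_num)]; rfl
  hc := by
    have := h.fin
    have h1 := Subgroup.card_le_of_le h.frattini_le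
    rwa [Nat.card_congr (Subgroup.subgroupOfEquivOfLe h.R_le_W).toEquiv, h.card_N (by norm_num)] at h1
  hd := by
    have := h.fin
    intro U hU
    by_contra hcon
    obtain ⟨c, hc, hcU⟩ := SetLike.not_le_iff_exists.1 hcon
    have hcR : (c : G) ∈ N g 14 11 := h.frattini_le hc
    obtain ⟨φ, hφ, h1, h2⟩ := h.exists_ch (K := U.map (W g).subtype) hcR (by
      rintro ⟨y, hy, hy'⟩
      have : y = c := Subtype.ext hy'
      exact hcU (this ▸ hy))
    -- the isotropic subgroup
    have hRn : ((N g 14 11).subgroupOf (W g)).Normal := (h.le_normalizer 11).subgroupOf _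
    have hmem : ∀ x ∈ U ⊔ (N g 14 11).subgroupOf (W g), ∃ u ∈ U, ∃ r : ↥(W g), (r : G) ∈ N g 14 11 ∧ x = u * r := by
      intro x hx
      have h3 : (x : ↥(W g)) ∈ ((U ⊔ (N g 14 11).subgroupOf (W g) : Subgroup ↥(W g)) : Set ↥(W g)) := hx
      rw [Subgroup.mul_normal] at h3
      obtain ⟨u, hu, r, hr, rfl⟩ := h3
      exact ⟨u, hu, r, hr, rfl⟩
    have hf1 : ∀ x y z : ↥(W g), φ ⁅((x * y : ↥(W g)) : G), (z : G)⁆ = φ ⁅(x : G), (z : G)⁆ + φ ⁅(y : G), (z : G)⁆ := by
      intro x y z
      rw [Subgroup.coe_mul, h.comm_mul x.2 y.2 z.2, hφ.mul _ (h.comm_W x.2 z.2) _ (h.comm_W y.2 z.2)]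
    have hsym : ∀ x y : ↥(W g), φ ⁅(x : G), (y : G)⁆ = φ ⁅(y : G), (x : G)⁆ := by
      intro x y
      rw [← commutatorElement_inv, hφ.inv (h.comm_W y.2 x.2)]
    have hr0 : ∀ (r : ↥(W g)), (r : G) ∈ N g 14 11 → ∀ z : ↥(W g), φ ⁅(r : G), (z : G)⁆ = 0 := by
      intro r hr z
      have : ⁅(r : G), (z : G)⁆ = 1 := by
        rw [commutatorElement_eq_one_iff_mul_comm]
        exact R_comm hr z.2
      rw [this, hφ.one]
    have key := card_mul_card_le (U ⊔ (N g 14 11).subgroupOf (W g)) ((N g 14 11).subgroupOf (W g)) le_sup_right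
      (fun x y => h.comm_W x.2 y.2) (fun x y => φ ⁅(x : G), (y : G)⁆) hf1
      (fun x y z => by rw [hsym, hf1, hsym y, hsym z])
      (by
        intro x hx y hy
        obtain ⟨u, hu, r, hr, rfl⟩ := hmem x hx
        obtain ⟨v, hv, s, hs, rfl⟩ := hmem y hy
        rw [hf1, hr0 r hr, add_zero, hsym, hf1, hr0 s hs, add_zero]
        exact h1 _ ⟨⁅v, u⁆, mul_mem (mul_mem (mul_mem hv hu) (inv_mem hv)) (inv_mem hu), rfl⟩ (h.comm_W v.2 u.2))
      (fun x hx => h.nondeg hφ x.2 fun y hy => hx ⟨y, hy⟩)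
    rw [Nat.card_congr (Subgroup.subgroupOfEquivOfLe h.R_le_W).toEquiv, h.card_N (by norm_num), h.card_W] at key
    have h5 : 2 * Nat.card U ≤ Nat.card ↥(U ⊔ (N g 14 11).subgroupOf (W g)) := by
      have h6 : Nat.card U ∣ Nat.card ↥(U ⊔ (N g 14 11).subgroupOf (W g)) := Subgroup.card_dvd_of_le le_sup_left
      obtain ⟨m, hm⟩ := h6
      have h7 : m ≠ 0 := by
        rintro rfl
        rw [mul_zero] at hm
        exact Nat.card_pos.ne' hm
      have h8 : m ≠ 1 := by
        rintro rfl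
        rw [mul_one] at hm
        have h9 := Subgroup.eq_of_le_of_card_ge (le_sup_left : U ≤ U ⊔ (N g 14 11).subgroupOf (W g)) hm.le
        apply hcU
        rw [h9]
        exact Subgroup.mem_sup_right hcR
      rw [hm, mul_comm]
      exact Nat.mul_le_mul_left _ (by omega)
    have h6 := U.card_mul_index
    rw [h.card_W] at h6
    have h7 : 2 ^ 7 ≤ Nat.card U := by
      by_contra h8
      push Not at h8
      have h9 : Nat.card U * U.index ≤ (2 ^ 7 - 1) * 16 := Nat.mul_le_mul (by omega) hU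
      norm_num at h9 h6
      omega
    have h8 : 2 ^ 8 ≤ Nat.card ↥(U ⊔ (N g 14 11).subgroupOf (W g)) := by
      calc 2 ^ 8 = 2 * 2 ^ 7 := by norm_num
        _ ≤ _ := (Nat.mul_le_mul_left 2 h7).trans h5
    have h9 := Nat.mul_le_mul h8 h8
    have h10 := h9.trans key
    norm_num at h10

end Rel

end Cfsg.Agent.H303.RsRel
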