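import Cfsg.Agent.H303.RsClass
import Cfsg.Agent.H303.RsLong
import Cfsg.Agent.H303.RsHyp
import Cfsg.Agent.Schreier.RuTr
import Cfsg.Agent.RuLat.Main

set_option autoImplicit false
set_option linter.style.haveILetI false

/-! Simple groups with a Sylow 2-subgroup of Rudvalis type. -/

namespace Cfsg.Agent.H303.RsEnd

open Cfsg Cfsg.Agent.SporadicB Cfsg.Agent.Schreier
open Cfsg.Agent.H303.RuMain (Hyp)

/-- **A known simple group with a Sylow 2-subgroup of Rudvalis type is `Ru`.** -/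
theorem iso_of_hyp {X : Type*} [Group X] [Finite X] (S : Sylow 2 X) {W : Subgroup ↥(S : Subgroup X)}
    (h : Hyp ↥(S : Subgroup X) W) (hk : IsKnownSimple' X) : Spor.IsoRu X :=
  RsClass.classify h (RsLong.not_long h) hk

/-- The Sylow 2-subgroups of the Rudvalis group are of Rudvalis type. -/
theorem hyp_ru (P : Sylow 2 Cfsg.Spor.Ru) :
    ∃ W : Subgroup ↥(P : Subgroup Cfsg.Spor.Ru), Hyp ↥(P : Subgroup Cfsg.Spor.Ru) W := by
  have : Fact (Nat.Prime 2) := ⟨Nat.prime_two⟩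
  have hfin : Finite RuOrder.H := inferInstance
  have hfin' : Finite Cfsg.Spor.Ru := Finite.of_equiv _ RuLat.Main.equiv.symm.toEquiv
  obtain ⟨P', hP'⟩ := RuTr.exists_sylow
  let P1 : Sylow 2 RuOrder.H := P.mapSurjective (f := RuLat.Main.equiv.toMonoidHom) RuLat.Main.equiv.surjective
  let e1 : ↥(P : Subgroup Cfsg.Spor.Ru) ≃* ↥(P1 : Subgroup RuOrder.H) :=
    RuLat.Main.equiv.subgroupMap (P : Subgroup Cfsg.Spor.Ru)
  have e2 : ↥(P1 : Subgroup RuOrder.H) ≃* ↥(P' : Subgroup RuOrder.H) := P1.equiv P'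
  have e3 : ↥(P' : Subgroup RuOrder.H) ≃* ↥RuSyl.T := MulEquiv.subgroupCongr hP'
  have h := RsRel.rel_T.hyp
  exact ⟨_, h.congr ((e1.trans e2).trans e3).symm⟩

/-- simple groups with a Sylow 2-subgroup isomorphic to that of `Ru` -/
theorem iso_of_equiv {G : Type*} [Group G] [Finite G] (S : Sylow 2 G) (P : Sylow 2 Cfsg.Spor.Ru)
    (hS : Nonempty (↥(S : Subgroup G) ≃* ↥(P : Subgroup Cfsg.Spor.Ru))) (hk : IsKnownSimple' G) : Spor.IsoRu G := by
  obtain ⟨e⟩ := hS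
  obtain ⟨W, h⟩ := hyp_ru P
  exact iso_of_hyp S (h.congr e.symm) hk

end Cfsg.Agent.H303.RsEnd
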