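import Mathlib
import Cfsg.Agent.H303.RuBase
import Cfsg.Agent.Lib.FrattiniPGroup
import Cfsg.Agent.Lib.FrattiniBasic
import Cfsg.Agent.SmallSimple.OrderEight

set_option autoImplicit false
set_option linter.style.haveILetI false
set_option linter.unnecessarySimpa false

/-! The 2-groups `T` of "Rudvalis type": `#T ≥ 2^14`, `#Z_4(T) = 16`, `W = C_T(Z_3(T))`,
`#Φ(W) ≤ 8` and `Φ(W)` in every subgroup of `W` of index at most 16. -/

namespace Cfsg.Agent.H303.RuMain

open Subgroup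
open scoped commutatorElement

local notation "Zu" => Subgroup.upperCentralSeries

variable {T : Type*} [Group T]

/-- The hypotheses. -/
structure Hyp (T : Type*) [Group T] (W : Subgroup T) : Prop where
  fin : Finite T
  two : IsPGroup 2 T
  ha : 2 ^ 14 ≤ Nat.card T
  hb : Nat.card ↥(Zu T 4) = 16
  hW : W = Subgroup.centralizer ((Zu T 3 : Subgroup T) : Set T)
  hc : Nat.card ↥(frattini ↥W) ≤ 8
  hd : ∀ U : Subgroup ↥W, U.index ≤ 16 → frattini ↥W ≤ U

namespace Hyp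

variable {W : Subgroup T}

theorem cardZ (h : Hyp T W) : ∀ j ≤ 4, Nat.card ↥(Zu T j) = 2 ^ j := by
  have := h.fin
  exact RuBase.card_upper h.two (by have := h.ha; omega) h.hb

theorem normalW (h : Hyp T W) : W.Normal := by
  rw [h.hW]; infer_instance

theorem mem_W (h : Hyp T W) {t : T} : t ∈ W ↔ ∀ z ∈ Zu T 3, z * t = t * z := by
  rw [h.hW, Subgroup.mem_centralizer_iff]
  rfl

/-- For subgroups `A ≤ B` with `#B = 2 #A`. -/
theorem mul_mem_of_card {G : Type*} [Group G] [Finite G] {A B : Subgroup G} (hAB : A ≤ B)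
    (hc : Nat.card ↥B = 2 * Nat.card ↥A) {x y : G} (hx : x ∈ B) (hy : y ∈ B) :
    x * y ∈ A ↔ (x ∈ A ↔ y ∈ A) := by
  have h2 : (A.subgroupOf B).index = 2 := by
    have h1 := (A.subgroupOf B).card_mul_index
    have h3 : Nat.card ↥(A.subgroupOf B) = Nat.card ↥A :=
      Nat.card_congr (Subgroup.subgroupOfEquivOfLe hAB).toEquiv
    rw [h3, hc] at h1
    have h4 : 0 < Nat.card ↥A := Nat.card_pos
    nlinarith
  have := Subgroup.mul_mem_iff_of_index_two h2 (a := ⟨x, hx⟩) (b := ⟨y, hy⟩)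
  simpa [Subgroup.mem_subgroupOf] using this

theorem exists_y (h : Hyp T W) : ∃ y ∈ Zu T 3, y ∉ Zu T 2 := by
  have := h.fin
  by_contra hcon
  push Not at hcon
  have h1 := Subgroup.card_le_of_le (show Zu T 3 ≤ Zu T 2 from fun y hy => hcon y hy)
  rw [h.cardZ 3 (by norm_num), h.cardZ 2 (by norm_num)] at h1
  norm_num at h1

theorem exists_u (h : Hyp T W) : ∃ u ∈ Zu T 2, u ∉ Zu T 1 := by
  have := h.fin
  by_contra hcon
  push Not at hcon
  have h1 := Subgroup.card_le_of_le (show Zu T 2 ≤ Zu T 1 from fun y hy => hcon y hy)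
  rw [h.cardZ 2 (by norm_num), h.cardZ 1 (by norm_num)] at h1
  norm_num at h1

theorem le32 : Zu T 2 ≤ Zu T 3 := RuBase.upper_le_succ 2
theorem le21 : Zu T 1 ≤ Zu T 2 := RuBase.upper_le_succ 1
theorem le43 : Zu T 3 ≤ Zu T 4 := RuBase.upper_le_succ 3

theorem mul3 (h : Hyp T W) {x y : T} (hx : x ∈ Zu T 3) (hy : y ∈ Zu T 3) :
    x * y ∈ Zu T 2 ↔ (x ∈ Zu T 2 ↔ y ∈ Zu T 2) := by
  have := h.fin
  exact mul_mem_of_card le32 (by rw [h.cardZ 3 (by norm_num), h.cardZ 2 (by norm_num)]; norm_num)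
    hx hy

theorem mul2 (h : Hyp T W) {x y : T} (hx : x ∈ Zu T 2) (hy : y ∈ Zu T 2) :
    x * y ∈ Zu T 1 ↔ (x ∈ Zu T 1 ↔ y ∈ Zu T 1) := by
  have := h.fin
  exact mul_mem_of_card le21 (by rw [h.cardZ 2 (by norm_num), h.cardZ 1 (by norm_num)]; norm_num)
    hx hy

theorem mem_Z1 {x : T} (hx : x ∈ Zu T 1) (t : T) : x * t = t * x := by
  rw [Subgroup.upperCentralSeries_one] at hx
  exact (Subgroup.mem_center_iff.1 hx t).symm

theorem comm_mem {j : ℕ} {x : T} (hx : x ∈ Zu T (j + 1)) (t : T) : ⁅x, t⁆ ∈ Zu T j :=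
  Subgroup.mem_upperCentralSeries_succ_iff.1 hx t

/-- An element centralising `u ∈ Z_2 \ Z_1` centralises `Z_2`. -/
theorem cent_Z2 (h : Hyp T W) {u t : T} (hu : u ∈ Zu T 2) (hu1 : u ∉ Zu T 1)
    (ht : u * t = t * u) {z : T} (hz : z ∈ Zu T 2) : z * t = t * z := by
  by_cases hz1 : z ∈ Zu T 1
  · exact mem_Z1 hz1 t
  · have h1 : u⁻¹ * z ∈ Zu T 1 := by
      rw [h.mul2 (inv_mem hu) hz, inv_mem_iff]
      exact iff_of_false hu1 hz1
    have h2 := mem_Z1 h1 t
    have h3 : z = u * (u⁻¹ * z) := by group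
    calc z * t = u * ((u⁻¹ * z) * t) := by group
      _ = u * (t * (u⁻¹ * z)) := by rw [h2]
      _ = (u * t) * (u⁻¹ * z) := by group
      _ = t * z := by rw [ht]; group

/-- An element centralising `Z_2` and `y ∈ Z_3 \ Z_2` centralises `Z_3`. -/
theorem cent_Z3 (h : Hyp T W) {y t : T} (hy : y ∈ Zu T 3) (hy1 : y ∉ Zu T 2)
    (ht : y * t = t * y) (ht2 : ∀ z ∈ Zu T 2, z * t = t * z) : t ∈ W := by
  rw [h.mem_W]
  intro z hz
  by_cases hz1 : z ∈ Zu T 2
  · exact ht2 z hz1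
  · have h1 : y⁻¹ * z ∈ Zu T 2 := by
      rw [h.mul3 (inv_mem hy) hz, inv_mem_iff]
      exact iff_of_false hy1 hz1
    have h2 := ht2 _ h1
    calc z * t = y * ((y⁻¹ * z) * t) := by group
      _ = y * (t * (y⁻¹ * z)) := by rw [h2]
      _ = (y * t) * (y⁻¹ * z) := by group
      _ = t * z := by rw [ht]; group

theorem conj_eq_of_comm_eq {y g k : T} (h : ⁅y, g⁆ = ⁅y, k⁆) :
    y * (g⁻¹ * k) = g⁻¹ * k * y := by
  have h1 : g * y⁻¹ * g⁻¹ = k * y⁻¹ * k⁻¹ := by
    have : y⁻¹ * ⁅y, g⁆ = y⁻¹ * ⁅y, k⁆ := by rw [h]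
    simpa [commutatorElement_def, mul_assoc] using this
  have h2 : g * y * g⁻¹ = k * y * k⁻¹ := by
    have := congrArg (fun x => x⁻¹) h1
    simpa [mul_assoc] using this
  calc y * (g⁻¹ * k) = g⁻¹ * (g * y * g⁻¹) * k := by group
    _ = g⁻¹ * (k * y * k⁻¹) * k := by rw [h2]
    _ = g⁻¹ * k * y := by group

theorem index_le (h : Hyp T W) : W.index ≤ 8 := by
  have := h.fin
  obtain ⟨y, hy, hy2⟩ := h.exists_y
  obtain ⟨u, hu, hu1⟩ := h.exists_u
  have hle := RuBase.index_le_of_fun W (β := ↥(Zu T 2) × ↥(Zu T 1))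
    (fun g => (⟨⁅y, g⁆, comm_mem hy g⟩, ⟨⁅u, g⁆, comm_mem hu g⟩)) (by
      intro a b hab
      have h1 : ⁅y, a⁆ = ⁅y, b⁆ := congrArg (fun p => (p.1 : T)) hab
      have h2 : ⁅u, a⁆ = ⁅u, b⁆ := congrArg (fun p => (p.2 : T)) hab
      exact h.cent_Z3 hy hy2 (conj_eq_of_comm_eq h1)
        (fun z hz => h.cent_Z2 hu hu1 (conj_eq_of_comm_eq h2) hz))
  rwa [Nat.card_prod, h.cardZ 2 (by norm_num), h.cardZ 1 (by norm_num)] at hle

/-- `Φ(W)` as a subgroup of `T`. -/
def P (W : Subgroup T) : Subgroup T := (frattini ↥W).map W.subtype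

theorem P_le (W : Subgroup T) : P W ≤ W := Subgroup.map_subtype_le _

theorem mem_P {x : T} (hx : x ∈ W) : x ∈ P W ↔ (⟨x, hx⟩ : ↥W) ∈ frattini ↥W := by
  unfold P
  rw [Subgroup.mem_map]
  constructor
  · rintro ⟨w, hw, rfl⟩
    exact hw
  · intro hx'
    exact ⟨_, hx', rfl⟩

theorem normalP (h : Hyp T W) : (P W).Normal := by
  have := h.normalW
  unfold P
  infer_instance

theorem card_P (_h : Hyp T W) : Nat.card ↥(P W) = Nat.card ↥(frattini ↥W) :=
  Nat.card_congr (Subgroup.equivMapOfInjective _ _ W.subtype_injective).symm.toEquiv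

theorem sq_mem_P (h : Hyp T W) {x : T} (hx : x ∈ W) : x ^ 2 ∈ P W := by
  have := h.fin
  have : Fact (Nat.Prime 2) := ⟨Nat.prime_two⟩
  rw [mem_P (pow_mem hx 2)]
  exact Lib.FrattiniPGroup.pow_mem_frattini (h.two.to_subgroup W) ⟨x, hx⟩

theorem comm_mem_P (h : Hyp T W) {x y : T} (hx : x ∈ W) (hy : y ∈ W) : ⁅x, y⁆ ∈ P W := by
  have := h.fin
  have : Fact (Nat.Prime 2) := ⟨Nat.prime_two⟩
  exact ⟨⁅(⟨x, hx⟩ : ↥W), (⟨y, hy⟩ : ↥W)⁆,
    Lib.FrattiniPGroup.commutator_mem_frattini (h.two.to_subgroup W) ⟨x, hx⟩ ⟨y, hy⟩, rfl⟩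

/-- `P = Z_k` for some `k ≤ 3`. -/
theorem exists_k (h : Hyp T W) : ∃ k ≤ 3, P W = Zu T k := by
  have := h.fin
  have hPn := h.normalP
  have : Fact (Nat.Prime 2) := ⟨Nat.prime_two⟩
  have hle8 : Nat.card ↥(P W) ≤ 8 := by rw [h.card_P]; exact h.hc
  obtain ⟨k, hk⟩ := IsPGroup.iff_card.1 (h.two.to_subgroup (P W))
  have hk3 : k ≤ 3 := by
    by_contra hcon
    push Not at hcon
    have : 2 ^ 4 ≤ 2 ^ k := Nat.pow_le_pow_right (by norm_num) hcon
    omega
  refine ⟨k, hk3, ?_⟩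
  have hPk : P W ≤ Zu T k := by
    rcases RuBase.le_or_card h.two (P W) k with h1 | h1
    · exact h1
    · have h2 : P W ⊓ Zu T k = P W :=
        Subgroup.eq_of_le_of_card_ge inf_le_left (by rw [hk]; exact h1)
      exact inf_eq_left.1 h2
  exact Subgroup.eq_of_le_of_card_ge hPk (by rw [hk, h.cardZ k (by omega)])

/-- centre of `T/Z_k`. -/
theorem card_center_quot (h : Hyp T W) {k : ℕ} (hk : k ≤ 3) :
    Nat.card ↥(center (T ⧸ Zu T k)) = 2 := by
  have := h.fin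
  have h1 : Zu T (k + 1) = (center (T ⧸ Zu T k)).comap (QuotientGroup.mk' (Zu T k)) :=
    Subgroup.upperCentralSeriesStep_eq_comap_center (Zu T k)
  have h2 : (center (T ⧸ Zu T k)).index = (Zu T (k + 1)).index := by
    rw [h1]
    exact (Subgroup.index_comap_of_surjective _ (QuotientGroup.mk'_surjective _)).symm
  have h3 := (Zu T (k + 1)).card_mul_index
  have h4 := (center (T ⧸ Zu T k)).card_mul_index
  have h5 := (Zu T k).card_mul_index
  have h6 : (Zu T k).index = Nat.card (T ⧸ Zu T k) := rfl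
  rw [h6, ← h4, h2, h.cardZ k (by omega)] at h5
  rw [h.cardZ (k + 1) (by omega), ← h5] at h3
  have h7 : 0 < (Zu T (k + 1)).index := Nat.pos_of_ne_zero (Subgroup.index_ne_zero_of_finite)
  have h8 : 0 < 2 ^ k := by positivity
  rw [← mul_assoc] at h3
  have h9 := Nat.eq_of_mul_eq_mul_right h7 h3
  rw [pow_succ] at h9
  exact (Nat.eq_of_mul_eq_mul_left h8 h9).symm

theorem quot_facts (h : Hyp T W) {k : ℕ} (hk : k ≤ 3) (hP : P W = Zu T k) :
    (∀ x ∈ W.map (QuotientGroup.mk' (Zu T k)), x ^ 2 = 1) ∧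
    (∀ x ∈ W.map (QuotientGroup.mk' (Zu T k)), ∀ y ∈ W.map (QuotientGroup.mk' (Zu T k)),
      x * y = y * x) ∧
    (W.map (QuotientGroup.mk' (Zu T k))).index = W.index ∧
    Nat.card ↥(W.map (QuotientGroup.mk' (Zu T k))) * 2 ^ k = Nat.card ↥W := by
  have := h.fin
  refine ⟨?_, ?_, ?_, ?_⟩
  · rintro _ ⟨w, hw, rfl⟩
    have h1 := h.sq_mem_P hw
    rw [hP] at h1
    rw [← map_pow]
    exact (QuotientGroup.eq_one_iff _).2 h1
  · rintro _ ⟨w, hw, rfl⟩ _ ⟨v, hv, rfl⟩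
    have h1 := h.comm_mem_P hw hv
    rw [hP] at h1
    have h2 : QuotientGroup.mk' (Zu T k) ⁅w, v⁆ = 1 := (QuotientGroup.eq_one_iff _).2 h1
    rw [map_commutatorElement, commutatorElement_eq_one_iff_mul_comm] at h2
    exact h2
  · apply Subgroup.index_map_eq
    · exact QuotientGroup.mk'_surjective _
    · rw [QuotientGroup.ker_mk', ← hP]
      exact P_le W
  · have hidx : (W.map (QuotientGroup.mk' (Zu T k))).index = W.index := by
      apply Subgroup.index_map_eq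
      · exact QuotientGroup.mk'_surjective _
      · rw [QuotientGroup.ker_mk', ← hP]
        exact P_le W
    have h1 := (W.map (QuotientGroup.mk' (Zu T k))).card_mul_index
    have h2 := W.card_mul_index
    have h3 := (Zu T k).card_mul_index
    have h6 : (Zu T k).index = Nat.card (T ⧸ Zu T k) := rfl
    rw [h6, ← h1, hidx, h.cardZ k (by omega)] at h3
    have h7 : 0 < W.index := Nat.pos_of_ne_zero (Subgroup.index_ne_zero_of_finite)
    apply Nat.eq_of_mul_eq_mul_right h7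
    rw [h2, ← h3]
    ring

theorem card_W_le (h : Hyp T W) {k : ℕ} (hk : k ≤ 3) (hP : P W = Zu T k) :
    Nat.card ↥W ≤ 2 ^ W.index * 2 ^ k := by
  have := h.fin
  have hWn := h.normalW
  obtain ⟨h1, h2, h3, h4⟩ := h.quot_facts hk hP
  have : (W.map (QuotientGroup.mk' (Zu T k))).Normal :=
    Subgroup.Normal.map hWn _ (QuotientGroup.mk'_surjective _)
  have h5 := RuBase.card_le_two_pow (h.two.to_quotient (Zu T k))
    (W.map (QuotientGroup.mk' (Zu T k))) (W.map (QuotientGroup.mk' (Zu T k))) h1 h2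
    (by
      calc _ ≤ Nat.card ↥(center (T ⧸ Zu T k)) := Subgroup.card_le_of_le inf_le_right
        _ = 2 := h.card_center_quot hk
        _ ≤ 2 := le_rfl)
  rw [h3] at h5
  rw [← h4]
  exact Nat.mul_le_mul_right _ h5

/-- The orders. -/
theorem orders (h : Hyp T W) : W.index = 8 ∧ P W = Zu T 3 ∧ Nat.card T = 2 ^ 14 ∧
    Nat.card ↥W = 2 ^ 11 := by
  have := h.fin
  obtain ⟨k, hk, hP⟩ := h.exists_k
  have h1 := h.card_W_le hk hP
  have h2 := h.index_le
  have h3 := W.card_mul_index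
  have h4 := h.ha
  generalize hm : W.index = m at *
  generalize hw : Nat.card ↥W = w at *
  have hk8 : 2 ^ k ≤ 8 := by
    calc 2 ^ k ≤ 2 ^ 3 := Nat.pow_le_pow_right (by norm_num) hk
      _ = 8 := by norm_num
  have hm8 : m = 8 := by
    by_contra hne
    have hm7 : m ≤ 7 := by omega
    have h5 : 2 ^ m ≤ 2 ^ 7 := Nat.pow_le_pow_right (by norm_num) hm7
    have h6 : w ≤ 2 ^ 7 * 8 := h1.trans (Nat.mul_le_mul h5 hk8)
    have h7 : w * m ≤ 2 ^ 7 * 8 * 7 := Nat.mul_le_mul h6 hm7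
    rw [← h3] at h4
    norm_num at h7 h4
    omega
  subst hm8
  have hk3 : k = 3 := by
    by_contra hne
    have hk2 : k ≤ 2 := by omega
    have h5 : 2 ^ k ≤ 4 := by
      calc 2 ^ k ≤ 2 ^ 2 := Nat.pow_le_pow_right (by norm_num) hk2
        _ = 4 := by norm_num
    have h6 : w ≤ 2 ^ 8 * 4 := h1.trans (Nat.mul_le_mul_left _ h5)
    rw [← h3] at h4
    norm_num at h6 h4
    omega
  subst hk3
  have hw11 : w = 2 ^ 11 := by
    rw [← h3] at h4
    norm_num at h1 h4 ⊢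
    omega
  refine ⟨rfl, hP, ?_, hw11⟩
  rw [← h3, hw11]
  norm_num

theorem Z3_le_W (h : Hyp T W) : Zu T 3 ≤ W := by
  rw [← h.orders.2.1]; exact P_le W

theorem comm_W_mem (h : Hyp T W) {x y : T} (hx : x ∈ W) (hy : y ∈ W) : ⁅x, y⁆ ∈ Zu T 3 := by
  rw [← h.orders.2.1]; exact h.comm_mem_P hx hy

theorem sq_W_mem (h : Hyp T W) {x : T} (hx : x ∈ W) : x ^ 2 ∈ Zu T 3 := by
  rw [← h.orders.2.1]; exact h.sq_mem_P hx

/-- Hypothesis (d): a subgroup of index at most 8 in `W` whose squares are in the normal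
subgroup `N` of `W`: then `Φ(W) ≤ N`. -/
theorem frattini_le (h : Hyp T W) (Y N : Subgroup ↥W) [hN : N.Normal] (hY : Y.index ≤ 8)
    (hsq : ∀ y ∈ Y, y ^ 2 ∈ N) : frattini ↥W ≤ N := by
  have := h.fin
  have : Fact (Nat.Prime 2) := ⟨Nat.prime_two⟩
  have hYp : IsPGroup 2 ↥Y := (h.two.to_subgroup W).to_subgroup Y
  have h1 : ∀ M : Subgroup ↥Y, IsCoatom M → frattini ↥W ≤ M.map Y.subtype := by
    intro M hM
    apply h.hd
    rw [Subgroup.index_map_subtype, Lib.FrattiniPGroup.index_of_coatom hYp hM]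
    omega
  have h2 : frattini ↥W ≤ Y := h.hd Y (by omega)
  have h3 : frattini ↥Y ≤ N.subgroupOf Y := by
    apply Lib.FrattiniBasic.frattini_le_of_elementary (p := 2)
    · rw [_root_.commutator_def, Subgroup.commutator_le]
      intro a _ b _
      rw [Subgroup.mem_subgroupOf]
      have key : ∀ c : ↥Y, QuotientGroup.mk' N (c : ↥W) * QuotientGroup.mk' N (c : ↥W) = 1 := by
        intro c
        have := hsq c c.2
        rw [pow_two] at this
        rw [← map_mul]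
        exact (QuotientGroup.eq_one_iff _).2 this
      have ea := key a
      have eb := key b
      have eab := key (a * b)
      rw [Subgroup.coe_mul, map_mul] at eab
      rw [← QuotientGroup.eq_one_iff]
      show QuotientGroup.mk' N (⁅(a : ↥W), (b : ↥W)⁆) = 1
      rw [map_commutatorElement, commutatorElement_eq_one_iff_mul_comm]
      set x := QuotientGroup.mk' N (a : ↥W)
      set y := QuotientGroup.mk' N (b : ↥W)
      calc x * y = x * (x * y * (x * y)) * y := by rw [eab]; group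
        _ = (x * x) * (y * x) * (y * y) := by group
        _ = y * x := by rw [ea, eb]; group
    · intro y
      rw [Subgroup.mem_subgroupOf]
      exact hsq y y.2
  intro x hx
  have hxY : x ∈ Y := h2 hx
  have h4 : (⟨x, hxY⟩ : ↥Y) ∈ frattini ↥Y := by
    rw [frattini, Order.radical]
    simp only [Subgroup.mem_iInf, Set.mem_ofPred_eq]
    intro M hM
    obtain ⟨m, hm, hmx⟩ := Subgroup.mem_map.1 (h1 M hM hx)
    have : m = ⟨x, hxY⟩ := Subtype.ext hmx
    rwa [← this]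
  have h5 := h3 h4
  rwa [Subgroup.mem_subgroupOf] at h5

end Hyp

end Cfsg.Agent.H303.RuMain
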