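import Mathlib
import Cfsg.Agent.H303.RuMain

set_option autoImplicit false
set_option linter.style.haveILetI false
set_option linter.unnecessarySimpa false

/-! 2-groups of "Rudvalis type": `W' = Z_3`, elementary abelian, and `T/W ≅ D_8`. -/

namespace Cfsg.Agent.H303.RuMain

open Subgroup
open scoped commutatorElement

local notation "Zu" => Subgroup.upperCentralSeries

variable {T : Type*} [Group T]

namespace Hyp

variable {W : Subgroup T}

theorem comm_Z3 (h : Hyp T W) {x y : T} (hx : x ∈ Zu T 3) (hy : y ∈ Zu T 3) :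
    x * y = y * x := h.mem_W.1 (h.Z3_le_W hy) x hx

theorem comm_Z3_W (h : Hyp T W) {x y : T} (hx : x ∈ Zu T 3) (hy : y ∈ W) :
    x * y = y * x := h.mem_W.1 hy x hx

/-- Squares modulo `Z_2` -/
theorem sq_mul (_h : Hyp T W) {x y : T} :
    (x * y) ^ 2 = x ^ 2 * (⁅x⁻¹, y⁆ * y ^ 2) := by
  simp only [commutatorElement_def, pow_two]
  group

theorem commutator_eq (h : Hyp T W) : (commutator ↥W).map W.subtype = Zu T 3 := by
  have := h.fin
  have hWn := h.normalW
  have : Fact (Nat.Prime 2) := ⟨Nat.prime_two⟩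
  set C := (commutator ↥W).map W.subtype with hC
  have hCn : C.Normal := by rw [hC]; infer_instance
  have hcC : ∀ x ∈ W, ∀ y ∈ W, ⁅x, y⁆ ∈ C := by
    intro x hx y hy
    rw [hC]
    exact ⟨⁅(⟨x, hx⟩ : ↥W), (⟨y, hy⟩ : ↥W)⁆,
      Subgroup.commutator_mem_commutator (Subgroup.mem_top _) (Subgroup.mem_top _), rfl⟩
  have hC3 : C ≤ Zu T 3 := by
    rw [hC, Subgroup.map_le_iff_le_comap, _root_.commutator_def, Subgroup.commutator_le]
    intro a _ b _
    exact h.comm_W_mem a.2 b.2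
  by_contra hne
  -- `C ≤ Z_2`
  have hC2 : C ≤ Zu T 2 := by
    rcases RuBase.le_or_card h.two C 2 with h1 | h1
    · exact h1
    · have hlt : C < Zu T 3 := lt_of_le_of_ne hC3 hne
      have h2 : Nat.card ↥C < 8 := by
        have h3 := Subgroup.card_le_of_le hC3
        rw [h.cardZ 3 (by norm_num)] at h3
        refine lt_of_le_of_ne (by simpa using h3) ?_
        intro h4
        exact hne (Subgroup.eq_of_le_of_card_ge hC3 (by rw [h.cardZ 3 (by norm_num), h4]; norm_num))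
      obtain ⟨k, hk⟩ := IsPGroup.iff_card.1 (h.two.to_subgroup C)
      have hk2 : k ≤ 2 := by
        by_contra hcon
        push Not at hcon
        have : 2 ^ 3 ≤ 2 ^ k := Nat.pow_le_pow_right (by norm_num) hcon
        omega
      have h4 : Nat.card ↥C ≤ 2 ^ 2 := by
        rw [hk]; exact Nat.pow_le_pow_right (by norm_num) hk2
      have h5 : C ⊓ Zu T 2 = C := Subgroup.eq_of_le_of_card_ge inf_le_left (h4.trans h1)
      exact inf_eq_left.1 h5
  -- the subgroup of elements with square in `Z_2`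
  have hsq : ∀ x ∈ W, ∀ y ∈ W, (x * y) ^ 2 ∈ Zu T 2 ↔ (x ^ 2 ∈ Zu T 2 ↔ y ^ 2 ∈ Zu T 2) := by
    intro x hx y hy
    have h1 : ⁅x⁻¹, y⁆ ∈ Zu T 2 := hC2 (hcC _ (inv_mem hx) _ hy)
    rw [h.sq_mul, h.mul3 (h.sq_W_mem hx) (mul_mem (le32 h1) (h.sq_W_mem hy)),
      Subgroup.mul_mem_cancel_left _ h1]
  let Y : Subgroup ↥W :=
    { carrier := {w | (w : T) ^ 2 ∈ Zu T 2}
      one_mem' := by simp
      mul_mem' := by
        intro a b ha hb
        show ((a : T) * b) ^ 2 ∈ Zu T 2
        rw [hsq _ a.2 _ b.2]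
        exact iff_of_true ha hb
      inv_mem' := by
        intro a ha
        show ((a : T)⁻¹) ^ 2 ∈ Zu T 2
        rw [inv_pow]
        exact inv_mem ha }
  have hYi : Y.index ≤ 8 := by
    classical
    have := RuBase.index_le_of_fun Y (β := Bool) (fun w => decide ((w : T) ^ 2 ∈ Zu T 2)) (by
      intro a b hab
      have hab' : ((a : T) ^ 2 ∈ Zu T 2) ↔ ((b : T) ^ 2 ∈ Zu T 2) := by
        simpa using hab
      show ((a : T)⁻¹ * b) ^ 2 ∈ Zu T 2
      rw [hsq _ (inv_mem a.2) _ b.2, inv_pow, inv_mem_iff]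
      exact hab')
    simp at this
    omega
  have hle := h.frattini_le Y ((Zu T 2).subgroupOf W) hYi (fun y hy => by
    rw [Subgroup.mem_subgroupOf]; exact hy)
  obtain ⟨y, hy, hy2⟩ := h.exists_y
  apply hy2
  have hyP : y ∈ P W := by rw [h.orders.2.1]; exact hy
  have h1 := (mem_P (h.Z3_le_W hy)).1 hyP
  have h2 := hle h1
  rwa [Subgroup.mem_subgroupOf] at h2

/-- `Z_3` is elementary abelian. -/
theorem sq_Z3 (h : Hyp T W) : ∀ z ∈ Zu T 3, z ^ 2 = 1 := by
  have hle : (commutator ↥W).map W.subtype ≤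
      { carrier := {z : T | z ∈ Zu T 3 ∧ z ^ 2 = 1}
        one_mem' := ⟨one_mem _, by simp⟩
        mul_mem' := by
          rintro a b ⟨ha, ha'⟩ ⟨hb, hb'⟩
          refine ⟨mul_mem ha hb, ?_⟩
          rw [(show Commute a b from h.comm_Z3 ha hb).mul_pow, ha', hb', one_mul]
        inv_mem' := by
          rintro a ⟨ha, ha'⟩
          exact ⟨inv_mem ha, by rw [inv_pow, ha', inv_one]⟩ } := by
    rw [Subgroup.map_le_iff_le_comap, _root_.commutator_def, Subgroup.commutator_le]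
    intro a _ b _
    show (W.subtype ⁅a, b⁆) ∈ Zu T 3 ∧ (W.subtype ⁅a, b⁆) ^ 2 = 1
    have hc : ⁅(a : T), (b : T)⁆ ∈ Zu T 3 := h.comm_W_mem a.2 b.2
    refine ⟨hc, ?_⟩
    show ⁅(a : T), (b : T)⁆ ^ 2 = 1
    have h1 : ⁅(a : T) ^ 2, (b : T)⁆ = 1 := by
      rw [commutatorElement_eq_one_iff_mul_comm]
      exact h.comm_Z3_W (h.sq_W_mem a.2) b.2
    have key : ∀ x y : T, ⁅x ^ 2, y⁆ = (x * ⁅x, y⁆) * x⁻¹ * ⁅x, y⁆ := by
      intro x y
      simp only [commutatorElement_def, pow_two]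
      group
    rw [key, ← h.comm_Z3_W hc a.2] at h1
    rw [pow_two]
    rw [mul_inv_cancel_right] at h1
    exact h1
  intro z hz
  rw [← h.commutator_eq] at hz
  exact (hle hz).2

theorem inv_Z3 (h : Hyp T W) {z : T} (hz : z ∈ Zu T 3) : z⁻¹ = z := by
  have := h.sq_Z3 z hz
  rw [pow_two] at this
  exact inv_eq_of_mul_eq_one_left this

/-- `A = C_T(Z_2)`. -/
def A (T : Type*) [Group T] : Subgroup T := Subgroup.centralizer ((Zu T 2 : Subgroup T) : Set T)

theorem mem_A {t : T} : t ∈ A T ↔ ∀ z ∈ Zu T 2, z * t = t * z := by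
  unfold A
  rw [Subgroup.mem_centralizer_iff]
  rfl

theorem W_le_A (h : Hyp T W) : W ≤ A T := by
  intro t ht
  rw [mem_A]
  intro z hz
  exact h.mem_W.1 ht z (le32 hz)

theorem comm_mem' {j : ℕ} {x : T} (hx : x ∈ Zu T (j + 1)) (t : T) : ⁅t, x⁆ ∈ Zu T j := by
  rw [← commutatorElement_inv]
  exact inv_mem (comm_mem hx t)

theorem sq_A (h : Hyp T W) {a : T} (ha : a ∈ A T) : a ^ 2 ∈ W := by
  obtain ⟨y, hy, hy2⟩ := h.exists_y
  have hA2 : ∀ z ∈ Zu T 2, z * a ^ 2 = a ^ 2 * z := by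
    intro z hz
    have h1 := mem_A.1 ha z hz
    exact (show Commute z a from h1).pow_right 2
  refine h.cent_Z3 hy hy2 ?_ hA2
  have hc : ⁅a, y⁆ ∈ Zu T 2 := comm_mem' hy a
  have e1 : a * y = ⁅a, y⁆ * y * a := by rw [commutatorElement_def]; group
  have e2 : ⁅a, y⁆ * a = a * ⁅a, y⁆ := mem_A.1 ha _ hc
  have e3 : ⁅a, y⁆ * ⁅a, y⁆ = 1 := by
    have := h.sq_Z3 _ (le32 hc)
    rwa [pow_two] at this
  symm
  calc a ^ 2 * y = a * (a * y) := by rw [pow_two]; group
    _ = (a * ⁅a, y⁆) * y * a := by rw [e1]; group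
    _ = ⁅a, y⁆ * (a * y) * a := by rw [← e2]; group
    _ = (⁅a, y⁆ * ⁅a, y⁆) * y * (a * a) := by rw [e1]; group
    _ = y * a ^ 2 := by rw [e3, pow_two]; group

theorem index_A_le (h : Hyp T W) : (A T).index ≤ 2 := by
  have := h.fin
  obtain ⟨u, hu, hu1⟩ := h.exists_u
  have hle := RuBase.index_le_of_fun (A T) (β := ↥(Zu T 1))
    (fun g => ⟨⁅u, g⁆, comm_mem hu g⟩) (by
      intro a b hab
      have h2 : ⁅u, a⁆ = ⁅u, b⁆ := congrArg Subtype.val hab
      rw [mem_A]
      exact fun z hz => h.cent_Z2 hu hu1 (conj_eq_of_comm_eq h2) hz)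
  rwa [h.cardZ 1 (by norm_num)] at hle

theorem index_WA_le (h : Hyp T W) : (W.subgroupOf (A T)).index ≤ 4 := by
  have := h.fin
  obtain ⟨y, hy, hy2⟩ := h.exists_y
  have hle := RuBase.index_le_of_fun (W.subgroupOf (A T)) (β := ↥(Zu T 2))
    (fun g => ⟨⁅y, (g : T)⁆, comm_mem hy g⟩) (by
      intro a b hab
      have h2 : ⁅y, (a : T)⁆ = ⁅y, (b : T)⁆ := congrArg Subtype.val hab
      rw [Subgroup.mem_subgroupOf]
      exact h.cent_Z3 hy hy2 (conj_eq_of_comm_eq h2) (mem_A.1 (a⁻¹ * b).2))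
  rwa [h.cardZ 2 (by norm_num)] at hle

theorem index_A (h : Hyp T W) : (A T).index = 2 ∧ (W.subgroupOf (A T)).index = 4 := by
  have h1 : W.relIndex (A T) * (A T).index = W.index := Subgroup.relIndex_mul_index h.W_le_A
  rw [h.orders.1] at h1
  have h2 := h.index_A_le
  have h3 := h.index_WA_le
  have h4 : W.relIndex (A T) = (W.subgroupOf (A T)).index := rfl
  rw [h4] at h1
  generalize (A T).index = m at *
  generalize (W.subgroupOf (A T)).index = n at *
  interval_cases m <;> omega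

theorem exists_a (h : Hyp T W) : ∃ a ∈ A T, ∃ y ∈ Zu T 3, ⁅a, y⁆ ∉ Zu T 1 := by
  have := h.fin
  obtain ⟨y, hy, hy2⟩ := h.exists_y
  by_contra hcon
  push Not at hcon
  have hle := RuBase.index_le_of_fun (W.subgroupOf (A T)) (β := ↥(Zu T 1))
    (fun g => ⟨⁅(g : T), y⁆⁻¹, inv_mem (hcon g g.2 y hy)⟩) (by
      intro a b hab
      have h2 : ⁅(a : T), y⁆⁻¹ = ⁅(b : T), y⁆⁻¹ := congrArg Subtype.val hab
      rw [commutatorElement_inv, commutatorElement_inv] at h2
      rw [Subgroup.mem_subgroupOf]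
      exact h.cent_Z3 hy hy2 (conj_eq_of_comm_eq h2) (mem_A.1 (a⁻¹ * b).2))
  rw [h.cardZ 1 (by norm_num), h.index_A.2] at hle
  norm_num at hle

theorem not_comm (h : Hyp T W) : ∃ a g : T, ⁅a, g⁆ ∉ W := by
  obtain ⟨a, ha, y, hy, hay⟩ := h.exists_a
  have : ∃ g, g ∉ A T := by
    by_contra hcon
    push Not at hcon
    have : A T = ⊤ := by
      rw [eq_top_iff]; exact fun g _ => hcon g
    have h2 := h.index_A.1
    rw [this, Subgroup.index_top] at h2
    omega
  obtain ⟨g, hg⟩ := this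
  refine ⟨a, g, fun hw => hg ?_⟩
  have hu' : ⁅a, y⁆ ∈ Zu T 2 := comm_mem' hy a
  have hv : ⁅g, y⁆ ∈ Zu T 2 := comm_mem' hy g
  set u := ⁅a, y⁆ with hu
  set v := ⁅g, y⁆ with hv'
  have e1 : a * y * a⁻¹ = u * y := by rw [hu, commutatorElement_def]; group
  have e2 : g * y * g⁻¹ = v * y := by rw [hv', commutatorElement_def]; group
  have e3 : a * v * a⁻¹ = v := by
    have := mem_A.1 ha v hv
    rw [← this]; group
  have hgu : g * u * g⁻¹ ∈ Zu T 3 := by
    have : (Zu T 3).Normal := inferInstance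
    exact this.conj_mem _ (le32 hu') g
  -- `w = [a,g]` centralises `g a y a⁻¹ g⁻¹`
  have e4 : (a * g) * y * (a * g)⁻¹ = (g * a) * y * (g * a)⁻¹ := by
    have hz : (g * a) * y * (g * a)⁻¹ ∈ Zu T 3 := by
      have : (Zu T 3).Normal := inferInstance
      exact this.conj_mem _ hy _
    have h5 := h.comm_Z3_W hz hw
    calc (a * g) * y * (a * g)⁻¹ = ⁅a, g⁆ * ((g * a) * y * (g * a)⁻¹) * ⁅a, g⁆⁻¹ := by
          rw [commutatorElement_def]; group
      _ = (g * a) * y * (g * a)⁻¹ := by rw [← h5]; group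
  have e5 : (a * g) * y * (a * g)⁻¹ = v * (u * y) := by
    calc (a * g) * y * (a * g)⁻¹ = a * (g * y * g⁻¹) * a⁻¹ := by group
      _ = (a * v * a⁻¹) * (a * y * a⁻¹) := by rw [e2]; group
      _ = v * (u * y) := by rw [e3, e1]
  have e6 : (g * a) * y * (g * a)⁻¹ = (g * u * g⁻¹) * (v * y) := by
    calc (g * a) * y * (g * a)⁻¹ = g * (a * y * a⁻¹) * g⁻¹ := by group
      _ = (g * u * g⁻¹) * (g * y * g⁻¹) := by rw [e1]; group
      _ = (g * u * g⁻¹) * (v * y) := by rw [e2]
  rw [e5, e6] at e4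
  have e7 : v * u = (g * u * g⁻¹) * v := by
    have := congrArg (fun x => x * y⁻¹) e4
    simpa [mul_assoc] using this
  have e8 : u = g * u * g⁻¹ := by
    rw [← h.comm_Z3 (le32 hv) hgu] at e7
    exact mul_left_cancel e7
  have e9 : u * g = g * u := by
    calc u * g = (g * u * g⁻¹) * g := by rw [← e8]
      _ = g * u := by group
  rw [mem_A]
  exact fun z hz => h.cent_Z2 hu' hay e9 hz

theorem dihedral (h : Hyp T W) (hn : W.Normal) : Nonempty (T ⧸ W ≃* DihedralGroup 4) := by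
  have := h.fin
  have hcard : Nat.card (T ⧸ W) = 8 := h.orders.1
  have hnc : ¬ IsMulCommutative (T ⧸ W) := by
    intro hc
    obtain ⟨a, g, hag⟩ := h.not_comm
    apply hag
    rw [← QuotientGroup.eq_one_iff]
    show QuotientGroup.mk' W ⁅a, g⁆ = 1
    rw [map_commutatorElement, commutatorElement_eq_one_iff_mul_comm]
    exact hc.is_comm.comm _ _
  rcases SmallSimple.OrderEight.dihedral_or_quaternion_of_card_eight hcard hnc with h1 | ⟨⟨e⟩⟩
  · exact h1
  · exfalso
    -- the four-group `A/W`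
    have hA : Nat.card ↥((A T).map (QuotientGroup.mk' W)) = 4 := by
      have h1 := ((A T).map (QuotientGroup.mk' W)).card_mul_index
      have h2 : ((A T).map (QuotientGroup.mk' W)).index = (A T).index := by
        apply Subgroup.index_map_eq
        · exact QuotientGroup.mk'_surjective _
        · rw [QuotientGroup.ker_mk']; exact h.W_le_A
      rw [h2, h.index_A.1, hcard] at h1
      omega
    have hsq : ∀ x ∈ (A T).map (QuotientGroup.mk' W), e x = 1 ∨ e x = QuaternionGroup.a 2 := by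
      rintro _ ⟨a, ha, rfl⟩
      have h1 : (QuotientGroup.mk' W a) * (QuotientGroup.mk' W a) = 1 := by
        rw [← map_mul, ← pow_two]
        exact (QuotientGroup.eq_one_iff _).2 (h.sq_A ha)
      have h2 : e (QuotientGroup.mk' W a) * e (QuotientGroup.mk' W a) = 1 := by
        rw [← map_mul, h1, map_one]
      have h3 : ∀ q : QuaternionGroup 2, q * q = 1 → q = 1 ∨ q = QuaternionGroup.a 2 := by
        decide
      exact h3 _ h2
    have hle : Nat.card ↥((A T).map (QuotientGroup.mk' W)) ≤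
        Nat.card ↥({1, QuaternionGroup.a 2} : Set (QuaternionGroup 2)) := by
      apply Nat.card_le_card_of_injective
        (fun x : ↥((A T).map (QuotientGroup.mk' W)) => (⟨e x, by
          rcases hsq x x.2 with h1 | h1
          · left; exact h1
          · right; exact h1⟩ : ↥({1, QuaternionGroup.a 2} : Set (QuaternionGroup 2))))
      intro x y hxy
      have := congrArg Subtype.val hxy
      exact Subtype.ext (e.injective this)
    rw [hA, Nat.card_coe_set_eq] at hle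
    have h5 : ({1, QuaternionGroup.a 2} : Set (QuaternionGroup 2)).ncard ≤ 2 :=
      Set.ncard_insert_le _ _ |>.trans (by rw [Set.ncard_singleton])
    omega

end Hyp

end Cfsg.Agent.H303.RuMain
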