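import Cfsg.Agent.H303.RuMain
import Cfsg.Agent.H303.RuDih
import Cfsg.Agent.H303.RuCent

set_option autoImplicit false
set_option linter.style.haveILetI false
set_option linter.unnecessarySimpa false

/-! 2-groups of Rudvalis type: normal subgroups which do not exist. -/

namespace Cfsg.Agent.H303.RuBase

open Subgroup

/-- Fixed points: `|C_V(X)| ≤ 2^|G:X|`. -/
theorem card_fix_le {G : Type*} [Group G] [Finite G] (hG : IsPGroup 2 G) (V X : Subgroup G)
    [hVn : V.Normal] (hV2 : ∀ x ∈ V, x ^ 2 = 1) (hc : Nat.card ↥(V ⊓ center G) ≤ 2) :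
    Nat.card ↥(V ⊓ centralizer (X : Set G)) ≤ 2 ^ X.index := by
  obtain ⟨lam, hlam⟩ := exists_functional hG V hV2 hc
  have hinj : Function.Injective (fun (v : ↥(V ⊓ centralizer (X : Set G))) (q : G ⧸ X) =>
      coord V lam ⟨v, v.2.1⟩ (q.out)⁻¹) := by
    intro v w hvw
    have hall : ∀ g : G, coord V lam ⟨v, v.2.1⟩ g = coord V lam ⟨w, w.2.1⟩ g := by
      intro g
      have h1 := congrFun hvw (QuotientGroup.mk g⁻¹)
      simp only at h1
      obtain ⟨k, hk⟩ := QuotientGroup.mk_out_eq_mul X g⁻¹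
      have key : ∀ v : ↥(V ⊓ centralizer (X : Set G)),
          coord V lam ⟨v, v.2.1⟩ ((QuotientGroup.mk g⁻¹ : G ⧸ X).out)⁻¹ = coord V lam ⟨v, v.2.1⟩ g := by
        intro v
        rw [hk]
        unfold coord
        congr 1
        apply Subtype.ext
        have h2 : (k : G) * v = v * k := (Subgroup.mem_centralizer_iff.1 v.2.2) k k.2
        show ((g⁻¹ * (k : G))⁻¹)⁻¹ * (v : G) * (g⁻¹ * (k : G))⁻¹ = g⁻¹ * v * g
        calc ((g⁻¹ * (k : G))⁻¹)⁻¹ * (v : G) * (g⁻¹ * (k : G))⁻¹ = g⁻¹ * ((k : G) * v) * (k : G)⁻¹ * g := by group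
          _ = g⁻¹ * v * g := by rw [h2]; group
      rw [key, key] at h1
      exact h1
    have h2 : (⟨v, v.2.1⟩ : ↥V) * ⟨w, w.2.1⟩⁻¹ = 1 := by
      apply hlam
      intro g
      have h3 := coord_mul V lam (⟨v, v.2.1⟩ * ⟨w, w.2.1⟩⁻¹) ⟨w, w.2.1⟩ g
      rw [inv_mul_cancel_right, hall g] at h3
      exact mul_eq_right.1 h3.symm
    have h3 := mul_inv_eq_one.1 h2
    exact Subtype.ext (congrArg (fun x : ↥V => (x : G)) h3)
  have h1 := Nat.card_le_card_of_injective _ hinj
  have h2 : Nat.card (G ⧸ X → Multiplicative (ZMod 2)) = 2 ^ X.index := by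
    rw [Nat.card_fun, Subgroup.index]
    congr 1
    simp
  rwa [h2] at h1

end Cfsg.Agent.H303.RuBase

namespace Cfsg.Agent.H303.RuMain

open Subgroup
open scoped commutatorElement

local notation "Zu" => Subgroup.upperCentralSeries

variable {T : Type*} [Group T]

namespace Hyp

variable {W : Subgroup T}

/-- a normal subgroup of order at least 8 contains `Z_3` -/
theorem Z3_le (h : Hyp T W) {N : Subgroup T} (hN : N.Normal) (hc : 8 ≤ Nat.card N) : Zu T 3 ≤ N := by
  have := h.fin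
  rcases RuBase.le_or_card h.two N 3 with h1 | h1
  · exact (Subgroup.eq_of_le_of_card_ge h1 (by rw [h.cardZ 3 (by norm_num)]; omega)).ge
  · have h2 : N ⊓ Zu T 3 = Zu T 3 := Subgroup.eq_of_le_of_card_ge inf_le_right (by
      rw [h.cardZ 3 (by norm_num)]; exact h1)
    exact inf_eq_right.1 h2

/-- a non-trivial element of `Z_3` -/
theorem exists_ne (h : Hyp T W) : ∃ z ∈ Zu T 3, z ≠ 1 := by
  obtain ⟨y, hy, hy2⟩ := h.exists_y
  exact ⟨y, hy, fun h1 => hy2 (h1 ▸ one_mem _)⟩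

/-- `Z_3` as the Frattini subgroup of `W` -/
theorem mem_frattini (h : Hyp T W) {z : T} (hz : z ∈ Zu T 3) : (⟨z, h.Z3_le_W hz⟩ : ↥W) ∈ frattini ↥W := by
  rw [← mem_P, h.orders.2.1]
  exact hz

/-- **no normal elementary abelian subgroup of order `2^8`** -/
theorem no_elem (h : Hyp T W) {E : Subgroup T} (hE : E.Normal) (hc : 2 ^ 8 ≤ Nat.card E)
    (hsq : ∀ x ∈ E, x ^ 2 = 1) : False := by
  have := h.fin
  have hcomm : ∀ x ∈ E, ∀ y ∈ E, x * y = y * x := by
    intro x hx y hy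
    have h1 := hsq _ (mul_mem hx hy)
    have h2 := hsq x hx
    have h3 := hsq y hy
    rw [pow_two] at h1 h2 h3
    have e : x * y = x * (x * y * (x * y)) * y := by rw [h1, mul_one]
    rw [e]
    calc x * (x * y * (x * y)) * y = (x * x) * (y * x) * (y * y) := by group
      _ = y * x := by rw [h2, h3, one_mul, mul_one]
  have h3 := h.Z3_le hE ((show 8 ≤ 2 ^ 8 by norm_num).trans hc)
  have hEW : E ≤ W := by
    intro x hx
    rw [h.mem_W]
    exact fun z hz => hcomm z (h3 hz) x hx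
  obtain ⟨z, hz, hz1⟩ := h.exists_ne
  letI : CommGroup ↥(E.subgroupOf W) :=
    { (inferInstance : Group ↥(E.subgroupOf W)) with
      mul_comm := fun a b => Subtype.ext (Subtype.ext (hcomm _ a.2 _ b.2)) }
  obtain ⟨f, hf⟩ := RuBase.exists_hom (E := ↥(E.subgroupOf W)) (fun x => Subtype.ext (Subtype.ext (hsq _ x.2)))
    (c := ⟨⟨z, h.Z3_le_W hz⟩, h3 hz⟩) (fun h1 => hz1 (congrArg (fun x : ↥(E.subgroupOf W) => ((x : ↥W) : T)) h1))
  have h4 := h.hd (f.ker.map (E.subgroupOf W).subtype) (by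
    rw [Subgroup.index_map_subtype]
    have h5 : f.ker.index ≤ 2 := by
      rw [Subgroup.index_ker]
      have h6 := Subgroup.card_le_of_le (le_top : f.range ≤ ⊤)
      rw [Subgroup.card_top] at h6
      simpa using h6
    have h6 := (E.subgroupOf W).card_mul_index
    rw [Nat.card_congr (Subgroup.subgroupOfEquivOfLe hEW).toEquiv, h.orders.2.2.2] at h6
    have h7 : (E.subgroupOf W).index ≤ 8 := by
      by_contra hcon
      push Not at hcon
      have h8 : 2 ^ 8 * 9 ≤ Nat.card E * (E.subgroupOf W).index := Nat.mul_le_mul hc hcon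
      rw [h6] at h8
      norm_num at h8
    calc f.ker.index * (E.subgroupOf W).index ≤ 2 * 8 := Nat.mul_le_mul h5 h7
      _ = 16 := by norm_num) (h.mem_frattini hz)
  obtain ⟨y, hy, hy'⟩ := h4
  have h5 : y = ⟨⟨z, h.Z3_le_W hz⟩, h3 hz⟩ := Subtype.ext hy'
  rw [h5] at hy
  exact hf hy

/-- Fixed points on `V = W / Z_3`. -/
theorem card_fix (h : Hyp T W) (X : Subgroup (T ⧸ Zu T 3)) :
    Nat.card ↥(V W ⊓ centralizer (X : Set (T ⧸ Zu T 3))) ≤ 2 ^ X.index := by
  have := h.fin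
  have hVn := h.normalV
  refine RuBase.card_fix_le (h.two.to_quotient (Zu T 3)) (V W) X h.V_facts.1 ?_
  calc _ ≤ Nat.card ↥(center (T ⧸ Zu T 3)) := Subgroup.card_le_of_le inf_le_right
    _ = 2 := h.card_center_quot le_rfl
    _ ≤ 2 := le_rfl

/-- **no normal extraspecial subgroup of order `2^9`** -/
theorem no_extra (h : Hyp T W) {Q : Subgroup T} (hQ : Q.Normal) (hc : Nat.card Q = 2 ^ 9) {z : T}
    (hz : ∀ x ∈ Q, ∀ y ∈ Q, ⁅x, y⁆ = 1 ∨ ⁅x, y⁆ = z) (hzQ : z ∈ Q) (hzc : ∀ y ∈ Q, z * y = y * z)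
    (hZ : ∀ x ∈ Q, (∀ y ∈ Q, x * y = y * x) → x = 1 ∨ x = z) : False := by
  have := h.fin
  have hWn := h.normalW
  have h3 := h.Z3_le hQ (by rw [hc]; norm_num)
  -- `z ≠ 1`
  have hz1 : z ≠ 1 := by
    rintro rfl
    have h1 : Q ≤ ⊥ := by
      intro x hx
      rw [Subgroup.mem_bot]
      have h2 := hZ x hx (fun y hy => by
        have h3 := hz x hx y hy
        rw [or_self, commutatorElement_eq_one_iff_mul_comm] at h3
        exact h3)
      rwa [or_self] at h2
    have h2 := Subgroup.card_le_of_le h1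
    rw [hc, Subgroup.card_bot] at h2
    norm_num at h2
  -- `z` is central in `T`
  have hzT : ∀ t : T, t * z * t⁻¹ = z := by
    intro t
    have h1 : t * z * t⁻¹ ∈ Q := hQ.conj_mem z hzQ t
    refine (hZ _ h1 (fun y hy => ?_)).resolve_left ?_
    · have h2 : t⁻¹ * y * t ∈ Q := by simpa using hQ.conj_mem y hy t⁻¹
      have h4 := hzc _ h2
      calc t * z * t⁻¹ * y = t * (z * (t⁻¹ * y * t)) * t⁻¹ := by group
        _ = t * ((t⁻¹ * y * t) * z) * t⁻¹ := by rw [h4]
        _ = y * (t * z * t⁻¹) := by group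
    · intro h2
      apply hz1
      have h4 : z = t⁻¹ * (t * z * t⁻¹) * t := by group
      rw [h4, h2]; group
  have hzZ : z ∈ Zu T 1 := by
    rw [Subgroup.upperCentralSeries_one, Subgroup.mem_center_iff]
    intro t
    rw [← mul_inv_eq_iff_eq_mul]
    exact hzT t
  have hcommQ : ∀ x ∈ Q, ∀ y ∈ Q, ⁅x, y⁆ ∈ Zu T 1 := by
    intro x hx y hy
    rcases hz x hx y hy with h1 | h1 <;> rw [h1]
    · exact one_mem _
    · exact hzZ
  obtain ⟨y, hy, hy2⟩ := h.exists_y
  obtain ⟨u, hu, hu1⟩ := h.exists_u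
  have hyQ := h3 hy
  have huQ := h3 (le32 hu)
  -- `|Q : Q ∩ W| ≤ 4`
  have h4 : (W.subgroupOf Q).index ≤ 4 := by
    have hle := RuBase.index_le_of_fun (W.subgroupOf Q) (β := ↥(Zu T 1) × ↥(Zu T 1))
      (fun g => (⟨⁅y, (g : T)⁆, hcommQ y hyQ g g.2⟩, ⟨⁅u, (g : T)⁆, hcommQ u huQ g g.2⟩)) (by
        intro a b hab
        have h1 : ⁅y, (a : T)⁆ = ⁅y, (b : T)⁆ := congrArg (fun p => (p.1 : T)) hab
        have h2 : ⁅u, (a : T)⁆ = ⁅u, (b : T)⁆ := congrArg (fun p => (p.2 : T)) hab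
        exact h.cent_Z3 hy hy2 (conj_eq_of_comm_eq h1)
          (fun z hz => h.cent_Z2 hu hu1 (conj_eq_of_comm_eq h2) hz))
    rwa [Nat.card_prod, h.cardZ 1 (by norm_num)] at hle
  -- `Q` is not in `W`
  have h5 : (W.subgroupOf Q).index ≠ 1 := by
    rw [Ne, Subgroup.index_eq_one, Subgroup.subgroupOf_eq_top]
    intro h6
    have h7 := hZ u huQ (fun q hq => (h.mem_W.1 (h6 hq)) u (le32 hu))
    rcases h7 with rfl | rfl
    · exact hu1 (one_mem _)
    · exact hu1 hzZ
  have h6 := (W.subgroupOf Q).card_mul_index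
  rw [hc] at h6
  -- the image of `Q ∩ W`
  set X : Subgroup (T ⧸ Zu T 3) := (Q ⊔ W).map (QuotientGroup.mk' (Zu T 3)) with hX
  have hXi : X.index = (Q ⊔ W).index := by
    rw [hX]
    apply Subgroup.index_map_eq
    · exact QuotientGroup.mk'_surjective _
    · rw [QuotientGroup.ker_mk']
      exact h3.trans le_sup_left
  have h7 : (W.subgroupOf Q).index * (Q ⊔ W).index = 8 := by
    have h8 := Subgroup.relIndex_mul_index (le_sup_right : W ≤ Q ⊔ W)
    rw [h.orders.1] at h8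
    have h9 : W.relIndex (Q ⊔ W) = W.relIndex Q := by
      rw [Subgroup.relIndex_sup_right]
    rw [h9] at h8
    exact h8
  have h8 : Nat.card ↥((Q ⊓ W).map (QuotientGroup.mk' (Zu T 3))) * 8 = Nat.card (W.subgroupOf Q) := by
    have e1 : Nat.card (W.subgroupOf Q) = Nat.card ↥(Q ⊓ W) := by
      have := Nat.card_congr (Subgroup.equivMapOfInjective (W.subgroupOf Q) Q.subtype Q.subtype_injective).toEquiv
      rwa [Subgroup.subgroupOf_map_subtype, inf_comm] at this
    have e2 : Nat.card ↥((Q ⊓ W).map (QuotientGroup.mk' (Zu T 3))) * Nat.card ↥(Zu T 3) = Nat.card ↥(Q ⊓ W) := by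
      have h9 : Zu T 3 ≤ Q ⊓ W := le_inf h3 h.Z3_le_W
      have h10 := ((Q ⊓ W).map (QuotientGroup.mk' (Zu T 3))).card_mul_index
      have h11 : ((Q ⊓ W).map (QuotientGroup.mk' (Zu T 3))).index = (Q ⊓ W).index := by
        apply Subgroup.index_map_eq
        · exact QuotientGroup.mk'_surjective _
        · rw [QuotientGroup.ker_mk']
          exact h9
      have h12 := (Q ⊓ W).card_mul_index
      have h13 := (Zu T 3).card_mul_index
      have h14 : (Zu T 3).index = Nat.card (T ⧸ Zu T 3) := rfl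
      rw [h14, ← h10, h11] at h13
      have h15 : 0 < (Q ⊓ W).index := Nat.pos_of_ne_zero Subgroup.index_ne_zero_of_finite
      apply Nat.eq_of_mul_eq_mul_right h15
      rw [h12, ← h13]; ring
    rw [e1, ← e2, h.cardZ 3 (by norm_num)]
    norm_num
  have h9 : (Q ⊓ W).map (QuotientGroup.mk' (Zu T 3)) ≤ V W ⊓ centralizer (X : Set (T ⧸ Zu T 3)) := by
    rintro _ ⟨d, ⟨hdQ, hdW⟩, rfl⟩
    refine ⟨mem_V hdW, ?_⟩
    have h10 : X ≤ centralizer {QuotientGroup.mk' (Zu T 3) d} := by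
      rw [hX, Subgroup.map_sup]
      refine sup_le ?_ ?_
      · rintro _ ⟨q, hq, rfl⟩
        rw [Subgroup.mem_centralizer_singleton_iff]
        have h11 := le21.trans le32 (hcommQ q hq d hdQ)
        have h12 : QuotientGroup.mk' (Zu T 3) ⁅q, d⁆ = 1 := (QuotientGroup.eq_one_iff _).2 h11
        rw [map_commutatorElement, commutatorElement_eq_one_iff_mul_comm] at h12
        exact h12
      · rintro _ ⟨q, hq, rfl⟩
        rw [Subgroup.mem_centralizer_singleton_iff]
        exact h.V_facts.2.1 _ (mem_V hq) _ (mem_V hdW)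
    exact Subgroup.mem_centralizer_iff.2 fun x hx => Subgroup.mem_centralizer_singleton_iff.1 (h10 hx)
  have h10 := (Subgroup.card_le_of_le h9).trans (h.card_fix X)
  rw [hXi] at h10
  set s := (W.subgroupOf Q).index with hs
  set m := (Q ⊔ W).index with hm
  set d := Nat.card ↥((Q ⊓ W).map (QuotientGroup.mk' (Zu T 3))) with hd
  rw [← h8] at h6
  have h11 : s = 0 ∨ s = 1 ∨ s = 2 ∨ s = 3 ∨ s = 4 := by omega
  rcases h11 with h12 | h12 | h12 | h12 | h12
  · rw [h12] at h7; omega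
  · exact h5 h12
  · rw [h12] at h7 h6
    have h13 : m = 4 := by omega
    rw [h13] at h10
    omega
  · rw [h12] at h7; omega
  · rw [h12] at h7 h6
    have h13 : m = 2 := by omega
    rw [h13] at h10
    omega

end Hyp

end Cfsg.Agent.H303.RuMain
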