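import Cfsg.Agent.H303.ImcSpFourGeo
import Cfsg.Agent.H661.SC.NonPrin

/-!
# `IMC p PSp₄(q)` for odd `p ∣ q² - 1` (helper303, S4526)
-/

set_option autoImplicit false
set_option linter.unusedSectionVars false

namespace Cfsg.Agent.H303.ImcSp

open Subgroup Cfsg Cfsg.Agent.H952.Rc Cfsg.Agent.H387.NbPsp
open Cfsg.Agent.BpCl (Iso mem_Iso exists_coords nonempty_symp)
open Cfsg.Agent.H679.NB.Psp
open Cfsg.Agent.H625.SylConst Cfsg.Agent.H661.SC
open Cfsg.Agent.Characters.Core Cfsg.Agent.Blocks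
open Matrix

universe u v

/-! ### abelian Sylow subgroups -/

/-- If some abelian subgroup has order `|G|_p` then every `p`-subgroup is abelian. -/
theorem comm_of_card {G : Type u} [Group G] [Finite G] {p : ℕ} [hp : Fact p.Prime] (A : Subgroup G)
    (hA : ∀ x ∈ A, ∀ y ∈ A, x * y = y * x) (hc : Nat.card A = p ^ (Nat.card G).factorization p)
    {Q : Subgroup G} (hQ : IsPGroup p Q) : ∀ x ∈ Q, ∀ y ∈ Q, x * y = y * x := by
  obtain ⟨P, hP⟩ := hQ.exists_le_sylow
  obtain ⟨g, hg⟩ := MulAction.exists_smul_eq G (Sylow.ofCard A hc) P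
  have h1 : ∀ x ∈ Q, g⁻¹ * x * g ∈ A := by
    intro x hx
    have h2 : x ∈ (g • Sylow.ofCard A hc : Sylow p G) := by rw [hg]; exact hP hx
    rw [Sylow.smul_def] at h2
    obtain ⟨a, ha, hax⟩ := h2
    have ha' : a ∈ A := ha
    have hax' : g * a * g⁻¹ = x := hax
    rw [← hax']
    have : g⁻¹ * (g * a * g⁻¹) * g = a := by group
    rwa [this]
  intro x hx y hy
  have h3 := hA _ (h1 x hx) _ (h1 y hy)
  have h4 : g⁻¹ * (x * y) * g = g⁻¹ * (y * x) * g := by
    calc g⁻¹ * (x * y) * g = g⁻¹ * x * g * (g⁻¹ * y * g) := by group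
      _ = g⁻¹ * y * g * (g⁻¹ * x * g) := h3
      _ = _ := by group
  exact mul_left_cancel (mul_right_cancel h4)

theorem cross {F : Type u} [Field F] {b c t x y z x' y' z' : F} (h : b ≠ 0 ∨ c ≠ 0 ∨ t ≠ 0)
    (e1 : b * y = x * c) (e2 : b * z = x * t) (e3 : y * t = c * z)
    (f1 : b * y' = x' * c) (f2 : b * z' = x' * t) (f3 : y' * t = c * z') :
    x * y' = x' * y ∧ x * z' = x' * z ∧ y * z' = y' * z := by
  rcases h with h | h | h
  · have k1 : x * y' = x' * y := mul_left_cancel₀ h (by linear_combination x * f1 - x' * e1)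
    exact ⟨k1, mul_left_cancel₀ h (by linear_combination x * f2 - x' * e2),
      mul_left_cancel₀ h (by linear_combination y * f2 - y' * e2 - t * k1)⟩
  · have k1 : x * y' = x' * y := mul_left_cancel₀ h (by linear_combination y * f1 - y' * e1)
    exact ⟨k1, mul_left_cancel₀ h (by linear_combination t * k1 - x * f3 + x' * e3),
      mul_left_cancel₀ h (by linear_combination -y * f3 + y' * e3)⟩
  · exact ⟨mul_left_cancel₀ (mul_ne_zero h h) (by
        linear_combination -(t * y') * e2 + (b * z) * f3 + (t * y) * f2 - (b * z') * e3),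
      mul_left_cancel₀ h (by linear_combination -z' * e2 + z * f2),
      mul_left_cancel₀ h (by linear_combination z' * e3 - z * f3)⟩

/-- 2×2 matrices commuting with a non-scalar one commute. -/
theorem comm_of_nonscalar {F : Type u} [Field F] {M A C : Matrix (Fin 2) (Fin 2) F}
    (hM : M 0 1 ≠ 0 ∨ M 1 0 ≠ 0 ∨ M 0 0 ≠ M 1 1) (hA : M * A = A * M) (hC : M * C = C * M) : A * C = C * A := by
  have e1 := congrFun (congrFun hA 0) 0
  have e2 := congrFun (congrFun hA 0) 1
  have e3 := congrFun (congrFun hA 1) 0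
  have f1 := congrFun (congrFun hC 0) 0
  have f2 := congrFun (congrFun hC 0) 1
  have f3 := congrFun (congrFun hC 1) 0
  simp only [Matrix.mul_apply, Fin.sum_univ_two] at e1 e2 e3 f1 f2 f3
  have k := cross (b := M 0 1) (c := M 1 0) (t := M 1 1 - M 0 0) (x := A 0 1) (y := A 1 0) (z := A 1 1 - A 0 0)
    (x' := C 0 1) (y' := C 1 0) (z' := C 1 1 - C 0 0)
    (hM.imp_right (Or.imp_right fun h h' => h (sub_eq_zero.1 h').symm))
    (by linear_combination e1) (by linear_combination e2) (by linear_combination e3)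
    (by linear_combination f1) (by linear_combination f2) (by linear_combination f3)
  ext i j
  fin_cases i <;> fin_cases j <;> simp only [Matrix.mul_apply, Fin.sum_univ_two] <;> simp
  · linear_combination k.1
  · linear_combination k.2.1
  · linear_combination -k.2.2
  · linear_combination -k.1

theorem sl_scalar {F : Type u} [Field F] {z : SpecialLinearGroup (Fin 2) F}
    (h : ¬ (z.1 0 1 ≠ 0 ∨ z.1 1 0 ≠ 0 ∨ z.1 0 0 ≠ z.1 1 1)) : z ^ 2 = 1 := by
  push Not at h
  obtain ⟨h1, h2, h3⟩ := h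
  have hd := z.2
  rw [Matrix.det_fin_two, h1, h2, ← h3] at hd
  apply Subtype.ext
  rw [Matrix.SpecialLinearGroup.coe_pow, pow_two]
  change z.1 * z.1 = 1
  ext i j
  fin_cases i <;> fin_cases j <;> simp only [Matrix.mul_apply, Fin.sum_univ_two] <;> simp [h1, h2, ← h3]
  · linear_combination hd
  · linear_combination hd

/-- `p`-subgroups of `SL₂(F)`, `p` odd, are abelian. -/
theorem comm_sl {F : Type u} [Field F] [Finite F] {p : ℕ} [hp : Fact p.Prime] (h2 : p ≠ 2)
    {R : Subgroup (SpecialLinearGroup (Fin 2) F)} (hR : IsPGroup p R) : ∀ x ∈ R, ∀ y ∈ R, x * y = y * x := by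
  by_cases h1 : R = ⊥
  · intro x hx y hy
    rw [h1, mem_bot] at hx hy
    rw [hx, hy]
  have hnt : Nontrivial R := (Subgroup.nontrivial_iff_ne_bot R).2 h1
  have hc : Nontrivial (Subgroup.center R) := hR.center_nontrivial
  obtain ⟨⟨z, hz⟩, hz1⟩ := exists_ne (1 : Subgroup.center R)
  have hzns : (z : SpecialLinearGroup (Fin 2) F).1 0 1 ≠ 0 ∨ (z : SpecialLinearGroup (Fin 2) F).1 1 0 ≠ 0 ∨
      (z : SpecialLinearGroup (Fin 2) F).1 0 0 ≠ (z : SpecialLinearGroup (Fin 2) F).1 1 1 := by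
    by_contra hcon
    have h3 := sl_scalar hcon
    obtain ⟨k, hk⟩ := hR z
    have h4 : (z : SpecialLinearGroup (Fin 2) F) ^ p ^ k = 1 := by
      have := congrArg (fun t : R => (t : SpecialLinearGroup (Fin 2) F)) hk
      simpa using this
    have h5 := Nat.dvd_gcd (orderOf_dvd_of_pow_eq_one h4) (orderOf_dvd_of_pow_eq_one h3)
    have h6 : Nat.gcd (p ^ k) 2 = 1 := Nat.Coprime.pow_left k ((Nat.coprime_primes hp.out Nat.prime_two).2 h2)
    rw [h6] at h5
    have h7 : (z : SpecialLinearGroup (Fin 2) F) = 1 := orderOf_eq_one_iff.1 (Nat.dvd_one.1 h5)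
    exact hz1 (Subtype.ext (Subtype.ext h7))
  have key : ∀ x ∈ R, (z : SpecialLinearGroup (Fin 2) F).1 * x.1 = x.1 * (z : SpecialLinearGroup (Fin 2) F).1 := by
    intro x hx
    have h3 := (Subgroup.mem_center_iff.1 hz) ⟨x, hx⟩
    have h4 := congrArg (fun t : R => (t : SpecialLinearGroup (Fin 2) F).1) h3
    exact h4.symm
  intro x hx y hy
  exact Subtype.ext (comm_of_nonscalar hzns (key x hx) (key y hy))

section Main

variable {F : Type u} {V : Type v} [Field F] [AddCommGroup V] [Module F V] {B : LinearMap.BilinForm F V}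
variable {e₁ f₁ e₂ f₂ : V}

open Classical in
/-- **odd `p` dividing `q² - 1`** -/
theorem imc_odd [Finite F] [Finite V] (h : Fr B e₁ f₁ e₂ f₂) {p r : ℕ} [hpF : Fact p.Prime] [CharP F r] (hr : r.Prime)
    (h2 : p ≠ 2) (hpr : p ≠ r) (hdvd : p ∣ Nat.card (SpecialLinearGroup (Fin 2) F))
    (hcard : (Nat.card (↥(Iso (fun u v => B u v)) ⧸ center ↥(Iso (fun u v => B u v)))).factorization p =
      2 * (Nat.card (SpecialLinearGroup (Fin 2) F)).factorization p)
    (ψ : IrrCharacter (SpecialLinearGroup (Fin 2) F))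
    (hψ : (Nat.card (SpecialLinearGroup (Fin 2) F)).factorization p ≤
      (charDegree (ψ : SpecialLinearGroup (Fin 2) F → ℂ)).factorization p) :
    IMC p (↥(Iso (fun u v => B u v)) ⧸ center ↥(Iso (fun u v => B u v))) := by
  have hp : p.Prime := hpF.out
  have hf0 : Finite (V ≃ₗ[F] V) := Finite.of_injective (fun h : V ≃ₗ[F] V => (h : V → V)) DFunLike.coe_injective
  set Γ := Iso (fun u v => B u v) with hΓd
  set L := SpecialLinearGroup (Fin 2) F with hL
  set a : ℕ := (Nat.card L).factorization p with ha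
  have ha1 : 1 ≤ a := hp.factorization_pos_of_dvd Nat.card_pos.ne' hdvd
  set π := QuotientGroup.mk' (center ↥Γ) with hπ
  set j1 : L →* ↥Γ := emb h.alt h.h1 with hj1
  set j2 : L →* ↥Γ := emb h.alt h.h2 with hj2
  have hcm : ∀ x y : L, Commute (j1 x) (j2 y) := h.comm
  set i1 : L →* (↥Γ ⧸ center ↥Γ) := π.comp j1 with hi1
  set i2 : L →* (↥Γ ⧸ center ↥Γ) := π.comp j2 with hi2
  have hcm' : ∀ x y : L, Commute (i1 x) (i2 y) := fun x y => (hcm x y).map π
  -- kernels
  have hker : ∀ x y : L, π (j1 x * j2 y) = 1 → x ^ 2 = 1 ∧ y ^ 2 = 1 := by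
    intro x y hxy
    have h3 : j1 x * j2 y ∈ center ↥Γ := (QuotientGroup.eq_one_iff _).1 hxy
    have h4 := h.center_sq h3
    rw [(hcm x y).mul_pow, ← map_pow, ← map_pow] at h4
    exact h.prod_eq_one h4
  obtain ⟨R⟩ : Nonempty (Sylow p L) := inferInstance
  have hRc := comm_sl h2 R.isPGroup'
  have hRcard : Nat.card R = p ^ a := R.card_eq_multiplicity
  have hodd : ∀ x ∈ (R : Subgroup L), x ^ 2 = 1 → x = 1 := by
    intro x hx h3
    obtain ⟨k, hk⟩ := R.isPGroup' ⟨x, hx⟩
    have h4 : x ^ p ^ k = 1 := by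
      have := congrArg (fun t : R => (t : L)) hk
      simpa using this
    have h5 := Nat.dvd_gcd (orderOf_dvd_of_pow_eq_one h4) (orderOf_dvd_of_pow_eq_one h3)
    have h6 : Nat.gcd (p ^ k) 2 = 1 := Nat.Coprime.pow_left k ((Nat.coprime_primes hp Nat.prime_two).2 h2)
    rw [h6] at h5
    exact orderOf_eq_one_iff.1 (Nat.dvd_one.1 h5)
  -- the abelian Sylow subgroup
  set Φ : L × L →* (↥Γ ⧸ center ↥Γ) := MonoidHom.noncommCoprod i1 i2 hcm' with hΦ
  have hΦv : ∀ x : L × L, Φ x = π (j1 x.1 * j2 x.2) := fun x => (map_mul π _ _).symm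
  set A : Subgroup (↥Γ ⧸ center ↥Γ) := ((R : Subgroup L).prod (R : Subgroup L)).map Φ with hA
  have hAc : ∀ x ∈ A, ∀ y ∈ A, x * y = y * x := by
    rintro _ ⟨x, hx, rfl⟩ _ ⟨y, hy, rfl⟩
    rw [← map_mul, ← map_mul]
    congr 1
    exact Prod.ext (hRc _ hx.1 _ hy.1) (hRc _ hx.2 _ hy.2)
  have hAcard : Nat.card A = p ^ (Nat.card (↥Γ ⧸ center ↥Γ)).factorization p := by
    have hinj : Function.Injective (Φ.comp ((R : Subgroup L).prod (R : Subgroup L)).subtype) := by
      rw [injective_iff_map_eq_one]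
      intro x hx
      have h3 := hker x.1.1 x.1.2 ((hΦv x.1).symm.trans hx)
      exact Subtype.ext (Prod.ext (hodd _ x.2.1 h3.1) (hodd _ x.2.2 h3.2))
    have h3 : (Φ.comp ((R : Subgroup L).prod (R : Subgroup L)).subtype).range = A := by
      rw [MonoidHom.range_comp, range_subtype]
    rw [← h3, ← Nat.card_congr (MonoidHom.ofInjective hinj).toEquiv,
      Nat.card_congr (Subgroup.prodEquiv (R : Subgroup L) (R : Subgroup L)).toEquiv, Nat.card_prod, hcard]
    change Nat.card R * Nat.card R = _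
    rw [hRcard, ← pow_add, two_mul]
  -- `D`
  set D : Subgroup (↥Γ ⧸ center ↥Γ) := (R : Subgroup L).map i1 with hD
  have hDp : IsPGroup p D := R.isPGroup'.map i1
  have hDcard : Nat.card D = p ^ a := by
    have hinj : Function.Injective (i1.comp (R : Subgroup L).subtype) := by
      rw [injective_iff_map_eq_one]
      intro x hx
      have h3 := hker x.1 1 (by rw [map_one, mul_one]; exact hx)
      exact Subtype.ext (hodd _ x.2 h3.1)
    have h3 : (i1.comp (R : Subgroup L).subtype).range = D := by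
      rw [MonoidHom.range_comp, range_subtype]
    rw [← h3, ← Nat.card_congr (MonoidHom.ofInjective hinj).toEquiv]
    exact hRcard
  have hDc : ∀ x ∈ D, ∀ y ∈ D, x * y = y * x := comm_of_card A hAc hAcard hDp
  -- the centralizer of `D`
  set C := centralizer (D : Set (↥Γ ⧸ center ↥Γ)) with hC
  have hi2C : ∀ y : L, i2 y ∈ C := by
    intro y
    rw [hC, mem_centralizer_iff]
    rintro _ ⟨x, -, rfl⟩
    exact (hcm' x y).eq
  -- elements of `C`
  have hCe : ∀ c ∈ C, ∃ x y : L, c = i1 x * i2 y := by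
    intro c hc
    obtain ⟨g, rfl⟩ := QuotientGroup.mk'_surjective (center ↥Γ) c
    obtain ⟨⟨x0, hx0⟩, hxo⟩ := exists_prime_orderOf_dvd_card' (G := R) p (by
      rw [hRcard]; exact dvd_pow_self p (by omega))
    have hxo' : orderOf x0 = p := by rw [← hxo, Subgroup.orderOf_mk]
    have htr := trace_ne_two hp hr hpr hxo'
    have hXp : j1 x0 ^ p = 1 := by rw [← map_pow, ← hxo', pow_orderOf_eq_one, map_one]
    have hg : π g * π (j1 x0) = π (j1 x0) * π g :=
      (mem_centralizer_iff.1 hc _ (Subgroup.mem_map_of_mem i1 hx0)).symm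
    have hcomm : g * j1 x0 = j1 x0 * g := by
      rw [← map_mul, ← map_mul] at hg
      have h3 : (j1 x0 * g)⁻¹ * (g * j1 x0) ∈ center ↥Γ := QuotientGroup.eq.1 hg.symm
      set z := (j1 x0 * g)⁻¹ * (g * j1 x0) with hz
      have h4 : g * j1 x0 = j1 x0 * g * z := by rw [hz]; group
      have h5 : g * j1 x0 * g⁻¹ = j1 x0 * z := by
        rw [h4, mul_assoc, ← mem_center_iff.1 h3, ← mul_assoc]
        group
      have h6 : z ^ p = 1 := by
        have h7 : (g * j1 x0 * g⁻¹) ^ p = (j1 x0 * z) ^ p := by rw [h5]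
        rw [conj_pow, hXp, mul_one, mul_inv_cancel] at h7
        have h8 : Commute (j1 x0) z := mem_center_iff.1 h3 _
        rw [h8.mul_pow, hXp, one_mul] at h7
        exact h7.symm
      have h7 : z = 1 := by
        have h8 := Nat.dvd_gcd (orderOf_dvd_of_pow_eq_one h6) (orderOf_dvd_of_pow_eq_one (h.center_sq h3))
        have h9 : Nat.gcd p 2 = 1 := (Nat.coprime_primes hp Nat.prime_two).2 h2
        rw [h9] at h8
        exact orderOf_eq_one_iff.1 (Nat.dvd_one.1 h8)
      rw [h7, mul_one] at h4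
      exact h4
    have hfix : ∀ v, (j1 x0).1 v = v → B (g.1 v) f₁ = 0 ∧ B e₁ (g.1 v) = 0 := by
      intro v hv
      refine (emb_fix h.alt h.h1 htr (g.1 v)).1 ?_
      have h3 : (g * j1 x0).1 v = (j1 x0 * g).1 v := by rw [hcomm]
      change g.1 ((j1 x0).1 v) = (j1 x0).1 (g.1 v) at h3
      rw [hv] at h3
      exact h3.symm
    obtain ⟨k1, k2⟩ := hfix e₂ ((emb_fix h.alt h.h1 htr e₂).2 ⟨h.sw.ef, h.ee⟩)
    obtain ⟨k3, k4⟩ := hfix f₂ ((emb_fix h.alt h.h1 htr f₂).2 ⟨h.sw.ff, h.ef⟩)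
    obtain ⟨y, x, hyx⟩ := h.sw.exists_prod g (by rw [swap h.alt, k2, neg_zero]) k1 (by rw [swap h.alt, k4, neg_zero]) k3
    refine ⟨x, y, ?_⟩
    rw [hyx, (h.comm x y).symm.eq, map_mul]
    rfl
  -- the normal subgroup
  set j : L →* C := i2.codRestrict C hi2C with hj
  have hji : Function.Injective j := by
    rw [injective_iff_map_eq_one]
    intro y hy
    have h3 : i2 y = 1 := congrArg Subtype.val hy
    have h4 : j2 y ∈ center ↥Γ := (QuotientGroup.eq_one_iff _).1 h3
    have hΓ : ∀ h : V ≃ₗ[F] V, h ∈ Γ ↔ ∀ u v, B (h u) (h v) = B u v := fun _ => Iff.rfl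
    have he : e₁ ≠ 0 := by
      rintro rfl
      have := h.h1
      simp at this
    have h5 := eq_one_of_center_fix h.alt h.nd hΓ h4 he (emb_orth _ _ _ h.ef h.sw.ee)
    apply emb_injective h.alt h.h2
    rw [map_one]
    exact h5
  have hN : j.range.Normal := by
    constructor
    rintro _ ⟨y, rfl⟩ ⟨c, hc⟩
    obtain ⟨x, z, rfl⟩ := hCe c hc
    refine ⟨z * y * z⁻¹, ?_⟩
    apply Subtype.ext
    change i2 (z * y * z⁻¹) = i1 x * i2 z * i2 y * (i1 x * i2 z)⁻¹
    rw [map_mul, map_mul, map_inv, _root_.mul_inv_rev]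
    have h3 := hcm' x (z * y * z⁻¹)
    have h4 : i1 x * i2 z * i2 y * ((i2 z)⁻¹ * (i1 x)⁻¹) = i1 x * i2 (z * y * z⁻¹) * (i1 x)⁻¹ := by
      rw [map_mul, map_mul, map_inv]; group
    rw [h4, h3.eq, map_mul, map_mul, map_inv]
    group
  set e : L ≃* j.range := MonoidHom.ofInjective hji with he
  have hψN : IsIrrCharacter j.range (fun n => (ψ : L → ℂ) (e.symm n)) :=
    Cfsg.Agent.Blocks.CliffordCentral.isIrrCharacter_comp ψ.2 e.symm.toMonoidHom e.symm.surjective
  have : Fintype j.range := Fintype.ofFinite _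
  obtain ⟨θ, hθ⟩ := Cfsg.Agent.Blocks.Over.exists_over j.range ⟨_, hψN⟩
  have hdd := H670.PSing.degree_dvd_of_over j.range hψN θ.2 hθ
  have hdeg : charDegree (fun n : j.range => (ψ : L → ℂ) (e.symm n)) = charDegree (ψ : L → ℂ) := by
    unfold charDegree
    simp only [map_one]
  rw [hdeg] at hdd
  have hDind : Nat.card D * D.index = Nat.card (↥Γ ⧸ center ↥Γ) := D.card_mul_index
  refine imc_of_local D hDp ?_ θ ?_ ?_
  · have h3 : a + D.index.factorization p = 2 * a := by
      rw [← hcard, ← hDind, Nat.factorization_mul Nat.card_pos.ne' Subgroup.index_ne_zero_of_finite, Finsupp.add_apply,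
        hDcard, hp.factorization_pow, Finsupp.single_eq_same]
    exact (hp.dvd_iff_one_le_factorization Subgroup.index_ne_zero_of_finite).2 (by omega)
  · change (Nat.card C).factorization p ≤ (charDegree (θ : C → ℂ)).factorization p +
      (Nat.card ↥(D ⊓ C)).factorization p
    have h3 : (Nat.card C).factorization p ≤ 2 * a := by
      rw [← hcard]
      exact (Nat.factorization_le_iff_dvd Nat.card_pos.ne' Nat.card_pos.ne').2 (Subgroup.card_subgroup_dvd_card C) p
    have h4 : a ≤ (charDegree (θ : C → ℂ)).factorization p :=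
      hψ.trans ((Nat.factorization_le_iff_dvd (Basic.charDegree_pos ψ.2).ne' (Basic.charDegree_pos θ.2).ne').2 hdd p)
    have h5 : D ⊓ C = D := inf_eq_left.2 fun x hx => mem_centralizer_iff.2 fun y hy => hDc y hy x hx
    have h6 : (Nat.card ↥(D ⊓ C)).factorization p = a := by
      rw [h5, hDcard, hp.factorization_pow, Finsupp.single_eq_same]
    rw [h6]
    omega
  · intro g hg ⟨k, hk⟩
    refine (le_sup_right : C ≤ D ⊔ C) ?_
    have hz : IsPGroup p (zpowers g) := by
      rw [IsPGroup.iff_card]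
      exact ⟨k, by rw [Nat.card_zpowers, hk]⟩
    have hQ : IsPGroup p (zpowers g ⊔ D : Subgroup _) :=
      hz.to_sup_of_normal_right' hDp (by rw [zpowers_le]; exact hg)
    have h3 := comm_of_card A hAc hAcard hQ
    rw [hC, mem_centralizer_iff]
    intro x hx
    exact h3 x ((le_sup_right : D ≤ zpowers g ⊔ D) hx) g ((le_sup_left : zpowers g ≤ zpowers g ⊔ D) (mem_zpowers g))

end Main

end Cfsg.Agent.H303.ImcSp
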