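import Cfsg.Agent.H303.ImcSpFour
import Cfsg.Agent.ClassicalGeometry.QuatPair

/-!
# `IMC p PSp₄(q)` for `p` prime to `q (q² - 1)`, and `p = 2` (helper303, S4526)
-/

set_option autoImplicit false
set_option linter.unusedSectionVars false

namespace Cfsg.Agent.H303.ImcSp

open Subgroup Cfsg Cfsg.Agent.H952.Rc Cfsg.Agent.H387.NbPsp
open Cfsg.Agent.BpCl (Iso mem_Iso exists_coords nonempty_symp)
open Cfsg.Agent.H679.NB.Psp
open Cfsg.Agent.H625.SylConst Cfsg.Agent.H661.SC
open Cfsg.Agent.Characters.Core Cfsg.Agent.Blocks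
open Matrix

universe u v

section Main

variable {F : Type u} {V : Type v} [Field F] [AddCommGroup V] [Module F V] {B : LinearMap.BilinForm F V}
variable {e₁ f₁ e₂ f₂ : V}

local notation "SL2" => SpecialLinearGroup (Fin 2) F

theorem TV_eq (hA : B.IsAlt) (hnd : ∀ u, (∀ v, B u v = 0) → u = 0) {u w : V} (hu : u ≠ 0)
    (h : TV hA w = TV hA u) : ∃ c : F, c * c = 1 ∧ w = c • u := by
  obtain ⟨v, hv⟩ := exists_ne_sp hA hnd hu
  have h1 : v + B v w • w = v + B v u • u := by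
    rw [← TV_apply hA w v, ← TV_apply hA u v, h]
  rw [add_right_inj] at h1
  have h2 : B v w ≠ 0 := by
    intro h0
    rw [h0, zero_smul] at h1
    exact (smul_ne_zero hv hu) h1.symm
  set d := B v w with hd
  set s := B v u with hs
  have h3 : w = (d⁻¹ * s) • u := by
    rw [mul_smul, ← h1, smul_smul, inv_mul_cancel₀ h2, one_smul]
  refine ⟨d⁻¹ * s, ?_, h3⟩
  have h4 : d = (d⁻¹ * s) * s := by
    conv_lhs => rw [hd, h3, map_smul, smul_eq_mul]
  have h5 : d * d = s * s := by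
    calc d * d = d * (d⁻¹ * s * s) := by rw [← h4]
      _ = s * s := by field_simp
  field_simp
  rw [pow_two, pow_two, h5]

/-- The stabilizer of a vector has order prime to `p`. -/
theorem eq_one_of_fix [Finite F] [Finite V] (hdim : Module.finrank F V = 4) {p : ℕ} [hp : Fact p.Prime]
    (hq : ¬ p ∣ Nat.card F) (hq2 : ¬ p ∣ Nat.card F ^ 2 - 1) (h4 : p ∣ Nat.card F ^ 4 - 1)
    (y : V ≃ₗ[F] V) (hy : y ^ p = 1) {u : V} (hu : u ≠ 0) (hyu : y u = u) : y = 1 := by
  classical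
  have : FiniteDimensional F V := Module.finite_of_finrank_pos (by omega)
  have hf0 : Finite (V ≃ₗ[F] V) := Finite.of_injective (fun h : V ≃ₗ[F] V => (h : V → V)) DFunLike.coe_injective
  set q := Nat.card F with hqd
  have hq1 : 1 < q := Finite.one_lt_card
  set W : Submodule F V := LinearMap.ker (y.toLinearMap - LinearMap.id) with hW
  have hmW : ∀ v, v ∈ W ↔ y v = v := by
    intro v
    rw [hW, LinearMap.mem_ker, LinearMap.sub_apply, sub_eq_zero]
    rfl
  have hz : IsPGroup p (zpowers y) := by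
    have h1 : orderOf y ∣ p ^ 1 := by rw [pow_one]; exact orderOf_dvd_of_pow_eq_one hy
    obtain ⟨k, -, hk⟩ := (Nat.dvd_prime_pow hp.out).1 h1
    rw [IsPGroup.iff_card]
    exact ⟨k, by rw [Nat.card_zpowers, hk]⟩
  have h1 := hz.card_modEq_card_fixedPoints V
  have h2 : Nat.card (MulAction.fixedPoints (zpowers y) V) = Nat.card W := by
    apply Nat.card_congr
    apply Equiv.setCongr
    ext v
    rw [MulAction.mem_fixedPoints]
    constructor
    · intro hv
      exact (hmW v).2 (hv ⟨y, mem_zpowers y⟩)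
    · rintro hv ⟨m, hm⟩
      obtain ⟨i, rfl⟩ := Subgroup.mem_zpowers_iff.1 hm
      have h3 : y ∈ MulAction.stabilizer (V ≃ₗ[F] V) v := (hmW v).1 hv
      exact Subgroup.zpow_mem _ h3 i
  rw [h2, Module.natCard_eq_pow_finrank (K := F) (V := V), Module.natCard_eq_pow_finrank (K := F) (V := W), hdim] at h1
  have hd4 : Module.finrank F W ≤ 4 := hdim ▸ Submodule.finrank_le W
  have hd0 : 1 ≤ Module.finrank F W := by
    have : Nontrivial W := ⟨⟨u, (hmW u).2 hyu⟩, 0, fun h => hu (congrArg Subtype.val h)⟩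
    exact Module.finrank_pos
  have key : p ∣ q ^ (4 - Module.finrank F W) - 1 := by
    have h3 := (Nat.modEq_iff_dvd' (Nat.pow_le_pow_right (by omega) hd4)).1 h1.symm
    have h5 : q ^ 4 - q ^ Module.finrank F W =
        q ^ Module.finrank F W * (q ^ (4 - Module.finrank F W) - 1) := by
      rw [Nat.mul_sub, ← pow_add, mul_one]
      congr 2
      omega
    rw [h5] at h3
    rcases hp.out.dvd_mul.1 h3 with h6 | h6
    · exact absurd (hp.out.dvd_of_dvd_pow h6) hq
    · exact h6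
  have hq1' : ¬ p ∣ q - 1 := by
    intro h5
    apply hq2
    refine h5.trans ?_
    have h6 : q ^ 2 - 1 = (q + 1) * (q - 1) := by
      zify [Nat.one_le_pow 2 q (by omega), show 1 ≤ q by omega]
      ring
    rw [h6]
    exact dvd_mul_left _ _
  have h5 : Module.finrank F W = 4 := by
    have h7 : Module.finrank F W = 1 ∨ Module.finrank F W = 2 ∨ Module.finrank F W = 3 ∨ Module.finrank F W = 4 := by
      omega
    rcases h7 with h7 | h7 | h7 | h7
    · exfalso
      rw [h7] at key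
      apply hq1'
      have h8 := Nat.dvd_gcd key h4
      rw [Nat.pow_sub_one_gcd_pow_sub_one] at h8
      simpa using h8
    · exact absurd (by rw [h7] at key; exact key) hq2
    · exact absurd (by rw [h7] at key; simpa using key) hq1'
    · exact h7
  have h6 : W = ⊤ := Submodule.eq_top_of_finrank_eq (by rw [h5, hdim])
  apply LinearEquiv.ext
  intro v
  exact (hmW v).1 (by rw [h6]; exact Submodule.mem_top)

/-- **`p` prime to `q (q² - 1)`** -/
theorem imc_prime_to [Finite F] [Finite V] (h : Fr B e₁ f₁ e₂ f₂) (hdim : Module.finrank F V = 4) {p r : ℕ}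
    [hpF : Fact p.Prime] [CharP F r] (hr : r.Prime) (h2 : p ≠ 2)
    (hpr : p ≠ r) (hdvd : ¬ p ∣ Nat.card (SpecialLinearGroup (Fin 2) F))
    (hG : p ∣ Nat.card (↥(Iso (fun u v => B u v)) ⧸ center ↥(Iso (fun u v => B u v))))
    (hq : ¬ p ∣ Nat.card F) (hq2 : ¬ p ∣ Nat.card F ^ 2 - 1) (h4 : p ∣ Nat.card F ^ 4 - 1) :
    IMC p (↥(Iso (fun u v => B u v)) ⧸ center ↥(Iso (fun u v => B u v))) := by
  have hp : p.Prime := hpF.out
  have hf0 : Finite (V ≃ₗ[F] V) := Finite.of_injective (fun h : V ≃ₗ[F] V => (h : V → V)) DFunLike.coe_injective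
  have hA := h.alt
  set Γ := Iso (fun u v => B u v) with hΓd
  set π := QuotientGroup.mk' (center ↥Γ) with hπ
  have he : e₁ ≠ 0 := by
    rintro rfl
    have := h.h1
    simp at this
  have hcop : ∀ y : ↥Γ ⧸ center ↥Γ, ∀ N : ℕ, Nat.Coprime p N → y ^ N = 1 → ∀ j : ℕ, y ^ p ^ j = 1 → y = 1 := by
    intro y N hN h1 j h2
    have h3 := Nat.dvd_gcd (orderOf_dvd_of_pow_eq_one h1) (orderOf_dvd_of_pow_eq_one h2)
    have h4 : Nat.gcd N (p ^ j) = 1 := (Nat.Coprime.pow_left j hN).symm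
    rw [h4] at h3
    exact orderOf_eq_one_iff.1 (Nat.dvd_one.1 h3)
  have hclass : ∀ g, IsConj (π (TV hA e₁)) g → ∃ w : V, g = π (TV hA w) := by
    intro g hg
    obtain ⟨c, hc⟩ := isConj_iff.1 hg
    obtain ⟨c, rfl⟩ := QuotientGroup.mk'_surjective (center ↥Γ) c
    exact ⟨c.1 e₁, by rw [← hc, ← TV_conj, map_mul, map_mul, map_inv]⟩
  refine imc_of_quotients (s := π (TV hA e₁)) ?_ ?_
  · by_contra hcon
    have h3 := Subgroup.card_mul_index (centralizer ({π (TV hA e₁)} : Set (↥Γ ⧸ center ↥Γ)))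
    rw [← h3] at hG
    have h5 : p ∣ Nat.card (centralizer ({π (TV hA e₁)} : Set (↥Γ ⧸ center ↥Γ))) :=
      (hp.dvd_mul.1 hG).resolve_right hcon
    obtain ⟨⟨x, hx⟩, hxo⟩ := exists_prime_orderOf_dvd_card' p h5
    rw [Subgroup.orderOf_mk] at hxo
    obtain ⟨g, rfl⟩ := QuotientGroup.mk'_surjective (center ↥Γ) x
    rw [mem_centralizer_singleton_iff] at hx
    have h6 : π (TV hA (g.1 e₁)) = π (TV hA e₁) := by
      rw [← TV_conj, map_mul, map_mul, map_inv]
      change π g * π (TV hA e₁) * (π g)⁻¹ = _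
      rw [hx, mul_inv_cancel_right]
    have h7 : (TV hA e₁)⁻¹ * TV hA (g.1 e₁) ∈ center ↥Γ := QuotientGroup.eq.1 h6.symm
    set z := (TV hA e₁)⁻¹ * TV hA (g.1 e₁) with hz
    have h8 : g * TV hA e₁ * g⁻¹ = TV hA e₁ * z := by rw [TV_conj, hz, mul_inv_cancel_left]
    have h9 : TV hA (g.1 (g.1 e₁)) = TV hA e₁ := by
      rw [← TV_conj, ← TV_conj, h8]
      have h10 : g * (TV hA e₁ * z) * g⁻¹ = g * TV hA e₁ * g⁻¹ * z := by
        have := mem_center_iff.1 h7 g⁻¹
        rw [mul_assoc, mul_assoc (TV hA e₁), ← this]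
        group
      rw [h10, h8, mul_assoc, ← pow_two, h.center_sq h7, mul_one]
    obtain ⟨c, hc, hc'⟩ := TV_eq hA h.nd he h9
    have h10 : (g ^ 4).1 e₁ = e₁ := by
      change g.1 (g.1 (g.1 (g.1 e₁))) = e₁
      rw [hc', map_smul, map_smul, hc', smul_smul, hc, one_smul]
    have hx1 : (π g) ^ p = 1 := by rw [← hxo]; exact pow_orderOf_eq_one _
    have h11 : (g ^ 4) ^ p = 1 := by
      have h12 : g ^ p ∈ center ↥Γ := (QuotientGroup.eq_one_iff _).1 (by rw [← hx1]; rfl)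
      have h13 := h.center_sq h12
      rw [← pow_mul, show 4 * p = p * 2 * 2 by ring, pow_mul, pow_mul, h13, one_pow]
    have h12 := eq_one_of_fix hdim hq hq2 h4 (g ^ 4).1 (by
      have := congrArg Subtype.val h11
      exact this) he h10
    have h13 : g ^ 4 = 1 := Subtype.ext h12
    have h14 : (π g) ^ 4 = 1 := by rw [← map_pow, h13, map_one]
    have h15 := orderOf_dvd_of_pow_eq_one h14
    rw [show orderOf (π g) = p from hxo] at h15
    have h16 : p ∣ 2 ^ 2 := h15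
    exact h2 ((Nat.prime_dvd_prime_iff_eq hp Nat.prime_two).1 (hp.dvd_of_dvd_pow h16))
  · rintro g k hg hk ⟨j, hj⟩
    obtain ⟨u, rfl⟩ := hclass g hg
    obtain ⟨w, rfl⟩ := hclass k hk
    obtain ⟨N, hN, h1⟩ := TV_quot hp hr hpr hdvd hA u w
    have h2 := hcop (π (TV hA u) * (π (TV hA w))⁻¹) N hN
      (by rw [← map_inv, ← map_mul, ← map_pow, h1, map_one]) j (by
      rw [← hj]; exact pow_orderOf_eq_one _)
    exact mul_inv_eq_one.1 h2

/-- **`p = 2`**: no nontrivial element of odd order centralizes a Sylow 2-subgroup. -/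
theorem noCent_two [Finite F] [Finite V] (h : Fr B e₁ f₁ e₂ f₂) (h2 : (2 : F) ≠ 0) :
    NoCent 2 (↥(Iso (fun u v => B u v)) ⧸ center ↥(Iso (fun u v => B u v))) := by
  classical
  have hp2 : Fact (Nat.Prime 2) := ⟨Nat.prime_two⟩
  have hf0 : Finite (V ≃ₗ[F] V) := Finite.of_injective (fun h : V ≃ₗ[F] V => (h : V → V)) DFunLike.coe_injective
  set Γ := Iso (fun u v => B u v) with hΓd
  set π := QuotientGroup.mk' (center ↥Γ) with hπ
  set j1 : SL2 →* ↥Γ := emb h.alt h.h1 with hj1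
  set j2 : SL2 →* ↥Γ := emb h.alt h.h2 with hj2
  have hcm : ∀ x y : SL2, Commute (j1 x) (j2 y) := h.comm
  set i1 : SL2 →* (↥Γ ⧸ center ↥Γ) := π.comp j1 with hi1
  set i2 : SL2 →* (↥Γ ⧸ center ↥Γ) := π.comp j2 with hi2
  have hcm' : ∀ x y : SL2, Commute (i1 x) (i2 y) := fun x y => (hcm x y).map π
  -- a quaternion pair
  obtain ⟨a, b, ha, hb, hab, hneg⟩ : ∃ a b : SL2, a * a = -1 ∧ b * b = -1 ∧ b * a * b⁻¹ = a⁻¹ ∧ a.1 * b.1 ≠ b.1 * a.1 := by
    obtain ⟨A, A', hp⟩ := Cfsg.Agent.ClassicalGeometry.QuatPair.exists_isPair h2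
    have hdA : A.det = 1 := Cfsg.Agent.ClassicalGeometry.QuatPair.det_of_sq (hp.traceA h2) hp.sqA
    have hdB : A'.det = 1 := Cfsg.Agent.ClassicalGeometry.QuatPair.det_of_sq (hp.traceB h2) hp.sqB
    obtain ⟨a, ha⟩ : ∃ a : SL2, a.1 = A := ⟨⟨A, hdA⟩, rfl⟩
    obtain ⟨b, hb⟩ : ∃ b : SL2, b.1 = A' := ⟨⟨A', hdB⟩, rfl⟩
    have hm1 : (-1 : SL2).1 = -1 := by
      change ((-1 : SL2) : Matrix (Fin 2) (Fin 2) F) = -1
      rw [Matrix.SpecialLinearGroup.coe_neg, Matrix.SpecialLinearGroup.coe_one]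
    have h3 : a * a = -1 := Subtype.ext (by
      change a.1 * a.1 = (-1 : SL2).1
      rw [hm1, ha, hp.sqA])
    have h4 : b * b = -1 := Subtype.ext (by
      change b.1 * b.1 = (-1 : SL2).1
      rw [hm1, hb, hp.sqB])
    refine ⟨a, b, h3, h4, ?_, ?_⟩
    · have h5 : a * (b * a) = b := by
        apply Subtype.ext
        change a.1 * (b.1 * a.1) = b.1
        rw [ha, hb, hp.anti', mul_neg, hp.sqA', neg_neg]
      have h6 : b * a * b⁻¹ = a⁻¹ * (a * (b * a)) * b⁻¹ := by group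
      rw [h6, h5, mul_assoc, mul_inv_cancel, mul_one]
    · intro h5
      rw [ha, hb, hp.anti] at h5
      have h6 : (2 : F) • (A' * A) = 0 := by
        rw [two_smul]
        nth_rewrite 1 [← h5]
        exact neg_add_cancel _
      have h7 : A' * A = 0 := (smul_eq_zero.1 h6).resolve_left h2
      have h8 : (A' * A).det = 1 := by rw [Matrix.det_mul, hdA, hdB, mul_one]
      rw [h7] at h8
      simp at h8
  have hsq : ∀ x : SL2, x * x = -1 → x ^ 2 ^ 2 = 1 := by
    intro x hx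
    have h3 : x ^ 2 = -1 := by rw [pow_two, hx]
    rw [show 2 ^ 2 = 2 * 2 from rfl, pow_mul, h3]
    simp
  have hpz : ∀ x : SL2, x * x = -1 → IsPGroup 2 (zpowers x) := by
    intro x hx
    obtain ⟨k, -, hk⟩ := (Nat.dvd_prime_pow Nat.prime_two).1 (orderOf_dvd_of_pow_eq_one (hsq x hx))
    rw [IsPGroup.iff_card]
    exact ⟨k, by rw [Nat.card_zpowers, hk]⟩
  set Q : Subgroup SL2 := zpowers b ⊔ zpowers a with hQ
  have hQp : IsPGroup 2 Q := by
    refine (hpz b hb).to_sup_of_normal_right' (hpz a ha) ?_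
    rw [zpowers_le, mem_normalizer_iff]
    intro x
    have key : ∀ x ∈ zpowers a, b * x * b⁻¹ ∈ zpowers a := by
      intro x hx
      obtain ⟨i, rfl⟩ := Subgroup.mem_zpowers_iff.1 hx
      rw [← conj_zpow, hab]
      exact Subgroup.zpow_mem _ (Subgroup.inv_mem _ (mem_zpowers a)) i
    constructor
    · exact key x
    · intro hx
      have h3 := key _ (key _ (key _ hx))
      have h4 : b * (b * (b * (b * x * b⁻¹) * b⁻¹) * b⁻¹) * b⁻¹ = b ^ 4 * x * (b ^ 4)⁻¹ := by
        rw [show b ^ 4 = b * b * b * b by simp only [pow_succ, pow_zero, one_mul]]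
        simp only [mul_assoc, _root_.mul_inv_rev]
      rw [h4, show b ^ 4 = 1 from hsq b hb] at h3
      simpa using h3
  have hbQ : b ∈ Q := (le_sup_left : zpowers b ≤ Q) (mem_zpowers b)
  have haQ : a ∈ Q := (le_sup_right : zpowers a ≤ Q) (mem_zpowers a)
  set Q2 : Subgroup (↥Γ ⧸ center ↥Γ) := Q.map i1 ⊔ Q.map i2 with hQ2
  have hQ2p : IsPGroup 2 Q2 := by
    refine (hQp.map i1).to_sup_of_normal_right' (hQp.map i2) ?_
    rintro _ ⟨x, -, rfl⟩
    rw [mem_normalizer_iff]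
    intro y
    have key : ∀ x : SL2, ∀ y ∈ Q.map i2, i1 x * y * (i1 x)⁻¹ = y := by
      rintro x _ ⟨y, -, rfl⟩
      rw [(hcm' x y).eq, mul_inv_cancel_right]
    constructor
    · intro hy
      rw [key x y hy]
      exact hy
    · intro hy
      have h3 := key x⁻¹ _ hy
      rw [map_inv] at h3
      have h4 : (i1 x)⁻¹ * (i1 x * y * (i1 x)⁻¹) * (i1 x)⁻¹⁻¹ = y := by group
      rw [h4] at h3
      rw [h3]
      exact hy
  -- elements commuting with `Q2`
  have core : ∀ g : ↥Γ ⧸ center ↥Γ, (∀ y ∈ Q2, g * y = y * g) → g ^ 4 = 1 := by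
    intro g hg
    obtain ⟨γ, rfl⟩ := QuotientGroup.mk'_surjective (center ↥Γ) g
    change (π γ) ^ 4 = 1
    have hlift : ∀ y : ↥Γ, π y ∈ Q2 → Commute (γ ^ 2) y := by
      intro y hy
      have h3 : π γ * π y = π y * π γ := hg _ hy
      rw [← map_mul, ← map_mul] at h3
      have h4 : (y * γ)⁻¹ * (γ * y) ∈ center ↥Γ := QuotientGroup.eq.1 h3.symm
      set z := (y * γ)⁻¹ * (γ * y) with hz
      have h5 : γ * y = y * γ * z := by rw [hz]; group
      have h6 := mem_center_iff.1 h4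
      change γ ^ 2 * y = y * γ ^ 2
      calc γ ^ 2 * y = γ * (γ * y) := by rw [pow_two, mul_assoc]
        _ = (γ * y) * γ * z := by
          conv_lhs => rw [h5]
          simp only [mul_assoc]
        _ = y * γ * z * γ * z := by rw [h5]
        _ = y * γ * (z * γ) * z := by group
        _ = y * γ * (γ * z) * z := by rw [← h6 γ]
        _ = y * γ ^ 2 * z ^ 2 := by rw [pow_two, pow_two]; group
        _ = y * γ ^ 2 := by rw [h.center_sq h4, mul_one]
    have k1 : ∀ x ∈ Q, Commute (γ ^ 2) (j1 x) := fun x hx =>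
      hlift _ ((le_sup_left : Q.map i1 ≤ Q2) (mem_map_of_mem i1 hx))
    have k2 : ∀ x ∈ Q, Commute (γ ^ 2) (j2 x) := fun x hx =>
      hlift _ ((le_sup_right : Q.map i2 ≤ Q2) (mem_map_of_mem i2 hx))
    set m := γ ^ 2 with hm
    have htr : (-1 : SL2).1 0 0 + (-1 : SL2).1 1 1 ≠ 2 := by
      have h3 : (-1 : SL2).1 0 0 + (-1 : SL2).1 1 1 = -2 := by
        have : (-1 : SL2).1 = -1 := by
          change ((-1 : SL2) : Matrix (Fin 2) (Fin 2) F) = -1
          rw [Matrix.SpecialLinearGroup.coe_neg, Matrix.SpecialLinearGroup.coe_one]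
        rw [this]
        simp
        norm_num
      rw [h3]
      intro h4
      have h5 : (2 : F) * 2 = 0 := by linear_combination -h4
      exact (mul_ne_zero h2 h2) h5
    have hm1 : Commute m (j1 (-1)) := by
      have := k1 (a * a) (mul_mem haQ haQ)
      rwa [ha] at this
    have hfix : ∀ v, (j1 (-1)).1 v = v → B (m.1 v) f₁ = 0 ∧ B e₁ (m.1 v) = 0 := by
      intro v hv
      refine (emb_fix h.alt h.h1 htr (m.1 v)).1 ?_
      have h3 : (m * j1 (-1)).1 v = (j1 (-1) * m).1 v := by rw [hm1.eq]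
      change m.1 ((j1 (-1)).1 v) = (j1 (-1)).1 (m.1 v) at h3
      rw [hv] at h3
      exact h3.symm
    obtain ⟨s1, s2⟩ := hfix e₂ ((emb_fix h.alt h.h1 htr e₂).2 ⟨h.sw.ef, h.ee⟩)
    obtain ⟨s3, s4⟩ := hfix f₂ ((emb_fix h.alt h.h1 htr f₂).2 ⟨h.sw.ff, h.ef⟩)
    obtain ⟨y, x, hyx⟩ := h.sw.exists_prod m (by rw [swap h.alt, s2, neg_zero]) s1 (by rw [swap h.alt, s4, neg_zero]) s3
    have hyx' : m = j1 x * j2 y := by rw [hyx]; exact (h.comm x y).symm.eq
    have hx : ∀ t ∈ Q, x * t = t * x := by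
      intro t ht
      apply emb_injective h.alt h.h1
      have h3 := k1 t ht
      rw [hyx'] at h3
      have h4 : Commute (j1 x) (j1 t) := by
        have h5 : j1 x = (j1 x * j2 y) * j2 y⁻¹ := by rw [map_inv, mul_inv_cancel_right]
        rw [h5]
        exact h3.mul_left (hcm t y⁻¹).symm
      rw [map_mul, map_mul]
      exact h4.eq
    have hy : ∀ t ∈ Q, y * t = t * y := by
      intro t ht
      apply emb_injective h.alt h.h2
      have h3 := k2 t ht
      rw [hyx'] at h3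
      have h4 : Commute (j2 y) (j2 t) := by
        have h5 : j2 y = j1 x⁻¹ * (j1 x * j2 y) := by rw [map_inv, inv_mul_cancel_left]
        rw [h5]
        exact (hcm x⁻¹ t).mul_left h3
      rw [map_mul, map_mul]
      exact h4.eq
    have hsc : ∀ x : SL2, (∀ t ∈ Q, x * t = t * x) → x ^ 2 = 1 := by
      intro x hx
      apply sl_scalar
      intro hns
      exact hneg (comm_of_nonscalar hns (congrArg Subtype.val (hx a haQ)) (congrArg Subtype.val (hx b hbQ)))
    have h3 : m ^ 2 = 1 := by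
      rw [hyx', (hcm x y).mul_pow, ← map_pow, ← map_pow, hsc x hx, hsc y hy, map_one, map_one, mul_one]
    rw [← map_pow, show γ ^ 4 = (γ ^ 2) ^ 2 by rw [← pow_mul], ← hm, h3, map_one]
  intro g hgo hgc
  obtain ⟨P⟩ : Nonempty (Sylow 2 (centralizer ({g} : Set (↥Γ ⧸ center ↥Γ)))) := inferInstance
  set P' := (P : Subgroup (centralizer ({g} : Set (↥Γ ⧸ center ↥Γ)))).map (centralizer ({g} : Set (↥Γ ⧸ center ↥Γ))).subtype
    with hP'
  have hcardP : Nat.card P' = 2 ^ (Nat.card (↥Γ ⧸ center ↥Γ)).factorization 2 := by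
    rw [hP', Subgroup.card_map_of_injective (Subgroup.subtype_injective _), P.card_eq_multiplicity]
    congr 1
    exact le_antisymm ((Nat.factorization_le_iff_dvd Nat.card_pos.ne' Nat.card_pos.ne').2
      (Subgroup.card_subgroup_dvd_card _) 2) hgc
  obtain ⟨P2, hP2⟩ := hQ2p.exists_le_sylow
  obtain ⟨c, hc⟩ := MulAction.exists_smul_eq (↥Γ ⧸ center ↥Γ) P2 (Sylow.ofCard P' hcardP)
  have h3 : ∀ y ∈ Q2, g * (c * y * c⁻¹) = (c * y * c⁻¹) * g := by
    intro y hy
    have h4 : c * y * c⁻¹ ∈ (c • P2 : Sylow 2 (↥Γ ⧸ center ↥Γ)) := by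
      rw [Sylow.smul_def]
      exact ⟨y, hP2 hy, rfl⟩
    rw [hc] at h4
    obtain ⟨w, -, hw⟩ := (show c * y * c⁻¹ ∈ P' from h4)
    rw [← hw]
    exact (mem_centralizer_singleton_iff.1 w.2).symm
  have h4 := core (c⁻¹ * g * c) (by
    intro y hy
    have h5 := h3 y hy
    calc c⁻¹ * g * c * y = c⁻¹ * (g * (c * y * c⁻¹)) * c := by group
      _ = c⁻¹ * ((c * y * c⁻¹) * g) * c := by rw [h5]
      _ = _ := by group)
  have h5 : g ^ 4 = 1 := by
    have h6 : (c⁻¹ * g * c) ^ 4 = c⁻¹ * g ^ 4 * c := by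
      have := conj_pow (i := 4) (a := c⁻¹) (b := g)
      rwa [inv_inv] at this
    rw [h6] at h4
    have h7 : g ^ 4 = c * (c⁻¹ * g ^ 4 * c) * c⁻¹ := by group
    rw [h7, h4]
    group
  have h6 : orderOf g ∣ 2 ^ 2 := orderOf_dvd_of_pow_eq_one h5
  obtain ⟨k, -, hk⟩ := (Nat.dvd_prime_pow Nat.prime_two).1 h6
  rcases k with _ | k
  · rw [pow_zero] at hk
    exact orderOf_eq_one_iff.1 hk
  · exact absurd (by rw [hk, pow_succ]; exact dvd_mul_left _ _) hgo

end Main

end Cfsg.Agent.H303.ImcSp
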