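import Cfsg.Agent.H679.NB.Psp

/-!
# `Sp_4(F)`: two orthogonal copies of `SL_2(F)` (helper303, for S4526)

`Fr B e₁ f₁ e₂ f₂` : a symplectic frame.  `emb` (H679.NB.Psp) gives commuting copies of `SL₂(F)` on the planes
`⟨e₁, f₁⟩` and `⟨e₂, f₂⟩`; an isometry preserving one of the planes is a product `emb₁ a * emb₂ b` (`exists_prod`).
-/

set_option autoImplicit false
set_option linter.unusedSectionVars false

namespace Cfsg.Agent.H303.ImcSp

open Subgroup Cfsg Cfsg.Agent.H952.Rc Cfsg.Agent.H387.NbPsp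
open Cfsg.Agent.BpCl (Iso mem_Iso exists_coords nonempty_symp)
open Cfsg.Agent.H679.NB.Psp
open Matrix

universe u v

section Main

variable {F : Type u} {V : Type v} [Field F] [AddCommGroup V] [Module F V] {B : LinearMap.BilinForm F V}

/-- a symplectic frame of a 4-dimensional space -/
structure Fr (B : LinearMap.BilinForm F V) (e₁ f₁ e₂ f₂ : V) : Prop where
  alt : B.IsAlt
  h1 : B e₁ f₁ = 1
  h2 : B e₂ f₂ = 1
  ee : B e₁ e₂ = 0
  ef : B e₁ f₂ = 0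
  fe : B f₁ e₂ = 0
  ff : B f₁ f₂ = 0
  sp : ∀ v, v = B v f₁ • e₁ + B e₁ v • f₁ + (B v f₂ • e₂ + B e₂ v • f₂)

variable {e₁ f₁ e₂ f₂ : V}

theorem Fr.sw (h : Fr B e₁ f₁ e₂ f₂) : Fr B e₂ f₂ e₁ f₁ where
  alt := h.alt
  h1 := h.h2
  h2 := h.h1
  ee := by rw [swap h.alt, h.ee, neg_zero]
  ef := by rw [swap h.alt, h.fe, neg_zero]
  fe := by rw [swap h.alt, h.ef, neg_zero]
  ff := by rw [swap h.alt, h.ff, neg_zero]
  sp v := by rw [add_comm]; exact h.sp v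

theorem Fr.nd (h : Fr B e₁ f₁ e₂ f₂) (u : V) (hu : ∀ v, B u v = 0) : u = 0 := by
  rw [h.sp u, hu, hu, swap h.alt e₁ u, swap h.alt e₂ u, hu, hu]
  simp

theorem emb_left (hA : B.IsAlt) (h : B e₁ f₁ = 1) (a : SpecialLinearGroup (Fin 2) F) :
    (emb hA h a).1 e₁ = a.1 0 0 • e₁ + a.1 1 0 • f₁ := by
  rw [emb_apply, h, hA e₁]
  module

theorem emb_right (hA : B.IsAlt) (h : B e₁ f₁ = 1) (a : SpecialLinearGroup (Fin 2) F) :
    (emb hA h a).1 f₁ = a.1 0 1 • e₁ + a.1 1 1 • f₁ := by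
  rw [emb_apply, h, hA f₁]
  module

theorem emb_orth (hA : B.IsAlt) (h : B e₁ f₁ = 1) (a : SpecialLinearGroup (Fin 2) F) {v : V} (h1 : B v f₁ = 0)
    (h2 : B e₁ v = 0) : (emb hA h a).1 v = v := by
  rw [emb_apply, h1, h2]
  module

theorem Fr.ext (h : Fr B e₁ f₁ e₂ f₂) {a b : ↥(Iso (fun u v => B u v))} (h1 : a.1 e₁ = b.1 e₁)
    (h2 : a.1 f₁ = b.1 f₁) (h3 : a.1 e₂ = b.1 e₂) (h4 : a.1 f₂ = b.1 f₂) : a = b := by
  apply Subtype.ext
  apply LinearEquiv.ext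
  intro v
  rw [h.sp v]
  simp only [map_add, map_smul, h1, h2, h3, h4]

theorem Fr.comm (h : Fr B e₁ f₁ e₂ f₂) (a b : SpecialLinearGroup (Fin 2) F) :
    Commute (emb h.alt h.h1 a) (emb h.alt h.h2 b) := by
  have k1 : ∀ v, (emb h.alt h.h1 a * emb h.alt h.h2 b).1 v = (emb h.alt h.h1 a).1 ((emb h.alt h.h2 b).1 v) :=
    fun _ => rfl
  have k2 : ∀ v, (emb h.alt h.h2 b * emb h.alt h.h1 a).1 v = (emb h.alt h.h2 b).1 ((emb h.alt h.h1 a).1 v) :=
    fun _ => rfl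
  have e1 : (emb h.alt h.h2 b).1 e₁ = e₁ := emb_orth _ _ _ h.ef h.sw.ee
  have e2 : (emb h.alt h.h2 b).1 f₁ = f₁ := emb_orth _ _ _ h.ff h.sw.ef
  have e3 : (emb h.alt h.h1 a).1 e₂ = e₂ := emb_orth _ _ _ h.sw.ef h.ee
  have e4 : (emb h.alt h.h1 a).1 f₂ = f₂ := emb_orth _ _ _ h.sw.ff h.ef
  refine h.ext ?_ ?_ ?_ ?_
  · rw [k1, k2, e1, emb_left, map_add, map_smul, map_smul, e1, e2]
  · rw [k1, k2, e2, emb_right, map_add, map_smul, map_smul, e1, e2]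
  · rw [k1, k2, e3, emb_left, map_add, map_smul, map_smul, e3, e4]
  · rw [k1, k2, e4, emb_right, map_add, map_smul, map_smul, e3, e4]

/-- an isometry preserving the plane `⟨e₁, f₁⟩` -/
theorem Fr.exists_prod (h : Fr B e₁ f₁ e₂ f₂) (g : ↥(Iso (fun u v => B u v)))
    (g1 : B (g.1 e₁) e₂ = 0) (g2 : B (g.1 e₁) f₂ = 0) (g3 : B (g.1 f₁) e₂ = 0) (g4 : B (g.1 f₁) f₂ = 0) :
    ∃ a b : SpecialLinearGroup (Fin 2) F, g = emb h.alt h.h1 a * emb h.alt h.h2 b := by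
  have hg : ∀ u v, B (g.1 u) (g.1 v) = B u v := g.2
  have x1 : g.1 e₁ = B (g.1 e₁) f₁ • e₁ + B e₁ (g.1 e₁) • f₁ := by
    conv_lhs => rw [h.sp (g.1 e₁)]
    rw [g2, swap h.alt e₂, g1]
    simp
  have x2 : g.1 f₁ = B (g.1 f₁) f₁ • e₁ + B e₁ (g.1 f₁) • f₁ := by
    conv_lhs => rw [h.sp (g.1 f₁)]
    rw [g4, swap h.alt e₂, g3]
    simp
  set α := B (g.1 e₁) f₁ with hα
  set γ := B e₁ (g.1 e₁) with hγ
  set β := B (g.1 f₁) f₁ with hβ
  set δ := B e₁ (g.1 f₁) with hδ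
  have hdet : α * δ - β * γ = 1 := by
    have h1 := hg e₁ f₁
    rw [h.h1, x1, x2] at h1
    simp only [map_add, map_smul, LinearMap.add_apply, LinearMap.smul_apply, smul_eq_mul, h.alt e₁, h.alt f₁, h.h1,
      swap h.alt f₁ e₁] at h1
    linear_combination h1
  have key : ∀ v, B (g.1 v) (g.1 e₁) = 0 → B (g.1 v) (g.1 f₁) = 0 → B (g.1 v) f₁ = 0 ∧ B e₁ (g.1 v) = 0 := by
    intro v k1 k2
    rw [x1, map_add, map_smul, map_smul, smul_eq_mul, smul_eq_mul] at k1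
    rw [x2, map_add, map_smul, map_smul, smul_eq_mul, smul_eq_mul] at k2
    have s : B e₁ (g.1 v) = - B (g.1 v) e₁ := swap h.alt _ _
    constructor
    · linear_combination (-(B (g.1 v) f₁)) * hdet + α * k2 - β * k1
    · rw [s]
      linear_combination (B (g.1 v) e₁) * hdet - δ * k1 + γ * k2
  obtain ⟨y1, y2⟩ := key e₂ (by rw [hg]; exact h.sw.ee) (by rw [hg]; exact h.sw.ef)
  obtain ⟨z1, z2⟩ := key f₂ (by rw [hg]; exact h.sw.fe) (by rw [hg]; exact h.sw.ff)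
  have x3 : g.1 e₂ = B (g.1 e₂) f₂ • e₂ + B e₂ (g.1 e₂) • f₂ := by
    conv_lhs => rw [h.sp (g.1 e₂)]
    rw [y1, y2]
    simp
  have x4 : g.1 f₂ = B (g.1 f₂) f₂ • e₂ + B e₂ (g.1 f₂) • f₂ := by
    conv_lhs => rw [h.sp (g.1 f₂)]
    rw [z1, z2]
    simp
  set α' := B (g.1 e₂) f₂ with hα'
  set γ' := B e₂ (g.1 e₂) with hγ'
  set β' := B (g.1 f₂) f₂ with hβ'
  set δ' := B e₂ (g.1 f₂) with hδ'
  have hdet' : α' * δ' - β' * γ' = 1 := by
    have h1 := hg e₂ f₂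
    rw [h.h2, x3, x4] at h1
    simp only [map_add, map_smul, LinearMap.add_apply, LinearMap.smul_apply, smul_eq_mul, h.alt e₂, h.alt f₂, h.h2,
      swap h.alt f₂ e₂] at h1
    linear_combination h1
  obtain ⟨a, ha⟩ : ∃ a : SpecialLinearGroup (Fin 2) F, a.1 = !![α, β; γ, δ] :=
    ⟨⟨!![α, β; γ, δ], by rw [Matrix.det_fin_two_of]; exact hdet⟩, rfl⟩
  obtain ⟨b, hb⟩ : ∃ b : SpecialLinearGroup (Fin 2) F, b.1 = !![α', β'; γ', δ'] :=
    ⟨⟨!![α', β'; γ', δ'], by rw [Matrix.det_fin_two_of]; exact hdet'⟩, rfl⟩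
  have k1 : ∀ v, (emb h.alt h.h1 a * emb h.alt h.h2 b).1 v =
    (emb h.alt h.h1 a).1 ((emb h.alt h.h2 b).1 v) := fun _ => rfl
  refine ⟨a, b, h.ext ?_ ?_ ?_ ?_⟩
  · rw [k1, emb_orth _ _ _ h.ef h.sw.ee, emb_left, ha]
    exact x1
  · rw [k1, emb_orth _ _ _ h.ff h.sw.ef, emb_right, ha]
    exact x2
  · rw [k1, emb_left, map_add, map_smul, map_smul, emb_orth _ _ _ h.sw.ef h.ee, emb_orth _ _ _ h.sw.ff h.ef, hb]
    exact x3
  · rw [k1, emb_right, map_add, map_smul, map_smul, emb_orth _ _ _ h.sw.ef h.ee, emb_orth _ _ _ h.sw.ff h.ef, hb]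
    exact x4

theorem emb_injective (hA : B.IsAlt) (h : B e₁ f₁ = 1) : Function.Injective (emb hA h) := by
  intro a b hab
  have hl : ∀ x y x' y' : F, x • e₁ + y • f₁ = x' • e₁ + y' • f₁ → x = x' ∧ y = y' := by
    intro x y x' y' hx
    have h1 := congrArg (fun w => B w f₁) hx
    have h2 := congrArg (fun w => B e₁ w) hx
    simp only [map_add, map_smul, LinearMap.add_apply, LinearMap.smul_apply, smul_eq_mul, hA e₁, hA f₁, h] at h1 h2
    exact ⟨by linear_combination h1, by linear_combination h2⟩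
  have h1 : (emb hA h a).1 e₁ = (emb hA h b).1 e₁ := by rw [hab]
  have h2 : (emb hA h a).1 f₁ = (emb hA h b).1 f₁ := by rw [hab]
  rw [emb_left, emb_left] at h1
  rw [emb_right, emb_right] at h2
  obtain ⟨k1, k2⟩ := hl _ _ _ _ h1
  obtain ⟨k3, k4⟩ := hl _ _ _ _ h2
  apply Subtype.ext
  ext i j
  fin_cases i <;> fin_cases j
  · exact k1
  · exact k3
  · exact k2
  · exact k4

theorem Fr.prod_eq_one (h : Fr B e₁ f₁ e₂ f₂) {a b : SpecialLinearGroup (Fin 2) F}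
    (hab : emb h.alt h.h1 a * emb h.alt h.h2 b = 1) : a = 1 ∧ b = 1 := by
  have k1 : ∀ v, (emb h.alt h.h1 a * emb h.alt h.h2 b).1 v = (emb h.alt h.h1 a).1 ((emb h.alt h.h2 b).1 v) :=
    fun _ => rfl
  have e1 : (emb h.alt h.h2 b).1 e₁ = e₁ := emb_orth _ _ _ h.ef h.sw.ee
  have e2 : (emb h.alt h.h2 b).1 f₁ = f₁ := emb_orth _ _ _ h.ff h.sw.ef
  have e3 : (emb h.alt h.h1 a).1 e₂ = e₂ := emb_orth _ _ _ h.sw.ef h.ee
  have e4 : (emb h.alt h.h1 a).1 f₂ = f₂ := emb_orth _ _ _ h.sw.ff h.ef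
  have ha : a = 1 := by
    apply emb_injective h.alt h.h1
    rw [map_one]
    refine h.ext ?_ ?_ ?_ ?_
    · rw [← hab, k1, e1]
    · rw [← hab, k1, e2]
    · exact e3
    · exact e4
  refine ⟨ha, ?_⟩
  apply emb_injective h.alt h.h2
  rw [ha, map_one, one_mul] at hab
  rw [hab, map_one]

/-- the centre has exponent two -/
theorem Fr.center_sq (h : Fr B e₁ f₁ e₂ f₂) {z : ↥(Iso (fun u v => B u v))}
    (hz : z ∈ center ↥(Iso (fun u v => B u v))) : z ^ 2 = 1 := by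
  have hΓ : ∀ h : V ≃ₗ[F] V, h ∈ Iso (fun u v => B u v) ↔ ∀ u v, B (h u) (h v) = B u v := fun _ => Iff.rfl
  have he : e₁ ≠ 0 := by
    rintro rfl
    have := h.h1
    simp at this
  obtain ⟨c, hc⟩ := center_scalar_sp h.alt h.nd hΓ hz e₁
  obtain ⟨d, hd⟩ := center_scalar_sp h.alt h.nd hΓ hz f₁
  have hf : f₁ ≠ 0 := by
    rintro rfl
    have := h.h1
    simp at this
  obtain ⟨s, hs⟩ := center_scalar_sp h.alt h.nd hΓ hz (e₁ + f₁)
  have h1 : c = s ∧ d = s := by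
    rw [map_add, hc, hd, smul_add] at hs
    have k1 := congrArg (fun w => B w f₁) hs
    have k2 := congrArg (fun w => B e₁ w) hs
    simp only [map_add, map_smul, LinearMap.add_apply, LinearMap.smul_apply, smul_eq_mul, h.alt e₁, h.alt f₁, h.h1]
      at k1 k2
    exact ⟨by linear_combination k1, by linear_combination k2⟩
  have h2 : c * d = 1 := by
    have := z.2 e₁ f₁
    change B (z.1 e₁) (z.1 f₁) = B e₁ f₁ at this
    rw [hc, hd, map_smul, LinearMap.map_smul, LinearMap.smul_apply, smul_eq_mul, smul_eq_mul, h.h1] at this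
    linear_combination this
  have h3 : (z ^ 2).1 e₁ = e₁ := by
    rw [pow_two]
    change z.1 (z.1 e₁) = e₁
    rw [hc, map_smul, hc, smul_smul, show c * c = 1 by rw [h1.1] at h2 ⊢; rw [h1.2] at h2; exact h2, one_smul]
  exact eq_one_of_center_fix h.alt h.nd hΓ (Subgroup.pow_mem _ hz 2) he h3

end Main

end Cfsg.Agent.H303.ImcSp
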