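import Cfsg.Agent.H303.ImcSpFourB
import Cfsg.Agent.S2299
import Cfsg.Agent.S2300
import Cfsg.Agent.S0270
import Cfsg.Agent.H102.NbPslTwo

/-!
# `IMC p PSp₄(q)`: row of S4526 (helper303)

`imc_psp4`, `imc_psp` (form asked for in task 3081).
-/

set_option autoImplicit false
set_option linter.unusedSectionVars false

namespace Cfsg.Agent.H303.ImcSp

open Subgroup Cfsg Cfsg.Agent.H952.Rc Cfsg.Agent.H387.NbPsp
open Cfsg.Agent.BpCl (Iso mem_Iso exists_coords nonempty_symp)
open Cfsg.Agent.H679.NB.Psp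
open Cfsg.Agent.H625.SylConst Cfsg.Agent.H661.SC
open Cfsg.Agent.Characters.Core Cfsg.Agent.Blocks
open Cfsg.Agent.ClassicalGeometry.SympBasic
open Cfsg.Agent.LieClassical.OrthFinite (quotientCenterCongr)
open Matrix

universe u v

/-- the standard frame -/
theorem exists_frame (F : Type u) [Field F] : ∃ e₁ f₁ e₂ f₂ : Fin 2 ⊕ Fin 2 → F,
    Fr (sympBilin 2 F : LinearMap.BilinForm F (Fin 2 ⊕ Fin 2 → F)) e₁ f₁ e₂ f₂ := by
  refine ⟨Pi.single (Sum.inr 0) 1, Pi.single (Sum.inl 0) 1, Pi.single (Sum.inr 1) 1, Pi.single (Sum.inl 1) 1, ?_⟩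
  refine ⟨sympBilin_isAlt, ?_, ?_, ?_, ?_, ?_, ?_, ?_⟩
  · rw [sympBilin_apply, sympForm_single_inr_left]; simp
  · rw [sympBilin_apply, sympForm_single_inr_left]; simp
  · rw [sympBilin_apply, sympForm_single_inr_left]; simp
  · rw [sympBilin_apply, sympForm_single_inr_left]; simp
  · rw [sympBilin_apply, sympForm_single_inl_left]; simp
  · rw [sympBilin_apply, sympForm_single_inl_left]; simp
  · intro v
    simp only [sympBilin_apply, sympForm_single_inr_left, sympForm_single_inl_right]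
    ext i
    rcases i with i | i <;> fin_cases i <;> simp

variable {F : Type u} [Field F] [Fintype F]

/-- characters of `SL₂(q)` of `p`-defect zero, `p` odd, `p ∣ q² - 1` -/
theorem exists_defect_zero {p r : ℕ} [hp : Fact p.Prime] [CharP F r] (hr : r.Prime) (h2 : p ≠ 2) (hpr : p ≠ r)
    (hq3 : 3 ≤ Fintype.card F) (hdvd : p ∣ Nat.card (SpecialLinearGroup (Fin 2) F)) :
    ∃ ψ : IrrCharacter (SpecialLinearGroup (Fin 2) F), (Nat.card (SpecialLinearGroup (Fin 2) F)).factorization p ≤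
      (charDegree (ψ : SpecialLinearGroup (Fin 2) F → ℂ)).factorization p := by
  classical
  have : Fact r.Prime := ⟨hr⟩
  set q := Fintype.card F with hq
  obtain ⟨n, -, hn⟩ := FiniteField.card F r
  have hpq : ¬ p ∣ q := by
    intro h
    rw [hq, hn] at h
    exact hpr ((Nat.prime_dvd_prime_iff_eq hp.out hr).1 (hp.out.dvd_of_dvd_pow h))
  have hcard : Nat.card (SpecialLinearGroup (Fin 2) F) = q * ((q - 1) * (q + 1)) := by
    rw [← Nat.card_congr (Cfsg.Agent.H454.SpExt.spTwo F).toEquiv, LieClassical.SympCount.card_symplecticGroup]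
    simp only [one_pow, pow_one, Finset.range_one, Finset.prod_singleton, zero_add, mul_one]
    rw [← hq]
    congr 1
    zify [Nat.one_le_pow 2 q (by omega), show 1 ≤ q by omega]
    ring
  have hor : p ∣ q - 1 ∨ p ∣ q + 1 := by
    rw [hcard] at hdvd
    rcases hp.out.dvd_mul.1 hdvd with h | h
    · exact absurd h hpq
    · exact hp.out.dvd_mul.1 h
  have hnot : ¬ (p ∣ q - 1 ∧ p ∣ q + 1) := by
    rintro ⟨h3, h4⟩
    have h5 := (Nat.dvd_sub h4 h3)
    rw [show q + 1 - (q - 1) = 2 by omega] at h5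
    exact h2 ((Nat.prime_dvd_prime_iff_eq hp.out Nat.prime_two).1 h5)
  -- both degrees exist
  have hq4 : 4 ≤ q := by
    by_contra hcon
    have h3 : q = 3 := by omega
    rw [h3] at hor hpq
    rcases hor with h | h
    · exact h2 ((Nat.prime_dvd_prime_iff_eq hp.out Nat.prime_two).1 h)
    · have h4 : p ∣ 2 ^ 2 := h
      exact h2 ((Nat.prime_dvd_prime_iff_eq hp.out Nat.prime_two).1 (hp.out.dvd_of_dvd_pow h4))
  have hex : (∃ ψ : IrrCharacter (SpecialLinearGroup (Fin 2) F),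
      (ψ : SpecialLinearGroup (Fin 2) F → ℂ) 1 = (q : ℂ) + 1) ∧
      (∃ ψ : IrrCharacter (SpecialLinearGroup (Fin 2) F),
      (ψ : SpecialLinearGroup (Fin 2) F → ℂ) 1 = (q : ℂ) - 1) := by
    rcases Nat.even_or_odd q with he | ho
    · have hr2 : r = 2 := by
        have h3 : 2 ∣ r ^ (n : ℕ) := by rw [← hn, ← hq]; exact he.two_dvd
        exact ((Nat.prime_dvd_prime_iff_eq Nat.prime_two hr).1 (Nat.prime_two.dvd_of_dvd_pow h3)).symm
      subst hr2
      obtain ⟨-, h3⟩ := Cfsg.Agent.S2300.result (F := F)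
      obtain ⟨-, -, h4, h5⟩ := h3 hq4
      have h6 : 0 < (Fintype.card F - 2) / 2 := by rw [← hq]; omega
      have h7 : 0 < Fintype.card F / 2 := by rw [← hq]; omega
      rw [← h4] at h6
      rw [← h5] at h7
      obtain ⟨⟨ψ, hψ⟩, -⟩ := (Nat.card_pos_iff.1 h6)
      obtain ⟨⟨φ, hφ⟩, -⟩ := (Nat.card_pos_iff.1 h7)
      exact ⟨⟨ψ, hψ⟩, ⟨φ, hφ⟩⟩
    · obtain ⟨-, h3⟩ := Cfsg.Agent.S2299.result (F := F) ho
      have hq5 : 5 ≤ Fintype.card F := by
        rw [← hq]
        obtain ⟨k, hk⟩ := ho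
        omega
      obtain ⟨-, -, h4, h5, -, -⟩ := h3 hq5
      have h6 : 0 < (Fintype.card F - 3) / 2 := by omega
      have h7 : 0 < (Fintype.card F - 1) / 2 := by omega
      rw [← h4] at h6
      rw [← h5] at h7
      obtain ⟨⟨ψ, hψ⟩, -⟩ := (Nat.card_pos_iff.1 h6)
      obtain ⟨⟨φ, hφ⟩, -⟩ := (Nat.card_pos_iff.1 h7)
      exact ⟨⟨ψ, hψ⟩, ⟨φ, hφ⟩⟩
  have hq0 : q ≠ 0 := by omega
  have hf : (Nat.card (SpecialLinearGroup (Fin 2) F)).factorization p =
      (q - 1).factorization p + (q + 1).factorization p := by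
    rw [hcard, Nat.factorization_mul hq0 (mul_ne_zero (by omega) (by omega)),
      Nat.factorization_mul (by omega) (by omega), Finsupp.add_apply, Finsupp.add_apply,
      Nat.factorization_eq_zero_of_not_dvd hpq, zero_add]
  rcases hor with h | h
  · obtain ⟨ψ, hψ⟩ := hex.2
    refine ⟨ψ, ?_⟩
    rw [H670.PSing.charDegree_eq_of (n := q - 1) (by rw [hψ, Nat.cast_sub (by omega), Nat.cast_one]), hf,
      Nat.factorization_eq_zero_of_not_dvd (n := q + 1) (fun h' => hnot ⟨h, h'⟩)]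
    omega
  · obtain ⟨ψ, hψ⟩ := hex.1
    refine ⟨ψ, ?_⟩
    rw [H670.PSing.charDegree_eq_of (n := q + 1) (by rw [hψ, Nat.cast_add, Nat.cast_one]), hf,
      Nat.factorization_eq_zero_of_not_dvd (n := q - 1) (fun h' => hnot ⟨h', h⟩)]
    omega

/-- **`IMC p PSp₄(q)`** -/
theorem imc_psp4 (F : Type) [Field F] [Fintype F] (hq3 : 3 ≤ Fintype.card F) {p : ℕ} [hp : Fact p.Prime]
    (hd : p ∣ Nat.card (Cfsg.PSp 2 F)) (hs : IsSimpleGroup (Cfsg.PSp 2 F)) : IMC p (Cfsg.PSp 2 F) := by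
  classical
  obtain ⟨r, hr⟩ := CharP.exists F
  have hrp : r.Prime := CharP.char_is_prime F r
  have : Fact r.Prime := ⟨hrp⟩
  by_cases hpr : p = r
  · subst hpr
    exact imc_char (Or.inr (Or.inl ⟨F, _, _, hr, 2, le_rfl, fun _ => hq3, ⟨MulEquiv.refl _⟩⟩)) hd
  obtain ⟨e⟩ := nonempty_symp (B := sympBilin 2 F) (LinearEquiv.refl F _) (fun _ _ => rfl)
  have E : Cfsg.PSp 2 F ≃* (↥(Iso (fun u v => sympBilin 2 F u v)) ⧸ center ↥(Iso (fun u v => sympBilin 2 F u v))) :=
    quotientCenterCongr e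
  have hfin : Finite (↥(Iso (fun u v => sympBilin 2 F u v)) ⧸ center ↥(Iso (fun u v => sympBilin 2 F u v))) :=
    Finite.of_equiv _ E.toEquiv
  obtain ⟨e₁, f₁, e₂, f₂, hfr⟩ := exists_frame F
  set q := Fintype.card F with hq
  have hq' : Nat.card F = q := Nat.card_eq_fintype_card
  obtain ⟨n, -, hn⟩ := FiniteField.card F r
  have hpq : ¬ p ∣ q := by
    intro h
    rw [hq, hn] at h
    exact hpr ((Nat.prime_dvd_prime_iff_eq hp.out hrp).1 (hp.out.dvd_of_dvd_pow h))
  have hcS : Nat.card (Matrix.symplecticGroup (Fin 2) F) = q ^ 4 * ((q ^ 2 - 1) * (q ^ 4 - 1)) := by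
    rw [LieClassical.SympCount.card_symplecticGroup]
    simp [Finset.prod_range_succ, ← hq]
  have hcz := Subgroup.card_mul_index (Subgroup.center ↥(Matrix.symplecticGroup (Fin 2) F))
  rw [LieClassical.SympCenter.card_center (by norm_num), hcS] at hcz
  change _ * Nat.card (Cfsg.PSp 2 F) = _ at hcz
  have hdim : Module.finrank F (Fin 2 ⊕ Fin 2 → F) = 4 := by
    rw [Module.finrank_fintype_fun_eq_card, Fintype.card_sum, Fintype.card_fin]
  by_cases h2 : p = 2
  · subst h2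
    have hodd : Odd q := Nat.not_even_iff_odd.1 fun h => hpq h.two_dvd
    have hF2 : (2 : F) ≠ 0 := by
      intro h0
      have h3 : r ∣ 2 := (CharP.cast_eq_zero_iff F r 2).1 (by exact_mod_cast h0)
      exact hpr ((Nat.prime_dvd_prime_iff_eq hrp Nat.prime_two).1 h3).symm
    have h3 := imc_of_NB2 (Cfsg.Agent.H526.OB.NB.iso E (Cfsg.Agent.H387.NbPsp.nb_psp hodd le_rfl
      fun K _ _ h1 h2 => Cfsg.Agent.H102.NbPslTwo.nb_psl2 h1 h2)) (noCent_two hfr hF2)
    exact IMC.of_equiv E h3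
  · have hcG := Nat.card_congr E.toEquiv
    have hq0 : q ≠ 0 := by omega
    have hq21 : 1 ≤ q ^ 2 := Nat.one_le_pow 2 q (by omega)
    have hq9 : 9 ≤ q ^ 2 := by nlinarith
    have hfac : q ^ 4 - 1 = (q ^ 2 - 1) * (q ^ 2 + 1) := by
      zify [hq21, Nat.one_le_pow 4 q (by omega)]
      ring
    have hd' : p ∣ q ^ 4 - 1 := by
      have h3 : p ∣ q ^ 4 * ((q ^ 2 - 1) * (q ^ 4 - 1)) := by rw [← hcz]; exact hd.mul_left _
      rcases hp.out.dvd_mul.1 h3 with h4 | h4
      · exact absurd (hp.out.dvd_of_dvd_pow h4) hpq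
      · rcases hp.out.dvd_mul.1 h4 with h5 | h5
        · rw [hfac]; exact h5.mul_right _
        · exact h5
    have hcL : Nat.card (SpecialLinearGroup (Fin 2) F) = q * (q ^ 2 - 1) := card_sl_two F
    by_cases hdvd : p ∣ Nat.card (SpecialLinearGroup (Fin 2) F)
    · obtain ⟨ψ, hψ⟩ := exists_defect_zero hrp h2 hpr hq3 hdvd
      refine IMC.of_equiv E (imc_odd hfr hrp h2 hpr hdvd ?_ ψ hψ)
      have h5 : p ∣ q ^ 2 - 1 := by
        rw [hcL] at hdvd
        exact (hp.out.dvd_mul.1 hdvd).resolve_left hpq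
      have h6 : ¬ p ∣ q ^ 2 + 1 := by
        intro h7
        have h8 := Nat.dvd_sub h7 h5
        rw [show q ^ 2 + 1 - (q ^ 2 - 1) = 2 by omega] at h8
        exact h2 ((Nat.prime_dvd_prime_iff_eq hp.out Nat.prime_two).1 h8)
      have h7 : ¬ p ∣ Nat.gcd 2 (q - 1) := by
        intro h8
        exact h2 ((Nat.prime_dvd_prime_iff_eq hp.out Nat.prime_two).1 (h8.trans (Nat.gcd_dvd_left _ _)))
      have h8 : (Nat.gcd 2 (q - 1) * Nat.card (Cfsg.PSp 2 F)).factorization p =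
        (q ^ 4 * ((q ^ 2 - 1) * (q ^ 4 - 1))).factorization p := by rw [← hcz, hq]
      have hg0 : Nat.gcd 2 (q - 1) ≠ 0 := Nat.gcd_ne_zero_left (by norm_num)
      have hP0 : Nat.card (Cfsg.PSp 2 F) ≠ 0 := Nat.card_pos.ne'
      have h90 : q ^ 2 - 1 ≠ 0 := by omega
      rw [Nat.factorization_mul hg0 hP0, Finsupp.add_apply, Nat.factorization_eq_zero_of_not_dvd h7, zero_add,
        Nat.factorization_mul (pow_ne_zero 4 hq0) (mul_ne_zero h90 (by rw [hfac]; exact mul_ne_zero h90 (by omega))),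
        Finsupp.add_apply, Nat.factorization_eq_zero_of_not_dvd (n := q ^ 4) (fun h => hpq (hp.out.dvd_of_dvd_pow h)),
        zero_add, hfac, Nat.factorization_mul h90 (mul_ne_zero h90 (by omega)), Finsupp.add_apply,
        Nat.factorization_mul h90 (by omega), Finsupp.add_apply,
        Nat.factorization_eq_zero_of_not_dvd (n := q ^ 2 + 1) h6, add_zero] at h8
      rw [← hcG, h8, hcL, Nat.factorization_mul hq0 h90, Finsupp.add_apply,
        Nat.factorization_eq_zero_of_not_dvd (n := q) hpq, zero_add, two_mul]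
    · refine IMC.of_equiv E (imc_prime_to hfr hdim hrp h2 hpr hdvd ?_ ?_ ?_ ?_)
      · rw [← hcG]
        exact hd
      · rw [hq']
        exact hpq
      · rw [hq']
        intro h3
        exact hdvd (by rw [hcL]; exact h3.mul_left _)
      · rw [hq']
        exact hd'

/-- the row of S4526 for `PSp₄(q)`: the form of task 3081 (`m = 2` in `IsPSp`) -/
theorem imc_sp4 {S : Type v} [Group S] [Finite S] {F : Type} [Field F] [Fintype F] (hF : 3 ≤ Fintype.card F)
    (e : S ≃* Cfsg.PSp 2 F) {p : ℕ} [hp : Fact p.Prime] (hd : p ∣ Nat.card S) : IMC p S := by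
  rw [Nat.card_congr e.toEquiv] at hd
  have hs : IsSimpleGroup (Cfsg.PSp 2 F) := Cfsg.Agent.S0270.result 2 le_rfl fun _ => hF
  exact IMC.of_equiv e (imc_psp4 F hF hd hs)

end Cfsg.Agent.H303.ImcSp
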