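import Cfsg.Agent.H303.RsKill
import Cfsg.Agent.H303.RsCongr
import Cfsg.Agent.H327.A16.Pat

set_option autoImplicit false
set_option linter.style.haveILetI false
set_option linter.unnecessarySimpa false

/-! The Sylow 2-subgroups of the alternating groups of degree 16 and 17 are not of Rudvalis type. -/

namespace Cfsg.Agent.H303.RsAlt

open Cfsg Equiv Equiv.Perm Cfsg.Agent.H303.RuMain
open Cfsg.Agent.H327.A16 (V Ω e tr tau D mk card_T)

/-- the translations on the four blocks -/
theorem trs_mem (w : V → V) : mk 1 (fun i => tr (w i)) ∈ Cfsg.Agent.H327.A16.T := by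
  apply Cfsg.Agent.H327.A16.mk_mem_T D.one_mem (fun i => Cfsg.Agent.H327.A16.tr_mem _)
  exact Finset.prod_eq_one fun i _ => Cfsg.Agent.H327.A16.sign_tr _

theorem conj_tr : ∀ g ∈ D, ∀ w : V, ∃ w' : V, g * tr w * g⁻¹ = tr w' := by decide +kernel

/-- `V₄ ^ 4` -/
def E : Subgroup ↥(Cfsg.Agent.H327.A16.T) where
  carrier := {g | ∃ w : V → V, (g : Perm Ω) = mk 1 (fun i => tr (w i))}
  one_mem' := ⟨fun _ => 0, by
    rw [Subgroup.coe_one, ← Cfsg.Agent.H327.A16.mk_one]
    congr 1
    funext i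
    ext1 v
    simp⟩
  mul_mem' := by
    rintro a b ⟨w, hw⟩ ⟨w', hw'⟩
    refine ⟨fun i => w' i + w i, ?_⟩
    rw [Subgroup.coe_mul, hw, hw', Cfsg.Agent.H327.A16.mk_mul, mul_one]
    congr 1
    funext i
    ext1 v
    simp [add_assoc]
  inv_mem' := by
    rintro a ⟨w, hw⟩
    refine ⟨w, ?_⟩
    rw [Subgroup.coe_inv, hw, inv_eq_iff_mul_eq_one, Cfsg.Agent.H327.A16.mk_mul, ← Cfsg.Agent.H327.A16.mk_one,
      mul_one]
    congr 1
    funext i
    ext1 v
    have e : ∀ v u : V, v + u + u = v := by decide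
    simp [e]

theorem mem_E {g : ↥(Cfsg.Agent.H327.A16.T)} : g ∈ E ↔ ∃ w : V → V, (g : Perm Ω) = mk 1 (fun i => tr (w i)) :=
  Iff.rfl

theorem normal_E : E.Normal := by
  refine ⟨?_⟩
  rintro n ⟨w, hw⟩ g
  obtain ⟨⟨p, hp, d, hd, hg⟩, -⟩ := Cfsg.Agent.H327.A16.mem_T.1 g.2
  choose c hc using fun i => conj_tr (d i) (hd i) (w i)
  refine ⟨fun i => c (p⁻¹ i), ?_⟩
  rw [Subgroup.coe_mul, Subgroup.coe_mul, Subgroup.coe_inv, mul_inv_eq_iff_eq_mul, hw, hg,
    Cfsg.Agent.H327.A16.mk_mul, Cfsg.Agent.H327.A16.mk_mul, mul_one, one_mul]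
  congr 1
  funext i
  have h1 := hc i
  rw [mul_inv_eq_iff_eq_mul] at h1
  have h4 : p⁻¹ (p i) = i := by simp
  change d i * tr (w i) = tr (c (p⁻¹ (p i))) * d i
  rw [h4]
  exact h1

theorem card_E : Nat.card E = 2 ^ 8 := by
  have h1 : Nat.card (V → V) = 2 ^ 8 := by
    rw [Nat.card_eq_fintype_card, Fintype.card_fun]
    rfl
  rw [← h1]
  refine (Nat.card_congr (Equiv.ofBijective (fun w : V → V => (⟨⟨_, trs_mem w⟩, ⟨w, rfl⟩⟩ : E)) ⟨?_, ?_⟩)).symm
  · intro w w' hww
    have h0 : mk 1 (fun i => tr (w i)) = mk 1 (fun i => tr (w' i)) :=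
      congrArg (fun x : E => ((x : ↥(Cfsg.Agent.H327.A16.T)) : Perm Ω)) hww
    have h2 := (Cfsg.Agent.H327.A16.mk_inj h0).2
    funext i
    have h3 := congrArg (fun q : Perm V => q 0) (congrFun h2 i)
    simpa using h3
  · rintro ⟨⟨g, hg⟩, w, hw⟩
    exact ⟨w, Subtype.ext (Subtype.ext hw.symm)⟩

theorem sq_E : ∀ x ∈ E, x ^ 2 = 1 := by
  rintro x ⟨w, hw⟩
  apply Subtype.ext
  rw [Subgroup.coe_pow, hw, pow_two, Cfsg.Agent.H327.A16.mk_mul, mul_one, Subgroup.coe_one,
    ← Cfsg.Agent.H327.A16.mk_one]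
  congr 1
  funext i
  ext1 v
  have e : ∀ v u : V, v + u + u = v := by decide
  simp [e]

theorem not_T {W : Subgroup ↥(Cfsg.Agent.H327.A16.T)} (h : Hyp ↥(Cfsg.Agent.H327.A16.T) W) : False :=
  h.no_elem normal_E card_E.ge sq_E

theorem not_sixteen (P : Sylow 2 (alternatingGroup (Fin 16))) {W : Subgroup ↥(P : Subgroup (alternatingGroup (Fin 16)))}
    (h : Hyp ↥(P : Subgroup (alternatingGroup (Fin 16))) W) : False := by
  obtain ⟨ψ, h1, -, h2⟩ := Cfsg.Agent.H327.A16.exists_psi P
  have h3 : Function.Injective (ψ.comp (alternatingGroup (Fin 16)).subtype) :=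
    h1.comp (alternatingGroup (Fin 16)).subtype_injective
  have e1 := (Subgroup.equivMapOfInjective (P : Subgroup (alternatingGroup (Fin 16))) _ h3).trans
    (MulEquiv.subgroupCongr h2)
  exact not_T (h.congr e1)

/-- the embedding of the alternating group of degree 16 in that of degree 17 -/
theorem exists_embedding : ∃ f : alternatingGroup (Fin 16) →* alternatingGroup (Fin 17), Function.Injective f := by
  let i : Fin 16 ↪ Fin 17 := Fin.castSuccEmb
  let f : alternatingGroup (Fin 16) →* alternatingGroup (Fin 17) :=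
    (((Equiv.Perm.viaEmbeddingHom i).comp (alternatingGroup (Fin 16)).subtype)).codRestrict
      (alternatingGroup (Fin 17)) (by
        intro x
        rw [mem_alternatingGroup]
        have h1 : Equiv.Perm.viaEmbeddingHom i (x : Perm (Fin 16)) = (x : Perm (Fin 16)).viaFintypeEmbedding i := by
          ext1 y
          by_cases hy : y ∈ Set.range i
          · obtain ⟨z, rfl⟩ := hy
            rw [Equiv.Perm.viaFintypeEmbedding_apply_image]
            exact Equiv.Perm.viaEmbedding_apply _ _ _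
          · rw [Equiv.Perm.viaFintypeEmbedding_apply_notMem_range _ _ hy]
            exact Equiv.Perm.viaEmbedding_apply_of_notMem _ _ _ hy
        change Equiv.Perm.sign (Equiv.Perm.viaEmbeddingHom i (x : Perm (Fin 16))) = 1
        rw [h1, Equiv.Perm.viaFintypeEmbedding_sign]
        exact x.2)
  refine ⟨f, ?_⟩
  intro a b hab
  have h1 := congrArg Subtype.val hab
  exact Subtype.ext (Equiv.Perm.viaEmbeddingHom_injective i h1)

theorem not_seventeen (P : Sylow 2 (alternatingGroup (Fin 17))) {W : Subgroup ↥(P : Subgroup (alternatingGroup (Fin 17)))}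
    (h : Hyp ↥(P : Subgroup (alternatingGroup (Fin 17))) W) : False := by
  have : Fact (Nat.Prime 2) := ⟨Nat.prime_two⟩
  obtain ⟨f, hf⟩ := exists_embedding
  let Q : Sylow 2 (alternatingGroup (Fin 16)) := default
  have hQ : Nat.card Q = 2 ^ 14 := by
    rw [Q.card_eq_multiplicity, Cfsg.Agent.H327.A16.factorization_alt (Fintype.card_fin 16)]
  have h17 : (Nat.card (alternatingGroup (Fin 17))).factorization 2 = 14 := by
    have h1 : Nat.card (alternatingGroup (Fin 17)) = 2 ^ 14 * 10854718875 := by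
      rw [nat_card_alternatingGroup, Nat.card_eq_fintype_card, Fintype.card_fin]
      decide +kernel
    rw [h1, Nat.factorization_mul (by norm_num) (by norm_num), Nat.Prime.factorization_pow Nat.prime_two]
    have h2 : Nat.factorization 10854718875 2 = 0 := Nat.factorization_eq_zero_of_not_dvd (by norm_num)
    simp [h2]
  have hc : Nat.card ((Q : Subgroup (alternatingGroup (Fin 16))).map f) =
      2 ^ (Nat.card (alternatingGroup (Fin 17))).factorization 2 := by
    rw [h17, Subgroup.card_map_of_injective hf]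
    exact hQ
  let Q' : Sylow 2 (alternatingGroup (Fin 17)) := Sylow.ofCard _ hc
  have e1 := P.equiv Q'
  have e2 := Subgroup.equivMapOfInjective (Q : Subgroup (alternatingGroup (Fin 16))) f hf
  exact not_sixteen Q ((h.congr e1).congr e2.symm)

end Cfsg.Agent.H303.RsAlt
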