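import Cfsg.Agent.H303.RsKill
import Cfsg.Agent.H303.RsCongr
import Cfsg.Agent.KFacts.HN.Large
import Cfsg.Agent.KFacts.HN.Classes

set_option autoImplicit false
set_option linter.style.haveILetI false
set_option linter.unnecessarySimpa false

/-! The Sylow 2-subgroups of the Harada-Norton group are not of Rudvalis type. -/

namespace Cfsg.Agent.H303.RsHN

open Cfsg Cfsg.Agent.H303.RuMain Cfsg.Agent.Co2Type.Quad
open scoped commutatorElement

/-- A large extraspecial subgroup of order `2 ^ 9` whose centre has odd index centraliser. -/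
theorem not_large {G : Type*} [Group G] [Finite G] {Q : Subgroup G} {z : G} (hL : Large Q z)
    (hc : Nat.card Q = 2 ^ 9) (ho : Odd (Subgroup.centralizer ({z} : Set G)).index)
    (P : Sylow 2 G) {W : Subgroup ↥(P : Subgroup G)} (h : Hyp ↥(P : Subgroup G) W) : False := by
  have : Fact (Nat.Prime 2) := ⟨Nat.prime_two⟩
  have hQ2 : IsPGroup 2 Q := IsPGroup.of_card hc
  have hQC : Q ≤ Subgroup.centralizer ({z} : Set G) := fun x hx =>
    Subgroup.mem_centralizer_singleton_iff.2 (hL.comm_z x hx)
  obtain ⟨P1, hP1⟩ := (hQ2.comap_subtype (K := Subgroup.centralizer ({z} : Set G))).exists_le_sylow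
  have hcard : Nat.card ↥((P1 : Subgroup ↥(Subgroup.centralizer ({z} : Set G))).map
      (Subgroup.centralizer ({z} : Set G)).subtype) = 2 ^ (Nat.card G).factorization 2 := by
    rw [Subgroup.card_map_of_injective (Subgroup.subtype_injective _), P1.card_eq_multiplicity,
      ← (Subgroup.centralizer ({z} : Set G)).card_mul_index, Nat.factorization_mul Nat.card_pos.ne'
        (Subgroup.index_ne_zero_of_finite)]
    have h1 : (Subgroup.centralizer ({z} : Set G)).index.factorization 2 = 0 :=
      Nat.factorization_eq_zero_of_not_dvd (by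
        intro h2
        rw [Nat.odd_iff] at ho
        omega)
    rw [Finsupp.add_apply, h1, add_zero]
  let P2 : Sylow 2 G := Sylow.ofCard _ hcard
  have hP2 : (P2 : Subgroup G) = (P1 : Subgroup ↥(Subgroup.centralizer ({z} : Set G))).map
      (Subgroup.centralizer ({z} : Set G)).subtype := rfl
  have h' := h.congr (P.equiv P2)
  have hQP : Q ≤ (P2 : Subgroup G) := by
    intro x hx
    rw [hP2]
    exact ⟨⟨x, hQC hx⟩, hP1 hx, rfl⟩
  have hPz : ∀ t ∈ (P2 : Subgroup G), t * z = z * t := by
    intro t ht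
    rw [hP2] at ht
    obtain ⟨y, -, rfl⟩ := ht
    exact Subgroup.mem_centralizer_singleton_iff.1 y.2
  refine h'.no_extra (Q := Q.subgroupOf (P2 : Subgroup G)) (z := ⟨z, hQP hL.z_mem⟩) ?_ ?_ ?_ hL.z_mem ?_ ?_
  · refine ⟨fun n hn g => ?_⟩
    exact hL.conj_mem g (hPz g g.2) n hn
  · rw [Nat.card_congr (Subgroup.subgroupOfEquivOfLe hQP).toEquiv, hc]
  · rintro x hx y hy
    have hxz := hL.comm_z x hx
    have hyz := hL.comm_z y hy
    rcases hL.comm x hx y hy with h1 | h1
    · left
      rw [commutatorElement_eq_one_iff_mul_comm]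
      exact Subtype.ext h1
    · right
      apply Subtype.ext
      change (x : G) * y * (x : G)⁻¹ * (y : G)⁻¹ = z
      rw [h1]
      calc (y : G) * x * z * (x : G)⁻¹ * (y : G)⁻¹ = (y : G) * (x * z) * (x : G)⁻¹ * (y : G)⁻¹ := by group
        _ = (y : G) * z * (y : G)⁻¹ := by rw [hxz]; group
        _ = z := by rw [hyz]; group
  · intro y hy
    exact Subtype.ext (hL.comm_z y hy).symm
  · intro x hx hxy
    rcases hL.cent x hx (fun y hy => congrArg Subtype.val (hxy ⟨y, hQP hy⟩ hy)) with h1 | h1
    · exact Or.inl (Subtype.ext h1)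
    · exact Or.inr (Subtype.ext h1)

theorem not_hn {X : Type*} [Group X] [Finite X] (hX : Spor.IsoHN X) (P : Sylow 2 X)
    {W : Subgroup ↥(P : Subgroup X)} (h : Hyp ↥(P : Subgroup X) W) : False := by
  have : Fact (Nat.Prime 2) := ⟨Nat.prime_two⟩
  obtain ⟨e⟩ := hX
  have : Finite Cfsg.Spor.HN := Finite.of_equiv X e.toEquiv
  refine not_large Cfsg.Agent.KFacts.HN.large (by rw [Cfsg.Agent.KFacts.HN.card_RS]; norm_num)
    Cfsg.Agent.KFacts.HN.Classes.odd_index (P.mapSurjective (f := e.toMonoidHom) e.surjective)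
    (h.congr (e.subgroupMap (P : Subgroup X)))

end Cfsg.Agent.H303.RsHN
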