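import Cfsg.Agent.BenderType.Inv

set_option autoImplicit false
set_option linter.style.haveILetI false
set_option linter.unnecessarySimpa false

/-! Commutators in Sylow 2-subgroups of the Suzuki groups are involutions. -/

namespace Cfsg.Agent.H303.RsSz

open Cfsg Cfsg.Agent.LieRecognition Cfsg.Agent.LieRecognition.SzMatrix
open scoped commutatorElement

theorem comm_unip {F : Type*} [Field F] {θ : F →+* F} {e : ℕ} (H : Good F θ e) (x y : H.unip) :
    ⁅x, y⁆ * ⁅x, y⁆ = 1 := by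
  obtain ⟨x, hx⟩ := x
  obtain ⟨y, hy⟩ := y
  apply Subtype.ext
  change ⁅x, y⁆ * ⁅x, y⁆ = 1
  obtain ⟨a, b, rfl⟩ := (H.mem_unip_iff x).1 hx
  obtain ⟨c, d, rfl⟩ := (H.mem_unip_iff y).1 hy
  obtain ⟨z, hz⟩ : ∃ z, H.u a b * H.u c d = H.u c d * H.u a b * H.u 0 z := by
    refine ⟨(b + d + a * θ c) - (d + b + c * θ a), ?_⟩
    rw [H.u_mul a b c d, H.u_mul c d a b, H.u_mul, map_zero, mul_zero, add_zero, add_zero, add_sub_cancel,
      add_comm c a]
  have h0 : H.u 0 z * H.u 0 z = 1 := by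
    rw [H.u_mul, H.add_self, zero_mul, add_zero, H.add_self, H.u_zero]
  rw [commutatorElement_def, hz]
  calc H.u c d * H.u a b * H.u 0 z * (H.u a b)⁻¹ * (H.u c d)⁻¹ *
      (H.u c d * H.u a b * H.u 0 z * (H.u a b)⁻¹ * (H.u c d)⁻¹) =
      H.u c d * H.u a b * (H.u 0 z * H.u 0 z) * (H.u a b)⁻¹ * (H.u c d)⁻¹ := by group
    _ = 1 := by rw [h0]; group

/-- Sylow 2-subgroups of the Suzuki groups. -/
theorem comm_sq {F : Type*} [Field F] [Fintype F] {m : ℕ} (hm : 1 ≤ m)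
    (hF : Fintype.card F = 2 ^ (2 * m + 1)) (P : Sylow 2 ↥(Cfsg.Lie.Sz F (2 ^ (m + 1))))
    (x y : ↥(P : Subgroup ↥(Cfsg.Lie.Sz F (2 ^ (m + 1))))) : ⁅x, y⁆ * ⁅x, y⁆ = 1 := by
  have : Fact (Nat.Prime 2) := ⟨Nat.prime_two⟩
  have H := good hF
  have hcF : Nat.card F = 2 ^ (2 * m + 1) := by rw [Nat.card_eq_fintype_card, hF]
  have hodd : ¬ 2 ∣ H.unip.index := by
    have h1 := Subgroup.card_mul_index H.unip
    rw [(S1163.result hm hF).1, H.card_unip, hcF, mul_assoc] at h1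
    have h2 := Nat.eq_of_mul_eq_mul_left (by positivity) h1
    rw [h2]
    intro h
    rcases (Nat.Prime.dvd_mul Nat.prime_two).mp h with h | h
    · have h1 : 1 ≤ 2 ^ (2 * m + 1) := Nat.one_le_two_pow
      have h2 : 2 ∣ 2 ^ (2 * m + 1) := dvd_pow_self 2 (by omega)
      omega
    · have h2 : 2 ∣ (2 ^ (2 * m + 1)) ^ 2 := dvd_pow (dvd_pow_self 2 (by omega)) (by omega)
      omega
  have hpg : IsPGroup 2 H.unip := by
    apply IsPGroup.of_card (n := (2 * m + 1) * 2)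
    rw [H.card_unip, hcF, ← pow_mul]
  obtain ⟨f⟩ : Nonempty (↥(P : Subgroup ↥(Cfsg.Lie.Sz F (2 ^ (m + 1)))) ≃* ↥H.unip) :=
    ⟨P.equiv (hpg.toSylow hodd)⟩
  apply f.injective
  rw [map_mul, map_commutatorElement, map_one]
  exact comm_unip H _ _

/-- in a group isomorphic to a Suzuki group -/
theorem comm_sq_of_equiv {G : Type*} [Group G] [Finite G] {F : Type*} [Field F] [Fintype F] {m : ℕ}
    (hm : 1 ≤ m) (hF : Fintype.card F = 2 ^ (2 * m + 1))
    (e : G ≃* ↥(Cfsg.Lie.Sz F (2 ^ (m + 1)))) (S : Sylow 2 G) (x y : ↥(S : Subgroup G)) :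
    ⁅x, y⁆ * ⁅x, y⁆ = 1 := by
  have : Fact (Nat.Prime 2) := ⟨Nat.prime_two⟩
  let P := S.mapSurjective (f := e.toMonoidHom) e.surjective
  let f : ↥(S : Subgroup G) ≃* ↥(P : Subgroup ↥(Cfsg.Lie.Sz F (2 ^ (m + 1)))) := e.subgroupMap (S : Subgroup G)
  apply f.injective
  rw [map_mul, map_commutatorElement, map_one]
  exact comm_sq hm hF P _ _

end Cfsg.Agent.H303.RsSz
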