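import Cfsg.Agent.H303.RsAlt
import Cfsg.Agent.H303.RsHN
import Cfsg.Agent.H303.RsSz
import Cfsg.Agent.H303.RuDih
import Cfsg.Agent.H285.PglRank
import Cfsg.Agent.NotCT.Fam
import Cfsg.Agent.NotCT.Orders
import Cfsg.Agent.OddHalf.LongSL.All
import Cfsg.Agent.OddHalf.Known
import Cfsg.Agent.BenderType.Classify
import Cfsg.Agent.S1069

set_option autoImplicit false
set_option linter.style.haveILetI false
set_option linter.unnecessarySimpa false

/-! Known simple groups with a Sylow 2-subgroup of Rudvalis type. -/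

namespace Cfsg.Agent.H303.RsClass

open Cfsg Cfsg.Agent.NotCT Cfsg.Agent.H303.RuMain
open scoped commutatorElement

local notation "Zu" => Subgroup.upperCentralSeries

variable {X : Type*} [Group X] {S : Sylow 2 X} {W : Subgroup ↥(S : Subgroup X)}
  (h : Hyp ↥(S : Subgroup X) W)
include h

theorem card_S : Nat.card S = 2 ^ 14 := h.orders.2.2.1

theorem dvd_card [Finite X] : 2 ^ 14 ∣ Nat.card X := by
  rw [← card_S h]
  exact Subgroup.card_subgroup_dvd_card _

theorem not_dvd_card [Finite X] : ¬ 2 ^ 15 ∣ Nat.card X := by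
  intro h1
  have hp : Fact (Nat.Prime 2) := ⟨Nat.prime_two⟩
  have h2 := (S.pow_dvd_card_of_pow_dvd_card h1)
  have h3 : Nat.card S = 2 ^ 14 := card_S h
  rw [h3] at h2
  exact absurd (Nat.le_of_dvd (by norm_num) h2) (by norm_num)

theorem no_card [Finite X] {n : ℕ} (hn : Nat.card X = n) (hc : n % 2 ^ 14 ≠ 0 ∨ n % 2 ^ 15 = 0) : False := by
  rcases hc with hc | hc
  · exact hc (Nat.mod_eq_zero_of_dvd (hn ▸ dvd_card h))
  · exact not_dvd_card h (hn ▸ Nat.dvd_of_mod_eq_zero hc)

theorem not_comm_sylow : ¬ IsMulCommutative (S : Subgroup X) := by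
  intro hc
  obtain ⟨a, g, hag⟩ := h.not_comm
  apply hag
  rw [commutatorElement_eq_one_iff_mul_comm.2 (hc.is_comm.comm a g)]
  exact one_mem _

theorem not_comm : ¬ IsMulCommutative X := by
  intro hc
  exact not_comm_sylow h ⟨⟨fun a b => Subtype.ext (hc.is_comm.comm (a : X) b)⟩⟩

/-- alternating groups -/
theorem no_alt [Finite X] : ¬ IsAlternating X := by
  intro hX
  have : Fact (Nat.Prime 2) := ⟨Nat.prime_two⟩
  obtain ⟨n, hn, he⟩ := hX
  have h1 := two_card_alt (by omega) he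
  have h2 : 2 ^ 15 ∣ n.factorial := by
    rw [← h1, pow_succ', ]
    exact Nat.mul_dvd_mul_left 2 (dvd_card h)
  have h3 : ¬ 2 ^ 16 ∣ n.factorial := by
    rw [← h1, pow_succ']
    intro h4
    exact not_dvd_card h (Nat.dvd_of_mul_dvd_mul_left (by norm_num) h4)
  have h4 : 16 ≤ n := by
    by_contra hc
    have h5 : 2 ^ 15 ∣ (15 : ℕ).factorial := h2.trans (Nat.factorial_dvd_factorial (by omega))
    revert h5
    decide +kernel
  have h5 : n ≤ 17 := by
    by_contra hc
    apply h3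
    have h5 : 2 ^ 16 ∣ (18 : ℕ).factorial := by decide +kernel
    exact h5.trans (Nat.factorial_dvd_factorial (by omega))
  have h6 : n = 16 ∨ n = 17 := by omega
  obtain ⟨e⟩ := he
  rcases h6 with rfl | rfl
  · exact RsAlt.not_sixteen (S.mapSurjective (f := e.toMonoidHom) e.surjective)
      (h.congr (e.subgroupMap (S : Subgroup X)))
  · exact RsAlt.not_seventeen (S.mapSurjective (f := e.toMonoidHom) e.surjective)
      (h.congr (e.subgroupMap (S : Subgroup X)))

/-- the 2-rank is at least 3 -/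
theorem no_rank_two (hr : PRankLE 2 2 X) : False := by
  have := h.fin
  have h1 := hr ((Zu ↥(S : Subgroup X) 3).map (S : Subgroup X).subtype) ⟨⟨by
    rintro ⟨_, a, ha, rfl⟩ ⟨_, b, hb, rfl⟩
    have h8 : (a : X) * b = b * a := congrArg Subtype.val (h.comm_Z3 ha hb)
    exact Subtype.ext h8⟩⟩ (by
    rintro _ ⟨a, ha, rfl⟩
    exact congrArg Subtype.val (h.sq_Z3 a ha))
  rw [Subgroup.card_map_of_injective (Subgroup.subtype_injective _), h.cardZ 3 (by norm_num)] at h1
  norm_num at h1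

/-- odd characteristic -/
theorem no_odd [Finite X] (hlong : ∀ q, ¬ OddHalf.LongSL.HasLong q X) {p : ℕ} (hp : p.Prime) (hp2 : p ≠ 2) :
    ¬ IsLieTypeChar p X := by
  have hodd : ∀ (F : Type) [Field F] [Fintype F] [CharP F p], Odd (Fintype.card F) := by
    intro F _ _ _
    have h2 : ringChar F ≠ 2 := by
      rw [ringChar.eq F p]
      exact hp2
    have := FiniteField.odd_card_of_char_ne_two h2
    rwa [Nat.odd_iff]
  have hpo : Odd p := hp.odd_of_ne_two hp2
  rintro (h1 | h1 | h1 | h1 | h1 | h1 | h1 | h1 | ⟨rfl, -⟩ | ⟨rfl, -⟩ | ⟨-, h1⟩)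
  · obtain ⟨F, _, _, _, n, h2, h3, ⟨e⟩⟩ := h1
    rcases Nat.lt_or_ge 2 n with h4 | h4
    · exact hlong _ ((OddHalf.LongSL.Mat.hasLong_psl (hodd F) h4).of_equiv e.symm)
    · have h5 : n = 2 := by omega
      subst h5
      have h6 : PRankLE 2 2 (Matrix.ProjectiveSpecialLinearGroup (Fin 2) F) :=
        H285.PglRank.psl (hodd F) (n := 2) (by norm_num) (by norm_num)
      refine no_rank_two h (fun A hA hA2 => ?_)
      have h7 := h6 (A.map e.toMonoidHom) ⟨⟨by
        rintro ⟨_, a, ha, rfl⟩ ⟨_, b, hb, rfl⟩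
        have h8 : a * b = b * a := congrArg Subtype.val (hA.is_comm.comm ⟨a, ha⟩ ⟨b, hb⟩)
        exact Subtype.ext (by
          change e a * e b = e b * e a
          rw [← map_mul, h8, map_mul])⟩⟩ (by
        rintro _ ⟨a, ha, rfl⟩
        rw [← map_pow, hA2 a ha, map_one])
      rwa [Subgroup.card_map_of_injective e.injective] at h7
  · obtain ⟨F, _, _, _, m, h2, -, ⟨e⟩⟩ := h1
    exact hlong _ ((OddHalf.LongSL.Mat.hasLong_psp (hodd F) h2).of_equiv e.symm)
  · obtain ⟨F, _, _, _, n, q, hF, hn, -, ⟨e⟩⟩ := h1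
    have ho := hodd F
    have hoq : Odd q := (Nat.odd_pow_iff two_ne_zero).1 (hF ▸ ho)
    exact hlong _ ((OddHalf.LongSL.Mat.hasLong_psu hF hoq hn).of_equiv e.symm)
  · obtain ⟨F, _, _, _, h2⟩ := OddHalf.LongSL.Orth.hasLong_of_isPOmegaOddChar hpo h1
    exact hlong _ h2
  · obtain ⟨F, _, _, _, h2⟩ := OddHalf.LongSL.Orth.hasLong_of_isPOmegaPlusChar hpo h1
    exact hlong _ h2
  · obtain ⟨F, _, _, _, h2⟩ := OddHalf.LongSL.Orth.hasLong_of_isPOmegaMinusChar hpo h1
    exact hlong _ h2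
  · obtain ⟨F, _, _, _, h2⟩ := OddHalf.LongSL.Chev.hasLong_of_exceptional hp2 h1
    exact hlong _ h2
  · obtain ⟨F, _, _, _, h2⟩ := OddHalf.LongSL.Tw.hasLong_of_twisted hp2 h1
    exact hlong _ h2
  · exact hp2 rfl
  · exact hp2 rfl
  · obtain ⟨K, _, _, m, hm, hK, ⟨e⟩⟩ := h1
    have h2 := dvd_card h
    rw [Nat.card_congr e.toEquiv, Cfsg.Agent.S1069.result hK] at h2
    have h3 : 16 ∣ (3 ^ (2 * m + 1)) ^ 3 * (3 ^ (2 * m + 1) - 1) * ((3 ^ (2 * m + 1)) ^ 3 + 1) :=
      (show (16 : ℕ) ∣ 2 ^ 14 by norm_num).trans h2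
    have h4 : 3 ^ (2 * m + 1) % 16 = 3 ∨ 3 ^ (2 * m + 1) % 16 = 11 := by
      clear h3 h2 hK hm e
      induction m with
      | zero => left; norm_num
      | succ m ih =>
        have h5 : 3 ^ (2 * (m + 1) + 1) = 9 * 3 ^ (2 * m + 1) := by ring
        rw [h5]
        omega
    obtain ⟨q, hq⟩ : ∃ q, 3 ^ (2 * m + 1) = q + 1 := ⟨3 ^ (2 * m + 1) - 1, (Nat.sub_add_cancel (Nat.one_le_pow _ _ (by norm_num))).symm⟩
    rw [hq] at h3 h4
    rw [Nat.add_sub_cancel] at h3
    have h5 := Nat.mod_eq_zero_of_dvd h3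
    rcases h4 with h4 | h4
    · have h6 : q % 16 = 2 := by omega
      rw [Nat.mul_mod, Nat.mul_mod ((q + 1) ^ 3), Nat.add_mod ((q + 1) ^ 3), Nat.pow_mod, h4, h6] at h5
      norm_num at h5
    · have h6 : q % 16 = 10 := by omega
      rw [Nat.mul_mod, Nat.mul_mod ((q + 1) ^ 3), Nat.add_mod ((q + 1) ^ 3), Nat.pow_mod, h4, h6] at h5
      norm_num at h5

/-- characteristic two -/
theorem no_even [Finite X] : ¬ IsLieTypeChar 2 X := by
  intro h1
  obtain ⟨t, k, hv, ht⟩ := exists_typ Nat.prime_two h1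
  have h2 := card_eq Nat.prime_two hv ht
  have h3 := exp_eq Nat.prime_two hv h2 (dvd_card h) (not_dvd_card h)
  have tri : ∀ n, 3 ≤ n → k * (n * (n - 1) / 2) ≠ 14 := by
    intro n hn h4
    have h5 : n * (n - 1) / 2 ∣ 14 := Dvd.intro_left _ h4
    have h6 : n ≤ 5 := by
      by_contra hc
      have h7 : 6 * 5 ≤ n * (n - 1) := Nat.mul_le_mul (by omega) (by omega)
      have h8 := Nat.le_of_dvd (by norm_num) h5
      omega
    interval_cases n <;> revert h5 <;> decide
  have sq : ∀ n, 2 ≤ n → k * (n ^ 2) ≠ 14 := by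
    intro n hn h4
    have h5 : n ^ 2 ∣ 14 := Dvd.intro_left _ h4
    have h6 : n ≤ 3 := by
      by_contra hc
      have h7 : 4 ^ 2 ≤ n ^ 2 := Nat.pow_le_pow_left (by omega) 2
      have h8 := Nat.le_of_dvd (by norm_num) h5
      omega
    interval_cases n <;> revert h5 <;> decide
  have rect : ∀ n, 4 ≤ n → k * (n * (n - 1)) ≠ 14 := by
    intro n hn h4
    have h5 : n * (n - 1) ∣ 14 := Dvd.intro_left _ h4
    have h6 : n ≤ 4 := by
      by_contra hc
      have h7 : 5 * 4 ≤ n * (n - 1) := Nat.mul_le_mul (by omega) (by omega)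
      have h8 := Nat.le_of_dvd (by norm_num) h5
      omega
    interval_cases n; revert h5; decide
  cases t with
  | L n =>
    obtain ⟨hk, hn, -⟩ := hv
    rcases Nat.lt_or_ge 2 n with h4 | h4
    · exact tri n h4 h3
    · have h5 : n = 2 := by omega
      subst h5
      obtain ⟨F, _, _, hF, ⟨e⟩⟩ := ht
      exact BenderType.Classify.not_psl S (not_comm_sylow h) hF e
  | S m => exact sq m hv.2.1 h3
  | U n => exact tri n hv.2.1 h3
  | OO m => exact hv.2.2 rfl
  | OP m => exact rect m hv.2 h3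
  | OM m => exact rect m hv.2 h3
  | G2 => simp only [Typ.N] at h3; omega
  | F4 => simp only [Typ.N] at h3; omega
  | E6 => simp only [Typ.N] at h3; omega
  | E7 => simp only [Typ.N] at h3; omega
  | E8 => simp only [Typ.N] at h3; omega
  | TE6 => simp only [Typ.N] at h3; omega
  | TD4 => simp only [Typ.N] at h3; omega
  | SZ =>
    obtain ⟨F, _, _, m, hF, hq, ⟨e⟩⟩ := ht
    have hm : 1 ≤ m := by
      obtain ⟨-, h4, -⟩ := hv
      have h5 : k = 2 * m + 1 := Nat.pow_right_injective le_rfl hq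
      omega
    obtain ⟨a, g, hag⟩ := h.not_comm
    apply hag
    rw [h.mem_W]
    intro z hz
    have h4 := h.sq_Z3 z hz
    rw [pow_two] at h4
    exact (BenderType.Classify.ty_sz_of_equiv hm hF e S).comm z _ h4 (RsSz.comm_sq_of_equiv hm hF e S a g)
  | TF4 => simp only [Typ.N] at h3; omega
  | RG => obtain ⟨h4, -⟩ := hv; omega

theorem sporadic [Finite X] (hX : IsSporadicGroup X) : Spor.IsoRu X := by
  rcases hX with h1 | h1 | h1 | h1 | h1 | h1 | h1 | h1 | h1 | h1 | h1 | h1 | h1 | h1 | h1 | h1 | h1 | h1 | h1 |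
    h1 | h1 | h1 | h1 | h1 | h1 | h1
  · exact (no_card h (Orders.m11 h1) (by norm_num)).elim
  · exact (no_card h (Orders.m12 h1) (by norm_num)).elim
  · exact (no_card h (Orders.m22 h1) (by norm_num)).elim
  · exact (no_card h (Orders.m23 h1) (by norm_num)).elim
  · exact (no_card h (Orders.m24 h1) (by norm_num)).elim
  · exact (no_card h (Orders.j1 h1) (by norm_num)).elim
  · exact (no_card h (Orders.j2 h1) (by norm_num)).elim
  · exact (no_card h (Orders.j3 h1) (by norm_num)).elim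
  · exact (no_card h (Orders.j4 h1) (by norm_num)).elim
  · exact (no_card h (Orders.co1 h1) (by norm_num)).elim
  · exact (no_card h (Orders.co2 h1) (by norm_num)).elim
  · exact (no_card h (Orders.co3 h1) (by norm_num)).elim
  · exact (no_card h (Orders.mcl h1) (by norm_num)).elim
  · exact (no_card h (Orders.hs h1) (by norm_num)).elim
  · exact (no_card h (Orders.suz h1) (by norm_num)).elim
  · exact (no_card h (Orders.he h1) (by norm_num)).elim
  · exact h1
  · exact (no_card h (Orders.on h1) (by norm_num)).elim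
  · exact (no_card h (Orders.ly h1) (by norm_num)).elim
  · exact (no_card h (Orders.fi22 h1) (by norm_num)).elim
  · exact (no_card h (Orders.fi23 h1) (by norm_num)).elim
  · exact (no_card h (Orders.fi24 h1) (by norm_num)).elim
  · exact (RsHN.not_hn h1 S h).elim
  · exact (no_card h (Orders.th h1) (by norm_num)).elim
  · exact (no_card h (Orders.b h1) (by norm_num)).elim
  · exact (no_card h (Orders.m h1) (by norm_num)).elim

/-- **the known simple groups** -/
theorem classify [Finite X] (hlong : ∀ q, ¬ OddHalf.LongSL.HasLong q X) (hk : IsKnownSimple' X) :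
    Spor.IsoRu X := by
  rcases OddHalf.Known.classify (not_comm h) hk with h1 | ⟨p, hp, hp2, h1⟩ | (h1 | h1) | h1
  · exact absurd h1 (no_alt h)
  · exact absurd h1 (no_odd h hlong hp hp2)
  · exact absurd h1 (no_even h)
  · exact (no_card h (Orders.tits h1) (by norm_num)).elim
  · exact sporadic h h1

end Cfsg.Agent.H303.RsClass
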