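import Cfsg.Agent.H303.RsUpper

set_option autoImplicit false
set_option linter.style.haveILetI false
set_option linter.unnecessarySimpa false
set_option maxRecDepth 100000

/-! The commutator forms on `W / R` are non-degenerate. -/

namespace Cfsg.Agent.H303.RsRel

open Subgroup
open scoped commutatorElement
open Cfsg.Agent.Schreier Cfsg.Agent.Schreier.PcSeries

local notation "Zu" => Subgroup.upperCentralSeries

/-- sublists of `[k, ..., 10]` (with `0` added at the bottom) -/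
def subs : ℕ → List (List ℕ)
  | 0 => [[]]
  | n + 1 => subs n ++ (subs n).map (fun L => (10 - n) :: L)

/-- sublists of `[0, 4, ..., 10]` -/
def S0 : List (List ℕ) := subs 7 ++ (subs 7).map (fun L => 0 :: L)

/-- the sum of the values of the letters -/
def val (l : ℕ → ZMod 2) (w : List ℕ) : ZMod 2 := (w.map l).sum

/-- the value of the form -/
def F (l : ℕ → ZMod 2) (L : List ℕ) (j : ℕ) : ZMod 2 := (L.map (fun i => val l (Rel.cw i j))).sum

/-- the function with given values at 11, 12, 13 -/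
def tri (a b c : Bool) (m : ℕ) : Bool := cond (Nat.beq m 11) a (cond (Nat.beq m 12) b (cond (Nat.beq m 13) c false))

def valB (l : ℕ → Bool) (w : List ℕ) : Bool := w.foldr (fun m s => xor (l m) s) false

def FB (l : ℕ → Bool) (L : List ℕ) (j : ℕ) : Bool := L.foldr (fun i s => xor (valB l (Rel.cw i j)) s) false

def js : List ℕ := [0, 4, 5, 6, 7, 8, 9, 10]

def chk (l : ℕ → Bool) : Bool := S0.all fun L => (L.isEmpty || js.any fun j => FB l L j)

theorem chk_ok : ∀ a b c : Bool, (!a && !b && !c) || chk (tri a b c) = true := by decide +kernel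

/-- Boolean to `ZMod 2` -/
def bz (b : Bool) : ZMod 2 := cond b 1 0

theorem bz_xor (a b : Bool) : bz (xor a b) = bz a + bz b := by revert a b; decide

theorem val_eq (l : ℕ → Bool) (w : List ℕ) : val (fun m => bz (l m)) w = bz (valB l w) := by
  unfold val valB
  induction w with
  | nil => rfl
  | cons m w ih => rw [List.map_cons, List.sum_cons, ih, List.foldr_cons, bz_xor]

theorem F_eq (l : ℕ → Bool) (L : List ℕ) (j : ℕ) : F (fun m => bz (l m)) L j = bz (FB l L j) := by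
  unfold F FB
  induction L with
  | nil => rfl
  | cons m w ih => rw [List.map_cons, List.sum_cons, ih, List.foldr_cons, bz_xor, val_eq]

/-- all letters of `w` are in `{11, 12, 13}` -/
theorem cw_js : ∀ i ∈ js, ∀ j ∈ js, RuSyl.ge 11 (Rel.cw i j) = true := by decide

theorem val_congr {l l' : ℕ → ZMod 2} {w : List ℕ} (hw : RuSyl.ge 11 w = true)
    (h : ∀ m, 11 ≤ m → m < 14 → l m = l' m) : val l w = val l' w := by
  unfold val
  congr 1
  apply List.map_congr_left
  intro m hm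
  have := RuSyl.ge_spec hw m hm
  exact h m this.1 this.2

theorem F_ne {l : ℕ → ZMod 2} (hl : ∃ m, 11 ≤ m ∧ m < 14 ∧ l m ≠ 0) {L : List ℕ} (hL : L ∈ S0) (hne : L ≠ [])
    (hLj : ∀ i ∈ L, i ∈ js) : ∃ j ∈ js, F l L j ≠ 0 := by
  let b : ℕ → Bool := fun m => decide (l m ≠ 0)
  have hb : ∀ m, l m = bz (b m) := by
    intro m
    have : ∀ x : ZMod 2, x = bz (decide (x ≠ 0)) := by decide
    exact this _
  have h1 := chk_ok (b 11) (b 12) (b 13)
  have h2 : (!b 11 && !b 12 && !b 13) = false := by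
    obtain ⟨m, hm1, hm2, hm3⟩ := hl
    have hbm : b m = true := by simpa [b] using hm3
    rcases (by omega : m = 11 ∨ m = 12 ∨ m = 13) with rfl | rfl | rfl <;> rw [hbm] <;> simp
  rw [h2] at h1
  have h3 : chk (tri (b 11) (b 12) (b 13)) = true := by simpa using h1
  have h4 := List.all_eq_true.1 h3 L hL
  have h5 : L.isEmpty = false := by
    cases L with
    | nil => exact absurd rfl hne
    | cons => rfl
  rw [h5, Bool.false_or] at h4
  obtain ⟨j, hj, hj'⟩ := List.any_eq_true.1 h4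
  refine ⟨j, hj, ?_⟩
  have h6 : F l L j = F (fun m => bz (tri (b 11) (b 12) (b 13) m)) L j := by
    unfold F
    congr 1
    apply List.map_congr_left
    intro i hi
    apply val_congr (cw_js i (hLj i hi) j hj)
    intro m h1 h2
    rw [hb m]
    rcases (by omega : m = 11 ∨ m = 12 ∨ m = 13) with rfl | rfl | rfl <;> rfl
  rw [h6, F_eq, hj']
  decide

theorem subs_js : ∀ L ∈ S0, ∀ i ∈ L, i ∈ js := by decide +kernel

namespace Rel

variable {G : Type*} [Group G] {g : ℕ → G} (h : Rel G g)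
include h

theorem exists_subs : ∀ n ≤ 7, ∀ t ∈ N g 14 (11 - n), ∃ L ∈ subs n, ∃ r ∈ N g 14 11, t = (L.map g).prod * r := by
  intro n
  induction n with
  | zero => intro _ t ht; exact ⟨[], by simp [subs], t, ht, by simp⟩
  | succ n ih =>
    intro hn t ht
    have e : 11 - (n + 1) + 1 = 11 - n := by omega
    rcases h.mem_or (k := 11 - (n + 1)) (by omega) ht with h1 | h1
    · rw [e] at h1
      obtain ⟨L, hL, r, hr, h2⟩ := ih (by omega) t h1
      exact ⟨L, List.mem_append_left _ hL, r, hr, h2⟩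
    · rw [e] at h1
      obtain ⟨L, hL, r, hr, h2⟩ := ih (by omega) _ h1
      refine ⟨(10 - n) :: L, List.mem_append_right _ (List.mem_map.2 ⟨L, hL, rfl⟩), r, hr, ?_⟩
      have e2 : 11 - (n + 1) = 10 - n := by omega
      rw [e2] at h2
      rw [List.map_cons, List.prod_cons, mul_assoc, ← h2, mul_inv_cancel_left]

theorem exists_S0 {t : G} (ht : t ∈ W g) : ∃ L ∈ S0, ∃ r ∈ N g 14 11, t = (L.map g).prod * r := by
  rcases h.mem_W_iff.1 ht with h1 | h1
  · obtain ⟨L, hL, r, hr, h2⟩ := h.exists_subs 7 le_rfl t h1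
    exact ⟨L, List.mem_append_left _ hL, r, hr, h2⟩
  · obtain ⟨L, hL, r, hr, h2⟩ := h.exists_subs 7 le_rfl _ h1
    refine ⟨0 :: L, List.mem_append_right _ (List.mem_map.2 ⟨L, hL, rfl⟩), r, hr, ?_⟩
    rw [List.map_cons, List.prod_cons, mul_assoc, ← h2, mul_inv_cancel_left]

theorem R_le_W : N g 14 11 ≤ W g := (N_mono (by norm_num)).trans h.N4_le_W

omit h in
theorem R_comm {r w : G} (hr : r ∈ N g 14 11) (hw : w ∈ W g) : r * w = w * r := by
  rw [W, Subgroup.mem_centralizer_iff] at hw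
  exact hw r hr

/-- a character of `R` -/
structure Ch (g : ℕ → G) (φ : G → ZMod 2) : Prop where
  mul : ∀ x ∈ N g 14 11, ∀ y ∈ N g 14 11, φ (x * y) = φ x + φ y
  ne : ∃ r ∈ N g 14 11, φ r ≠ 0

omit h in
theorem Ch.one {φ : G → ZMod 2} (c : Ch g φ) : φ 1 = 0 := by
  have := c.mul 1 (one_mem _) 1 (one_mem _)
  rw [mul_one] at this
  simpa using this

omit h in
theorem Ch.inv {φ : G → ZMod 2} (c : Ch g φ) {x : G} (hx : x ∈ N g 14 11) : φ x⁻¹ = φ x := by
  have := c.mul x hx x⁻¹ (inv_mem hx)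
  rw [mul_inv_cancel, c.one] at this
  have e : ∀ a b : ZMod 2, 0 = a + b → b = a := by decide
  exact e _ _ this

omit h in
theorem Ch.prod {φ : G → ZMod 2} (c : Ch g φ) {w : List ℕ} (hw : RuSyl.ge 11 w = true) :
    φ (w.map g).prod = val (fun m => φ (g m)) w := by
  have h1 := RuSyl.ge_spec hw
  clear hw
  induction w with
  | nil => exact c.one
  | cons m w ih =>
    have h2 := h1 m (by simp)
    have h3 : ∀ i ∈ w, 11 ≤ i ∧ i < 14 := fun i hi => h1 i (List.mem_cons_of_mem _ hi)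
    rw [List.map_cons, List.prod_cons, c.mul _ (mem_N h2.1 h2.2) _ (prod_mem_N h3), ih h3]
    unfold val
    rw [List.map_cons, List.sum_cons]

theorem Ch.exists_g {φ : G → ZMod 2} (c : Ch g φ) : ∃ m, 11 ≤ m ∧ m < 14 ∧ φ (g m) ≠ 0 := by
  by_contra hcon
  push Not at hcon
  obtain ⟨r, hr, hr'⟩ := c.ne
  apply hr'
  rw [N] at hr
  have hR : ∀ x ∈ Subgroup.closure {x | ∃ i, 11 ≤ i ∧ i < 14 ∧ x = g i}, x ∈ N g 14 11 := fun x hx => hx
  induction hr using Subgroup.closure_induction with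
  | one => exact c.one
  | mul x y hx hy ihx ihy =>
    by_cases h1 : φ x = 0
    · by_cases h2 : φ y = 0
      · rw [c.mul x (hR x hx) y (hR y hy), h1, h2, add_zero]
      · exact absurd (ihy h2) h2
    · exact absurd (ihx h1) h1
  | inv x hx ih =>
    rw [c.inv (hR x hx)]
    by_cases h1 : φ x = 0
    · exact h1
    · exact ih h1
  | mem x hx =>
    obtain ⟨i, h1, h2, rfl⟩ := hx
    exact hcon i h1 h2

theorem comm_mul {x y z : G} (hx : x ∈ W g) (hy : y ∈ W g) (hz : z ∈ W g) :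
    ⁅x * y, z⁆ = ⁅x, z⁆ * ⁅y, z⁆ := by
  have h1 := h.comm_W hy hz
  have h2 : ⁅y, z⁆ * x = x * ⁅y, z⁆ := R_comm h1 hx
  have h4 : ⁅y, z⁆ * ⁅x, z⁆ = ⁅x, z⁆ * ⁅y, z⁆ := R_comm h1 (h.R_le_W (h.comm_W hx hz))
  have e : ⁅x * y, z⁆ = x * ⁅y, z⁆ * x⁻¹ * ⁅x, z⁆ := by
    simp only [commutatorElement_def]; group
  rw [e, ← h2, mul_inv_cancel_right, h4]

theorem comm_gg {φ : G → ZMod 2} (c : Ch g φ) {i j : ℕ} (hi : i ∈ js) (hj : j ∈ js) :
    φ ⁅g i, g j⁆ = val (fun m => φ (g m)) (cw i j) := by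
  have hlt : ∀ i ∈ js, i < 14 ∧ i ≠ 1 ∧ i ≠ 2 ∧ i ≠ 3 := by decide
  obtain ⟨hi1, hi2, hi3, hi4⟩ := hlt i hi
  obtain ⟨hj1, hj2, hj3, hj4⟩ := hlt j hj
  have hwi := h.g_mem_W hi1 hi2 hi3 hi4
  have hwj := h.g_mem_W hj1 hj2 hj3 hj4
  have hge := cw_js i hi j hj
  have key : ∀ i j, i < j → j < 14 → g i ∈ W g → g j ∈ W g → RuSyl.ge 11 (RuSyl.cmi i j) = true →
      ⁅g i, g j⁆ = ((RuSyl.cmi i j).map g).prod := by
    intro i j hij hj hwi hwj hge
    have h1 := h.comm i j hij hj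
    have h2 : ((RuSyl.cmi i j).map g).prod ∈ N g 14 11 := prod_mem_N (RuSyl.ge_spec hge)
    have h3 := R_comm h2 (mul_mem hwj hwi)
    rw [commutatorElement_def, h1, ← h3]
    group
  rw [← c.prod hge]
  unfold cw at hge ⊢
  rcases lt_trichotomy i j with hij | hij | hij
  · rw [if_pos hij] at hge ⊢
    rw [key i j hij hj1 hwi hwj hge]
  · rw [hij, commutatorElement_self, if_neg (lt_irrefl _), if_neg (lt_irrefl _)]
    rfl
  · rw [if_neg (by omega), if_pos hij] at hge ⊢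
    rw [← key j i hij hi1 hwj hwi hge, ← commutatorElement_inv, c.inv (h.comm_W hwj hwi)]

theorem comm_L {φ : G → ZMod 2} (c : Ch g φ) {j : ℕ} (hj : j ∈ js) : ∀ L : List ℕ, (∀ i ∈ L, i ∈ js) →
    (L.map g).prod ∈ W g ∧ φ ⁅(L.map g).prod, g j⁆ = F (fun m => φ (g m)) L j := by
  have hlt : ∀ i ∈ js, i < 14 ∧ i ≠ 1 ∧ i ≠ 2 ∧ i ≠ 3 := by decide
  have hW : ∀ i ∈ js, g i ∈ W g := by
    intro i hi
    obtain ⟨hi1, hi2, hi3, hi4⟩ := hlt i hi
    exact h.g_mem_W hi1 hi2 hi3 hi4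
  intro L
  induction L with
  | nil =>
    intro _
    refine ⟨one_mem _, ?_⟩
    rw [List.map_nil, List.prod_nil, commutatorElement_one_left, c.one]
    rfl
  | cons i L ih =>
    intro hL
    obtain ⟨h1, h2⟩ := ih (fun i hi => hL i (List.mem_cons_of_mem _ hi))
    have h3 := hL i (by simp)
    rw [List.map_cons, List.prod_cons]
    refine ⟨mul_mem (hW i h3) h1, ?_⟩
    rw [h.comm_mul (hW i h3) h1 (hW j hj), c.mul _ (h.comm_W (hW i h3) (hW j hj)) _ (h.comm_W h1 (hW j hj)), h2,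
      h.comm_gg c h3 hj]
    unfold F
    rw [List.map_cons, List.sum_cons]

/-- **the forms are non-degenerate** -/
theorem nondeg {φ : G → ZMod 2} (c : Ch g φ) {t : G} (ht : t ∈ W g) (h1 : ∀ x ∈ W g, φ ⁅t, x⁆ = 0) :
    t ∈ N g 14 11 := by
  obtain ⟨L, hL, r, hr, rfl⟩ := h.exists_S0 ht
  by_cases hne : L = []
  · subst hne
    simpa using hr
  · exfalso
    have hLj := subs_js L hL
    obtain ⟨j, hj, hj'⟩ := F_ne (c.exists_g h) hL hne hLj
    have hlt : ∀ i ∈ js, i < 14 ∧ i ≠ 1 ∧ i ≠ 2 ∧ i ≠ 3 := by decide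
    obtain ⟨hj1, hj2, hj3, hj4⟩ := hlt j hj
    have hwj := h.g_mem_W hj1 hj2 hj3 hj4
    obtain ⟨h2, h3⟩ := h.comm_L c hj L hLj
    have h4 := h1 _ hwj
    have h5 : ⁅r, g j⁆ = 1 := by
      rw [commutatorElement_eq_one_iff_mul_comm]
      exact R_comm hr hwj
    rw [h.comm_mul h2 (h.R_le_W hr) hwj, h5, mul_one, h3] at h4
    exact hj' h4

end Rel

end Cfsg.Agent.H303.RsRel
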