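import Cfsg.Agent.H303.RsQuat
import Cfsg.Agent.Schreier.LowerCrit

set_option autoImplicit false
set_option linter.style.haveILetI false
set_option linter.unnecessarySimpa false

/-! 2-groups of Rudvalis type contain no generalised quaternion subgroup whose conjugates are equal to it
or commute with it: the case `Q ≤ W`. -/

namespace Cfsg.Agent.H303.RsQuat

open Subgroup
open scoped commutatorElement
open Cfsg.Agent.Cit (GQ IsGQ)
open Cfsg.Agent.H303.RuMain Cfsg.Agent.H303.RuMain.Hyp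

local notation "Zu" => Subgroup.upperCentralSeries

variable {T : Type*} [Group T] {W : Subgroup T}

/-- squares of products in `W` -/
theorem sq_mul_W (h : Hyp T W) {x y : T} (hx : x ∈ W) (hy : y ∈ W) : (x * y) ^ 2 = x ^ 2 * y ^ 2 * ⁅x, y⁆ := by
  have h1 := h.comm_W_mem hy hx
  have h2 := h.comm_Z3_W h1 hx
  have h3 := h.comm_Z3_W h1 (mul_mem (pow_mem hx 2) (pow_mem hy 2))
  have e : (x * y) ^ 2 = x * ⁅y, x⁆ * x⁻¹ * (x ^ 2 * y ^ 2) := by
    rw [commutatorElement_def, pow_two, pow_two, pow_two]; group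
  rw [e, ← h2, mul_inv_cancel_right, h3, ← commutatorElement_inv x y, h.inv_Z3 (h.comm_W_mem hx hy)]

theorem caseA (h : Hyp T W) {Q : Subgroup T} {c v z : T} {n : ℕ} (hQ : GQ Q c v z n) (hcard : 8 ≤ Nat.card Q)
    (hQW : Q ≤ W) (hconj : ∀ t : T, (∀ x ∈ Q, t * x * t⁻¹ ∈ Q) ∨
      ∀ x ∈ Q, ∀ y ∈ Q, x * (t * y * t⁻¹) = (t * y * t⁻¹) * x) : False := by
  have := h.fin
  have hWn := h.normalW
  have hZn : (Zu T 3).Normal := inferInstance
  have hzc : ∀ r ∈ Zu T 3, ∀ w ∈ W, r * w = w * r := fun r hr w hw => h.comm_Z3_W hr hw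
  -- `Q` is normal in `W`
  have hn : ∀ w ∈ W, ∀ x ∈ Q, w * x * w⁻¹ ∈ Q := by
    intro w hw
    rcases hconj w with h1 | h1
    · exact h1
    · exfalso
      apply hQ.not_comm
      have h2 := h1 v hQ.v_mem c hQ.c_mem
      have h3 := h.comm_W_mem hw (hQW hQ.c_mem)
      have e : w * c * w⁻¹ = ⁅w, c⁆ * c := by rw [commutatorElement_def]; group
      rw [e, ← mul_assoc, ← hzc _ h3 v (hQW hQ.v_mem), mul_assoc, mul_assoc] at h2
      exact mul_left_cancel h2
  have h1z : ∀ x ∈ Q, x ∈ Zu T 3 → x = 1 ∨ x = z := by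
    intro x hx hx3
    by_cases h1 : x = 1
    · exact Or.inl h1
    · right
      refine hQ.eq_z hx ?_ h1
      rw [← pow_two]
      exact h.sq_Z3 x hx3
  have hc : ∀ w ∈ W, ∀ x ∈ Q, ⁅x, w⁆ = 1 ∨ ⁅x, w⁆ = z := by
    intro w hw x hx
    apply h1z
    · have e : ⁅x, w⁆ = x * (w * x * w⁻¹)⁻¹ := by rw [commutatorElement_def]; group
      rw [e]
      exact mul_mem hx (inv_mem (hn w hw x hx))
    · exact h.comm_W_mem (hQW hx) hw
  have hz3 : z ∈ Zu T 3 := by
    have h1 := (hc c (hQW hQ.c_mem) v hQ.v_mem).resolve_left (by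
      intro h2
      exact hQ.not_comm (commutatorElement_eq_one_iff_mul_comm.1 h2))
    rw [← h1]
    exact h.comm_W_mem (hQW hQ.v_mem) (hQW hQ.c_mem)
  -- a conjugate which commutes with `Q`
  obtain ⟨t, ht⟩ : ∃ t : T, ∀ x ∈ Q, ∀ y ∈ Q, x * (t * y * t⁻¹) = (t * y * t⁻¹) * x := by
    by_contra hcon
    push Not at hcon
    have hQn : Q.Normal := ⟨fun x hx t => ((hconj t).resolve_right (fun h2 => by
      obtain ⟨x, hx, y, hy, hxy⟩ := hcon t
      exact hxy (h2 x hx y hy))) x hx⟩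
    have h2 := h.Z3_le hQn hcard
    have h3 := card_le_two_of (H := Zu T 3) (z := z) (fun x hx => h1z x (h2 hx) hx)
    rw [h.cardZ 3 (by norm_num)] at h3
    norm_num at h3
  set z' := t * z * t⁻¹ with hz'
  have hz3' : z' ∈ Zu T 3 := hZn.conj_mem z hz3 t
  set Q' : Subgroup T := Q.map (MulAut.conj t).toMonoidHom with hQ'
  have memQ' : ∀ x ∈ Q', ∃ y ∈ Q, x = t * y * t⁻¹ := by
    rintro _ ⟨y, hy, rfl⟩
    exact ⟨y, hy, rfl⟩
  have hQW' : Q' ≤ W := by
    intro x hx
    obtain ⟨y, hy, rfl⟩ := memQ' x hx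
    exact hWn.conj_mem y (hQW hy) t
  have hc' : ∀ w ∈ W, ∀ x ∈ Q', ⁅x, w⁆ = 1 ∨ ⁅x, w⁆ = z' := by
    intro w hw x hx
    obtain ⟨y, hy, rfl⟩ := memQ' x hx
    have hw' : t⁻¹ * w * t ∈ W := by simpa using hWn.conj_mem w hw t⁻¹
    have e : ⁅t * y * t⁻¹, w⁆ = t * ⁅y, t⁻¹ * w * t⁆ * t⁻¹ := by simp only [commutatorElement_def]; group
    rw [e]
    rcases hc _ hw' y hy with h2 | h2
    · left; rw [h2]; group
    · right; rw [h2]
  have hcardQ' : Nat.card Q' = Nat.card Q := Subgroup.card_map_of_injective (MulAut.conj t).injective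
  -- the subgroup `K`
  set K : Subgroup T := zpowers z ⊔ zpowers z' with hK
  have hzK : z ∈ K := mem_sup_left (mem_zpowers z)
  have hzK' : z' ∈ K := mem_sup_right (mem_zpowers z')
  have hzz : z * z = 1 := hQ.z_mul
  have hzz' : z' * z' = 1 := by
    rw [hz']
    calc t * z * t⁻¹ * (t * z * t⁻¹) = t * (z * z) * t⁻¹ := by group
      _ = 1 := by rw [hzz]; group
  have hcomz : z * z' = z' * z := h.comm_Z3 hz3 hz3'
  have hcardK : Nat.card K ≤ 4 := by
    have h2 := Cfsg.Agent.Schreier.LowerCrit.relIndex_sup_zpowers_le (A := zpowers z) (x := z')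
      (by rw [hzz']; exact one_mem _) (by
        rintro _ ⟨k, rfl⟩
        have h3 : z' * z ^ k = z ^ k * z' := ((Commute.zpow_right (show Commute z' z from hcomz.symm) k)).eq
        show z' * z ^ k * z'⁻¹ ∈ zpowers z
        rw [h3, mul_inv_cancel_right]
        exact ⟨k, rfl⟩) (by
        rintro _ ⟨k, rfl⟩
        have h3 : z' * z ^ k = z ^ k * z' := ((Commute.zpow_right (show Commute z' z from hcomz.symm) k)).eq
        show z'⁻¹ * z ^ k * z' ∈ zpowers z
        rw [mul_assoc, ← h3, inv_mul_cancel_left]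
        exact ⟨k, rfl⟩)
    have h3 : Nat.card (zpowers z) * (zpowers z).relIndex K = Nat.card K := by
      have h5 := Subgroup.relIndex_mul_relIndex ⊥ (zpowers z) K bot_le le_sup_left
      rwa [Subgroup.relIndex_bot_left, Subgroup.relIndex_bot_left] at h5
    rw [← h3, Nat.card_zpowers, hQ.orderOf_z]
    exact Nat.mul_le_mul_left 2 h2.2
  obtain ⟨c0, hc0, hc0K⟩ : ∃ c0 ∈ Zu T 3, c0 ∉ K := by
    by_contra hcon
    push Not at hcon
    have h2 := Subgroup.card_le_of_le (show Zu T 3 ≤ K from fun x hx => hcon x hx)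
    rw [h.cardZ 3 (by norm_num)] at h2
    omega
  -- the subgroup of the elements with commutators and squares in `K`
  let S1 : Subgroup T :=
    { carrier := {a | a ∈ W ∧ (∀ w ∈ W, ⁅a, w⁆ ∈ K) ∧ a ^ 2 ∈ K}
      one_mem' := ⟨one_mem _, fun w _ => by rw [commutatorElement_one_left]; exact one_mem _, by simp [one_mem]⟩
      mul_mem' := by
        rintro a b ⟨ha1, ha2, ha3⟩ ⟨hb1, hb2, hb3⟩
        refine ⟨mul_mem ha1 hb1, ?_, ?_⟩
        · intro w hw
          have h2 := hzc _ (h.comm_W_mem hb1 hw) a ha1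
          have e : ⁅a * b, w⁆ = a * ⁅b, w⁆ * a⁻¹ * ⁅a, w⁆ := by simp only [commutatorElement_def]; group
          rw [e, ← h2, mul_inv_cancel_right]
          exact mul_mem (hb2 w hw) (ha2 w hw)
        · rw [sq_mul_W h ha1 hb1]
          exact mul_mem (mul_mem ha3 hb3) (ha2 b hb1)
      inv_mem' := by
        rintro a ⟨ha1, ha2, ha3⟩
        refine ⟨inv_mem ha1, ?_, ?_⟩
        · intro w hw
          have h2 := hzc _ (h.comm_W_mem ha1 hw) a ha1
          have e : ⁅a⁻¹, w⁆ = (a⁻¹ * ⁅a, w⁆ * a)⁻¹ := by simp only [commutatorElement_def]; group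
          rw [e, mul_assoc, h2, inv_mul_cancel_left]
          exact inv_mem (ha2 w hw)
        · rw [inv_pow]; exact inv_mem ha3 }
  have hQS : Q ≤ S1 := by
    intro x hx
    refine ⟨hQW hx, ?_, ?_⟩
    · intro w hw
      rcases hc w hw x hx with h2 | h2 <;> rw [h2]
      · exact one_mem _
      · exact hzK
    · rcases h1z _ (pow_mem hx 2) (h.sq_W_mem (hQW hx)) with h2 | h2 <;> rw [h2]
      · exact one_mem _
      · exact hzK
  have hQS' : Q' ≤ S1 := by
    intro x hx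
    refine ⟨hQW' hx, ?_, ?_⟩
    · intro w hw
      rcases hc' w hw x hx with h2 | h2 <;> rw [h2]
      · exact one_mem _
      · exact hzK'
    · obtain ⟨y, hy, rfl⟩ := memQ' x hx
      have e : (t * y * t⁻¹) ^ 2 = t * y ^ 2 * t⁻¹ := by rw [pow_two, pow_two]; group
      rw [e]
      rcases h1z _ (pow_mem hy 2) (h.sq_W_mem (hQW hy)) with h2 | h2 <;> rw [h2]
      · rw [mul_one, mul_inv_cancel]; exact one_mem _
      · exact hzK'
  have hZS : Zu T 3 ≤ S1 := by
    intro x hx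
    refine ⟨h.Z3_le_W hx, ?_, ?_⟩
    · intro w hw
      rw [commutatorElement_eq_one_iff_mul_comm.2 (hzc x hx w hw)]
      exact one_mem _
    · rw [h.sq_Z3 x hx]; exact one_mem _
  have hAS : Q ⊔ (Q' ⊔ Zu T 3) ≤ S1 := sup_le hQS (sup_le hQS' hZS)
  -- the order
  have h2 : Nat.card ↥(Q' ⊓ Zu T 3) ≤ 2 := by
    apply card_le_two_of (z := z')
    rintro x ⟨hx1, hx2⟩
    obtain ⟨y, hy, rfl⟩ := memQ' x hx1
    have hy3 : y ∈ Zu T 3 := by
      have := hZn.conj_mem _ hx2 t⁻¹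
      have e : t⁻¹ * (t * y * t⁻¹) * (t⁻¹)⁻¹ = y := by group
      rwa [e] at this
    rcases h1z y hy hy3 with h2 | h2
    · left; rw [h2]; group
    · right; rw [h2]
  have h3 := sup_bound h2
  rw [h.cardZ 3 (by norm_num), hcardQ'] at h3
  have h4 : Nat.card ↥(Q ⊓ (Q' ⊔ Zu T 3)) ≤ 2 := by
    apply card_le_two_of (z := z)
    rintro x ⟨hx1, hx2⟩
    apply gq_center hQ hx1
    intro y hy
    have h5 : Q' ⊔ Zu T 3 ≤ centralizer {y} := by
      refine sup_le ?_ ?_
      · intro u hu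
        rw [mem_centralizer_singleton_iff]
        obtain ⟨u', hu', rfl⟩ := memQ' u hu
        exact (ht y hy u' hu').symm
      · intro u hu
        rw [mem_centralizer_singleton_iff]
        exact hzc u hu y (hQW hy)
    exact mem_centralizer_singleton_iff.1 (h5 hx2)
  have h5 := sup_bound h4
  refine no_rad h hc0 hc0K (A := Q ⊔ (Q' ⊔ Zu T 3)) (fun x hx => (hAS hx).1) (le_sup_right.trans le_sup_right) ?_
    (fun a ha => (hAS ha).2.2) (fun a ha => (hAS ha).2.1)
  have h6 : 32 ≤ Nat.card ↥(Q' ⊔ Zu T 3) := by omega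
  have h7 : 32 * 8 ≤ Nat.card ↥(Q' ⊔ Zu T 3) * Nat.card Q := Nat.mul_le_mul h6 hcard
  omega

end Cfsg.Agent.H303.RsQuat
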