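import Cfsg.Agent.H303.RsQuatA

set_option autoImplicit false
set_option linter.style.haveILetI false
set_option linter.unnecessarySimpa false

/-! 2-groups of Rudvalis type contain no generalised quaternion subgroup whose conjugates are equal to it
or commute with it: the case `Q ≰ W`. -/

namespace Cfsg.Agent.H303.RsQuat

open Subgroup
open scoped commutatorElement
open Cfsg.Agent.Cit (GQ IsGQ)
open Cfsg.Agent.H303.RuMain Cfsg.Agent.H303.RuMain.Hyp

local notation "Zu" => Subgroup.upperCentralSeries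

/-! ### images of subgroups of quaternion groups -/

section

variable {G H : Type*} [Group G] [Group H] {Q : Subgroup G} {c v z : G} {n : ℕ}

/-- a cyclic subgroup of exponent 2 -/
theorem card_map_zpowers_le (f : G →* H) {g : G} (hg : f g * f g = 1) {D : Subgroup G} (hD : D ≤ zpowers g) :
    ∀ x ∈ D, f x = 1 ∨ f x = f g := by
  intro x hx
  obtain ⟨k, rfl⟩ := hD hx
  show f (g ^ k) = 1 ∨ f (g ^ k) = f g
  rw [map_zpow]
  rcases Int.even_or_odd k with ⟨m, rfl⟩ | ⟨m, rfl⟩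
  · left
    rw [← two_mul, zpow_mul, zpow_two, hg, one_zpow]
  · right
    rw [zpow_add, zpow_mul, zpow_two, hg, one_zpow, zpow_one, one_mul]

/-- elementary abelian images of subgroups of a generalised quaternion group -/
theorem image_cases [Finite G] (hQ : GQ Q c v z n) {a : ℕ} (ha : Nat.card Q = 2 ^ a) {D : Subgroup G} (hD : D ≤ Q)
    (f : G →* H) (hf : ∀ d ∈ D, f d * f d = 1) :
    Nat.card (D.map f) ≤ 2 ∨ (Nat.card (D.map f) ≤ 4 ∧ 8 ≤ Nat.card D) := by
  -- a generator of `D ∩ ⟨c⟩`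
  obtain ⟨g, hg⟩ : ∃ g : G, D ⊓ zpowers c = zpowers g := by
    have h1 : IsCyclic ↥((D ⊓ zpowers c).subgroupOf (zpowers c)) := inferInstance
    obtain ⟨⟨⟨g, hgc⟩, hgD⟩, hg⟩ := h1.exists_generator
    refine ⟨g, le_antisymm ?_ ?_⟩
    · intro x hx
      obtain ⟨k, hk⟩ := hg ⟨⟨x, hx.2⟩, hx⟩
      refine ⟨k, ?_⟩
      have := congrArg (fun y : ↥((D ⊓ zpowers c).subgroupOf (zpowers c)) => ((y : ↥(zpowers c)) : G)) hk
      simpa using this
    · rw [zpowers_le]
      exact hgD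
  have hgD : g ∈ D := by
    have : g ∈ D ⊓ zpowers c := by rw [hg]; exact mem_zpowers g
    exact this.1
  have h1 : ∀ x ∈ D, x ∈ zpowers c → f x = 1 ∨ f x = f g := fun x hx hxc =>
    card_map_zpowers_le f (hf g hgD) (D := D ⊓ zpowers c) hg.le x ⟨hx, hxc⟩
  by_cases hDc : D ≤ zpowers c
  · left
    apply card_le_two_of (z := f g)
    rintro _ ⟨x, hx, rfl⟩
    exact h1 x hx (hDc hx)
  · obtain ⟨y, hyD, hyc⟩ := SetLike.not_le_iff_exists.1 hDc
    obtain ⟨i, hi⟩ : ∃ i : ℕ, y = v * c ^ i := by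
      rcases hQ.cov y (hD hyD) with ⟨i, hi⟩ | h2
      · exact absurd (hi ▸ pow_mem (mem_zpowers c) i) hyc
      · exact h2
    have h2 : ∀ x ∈ D, x ∈ zpowers c ∨ y⁻¹ * x ∈ zpowers c := by
      intro x hx
      rcases hQ.cov x (hD hx) with ⟨j, hj⟩ | ⟨j, hj⟩
      · left; rw [hj]; exact pow_mem (mem_zpowers c) j
      · right
        rw [hj, hi]
        have e : (v * c ^ i)⁻¹ * (v * c ^ j) = (c ^ i)⁻¹ * c ^ j := by group
        rw [e]
        exact mul_mem (inv_mem (pow_mem (mem_zpowers c) i)) (pow_mem (mem_zpowers c) j)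
    by_cases h8 : 8 ≤ Nat.card D
    · right
      refine ⟨?_, h8⟩
      have h3 : Function.Surjective (fun p : Bool × Bool =>
          (⟨(if p.1 then f y else 1) * (if p.2 then f g else 1), mul_mem (by
            split_ifs
            · exact mem_map_of_mem f hyD
            · exact one_mem _) (by
            split_ifs
            · exact mem_map_of_mem f hgD
            · exact one_mem _)⟩ : D.map f)) := by
        rintro ⟨_, x, hx, rfl⟩
        rcases h2 x hx with h3 | h3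
        · rcases h1 x hx h3 with h4 | h4
          · exact ⟨(false, false), Subtype.ext (by simp [h4])⟩
          · exact ⟨(false, true), Subtype.ext (by simp [h4])⟩
        · rcases h1 _ (mul_mem (inv_mem hyD) hx) h3 with h4 | h4
          · refine ⟨(true, false), Subtype.ext ?_⟩
            rw [map_mul, map_inv, inv_mul_eq_one] at h4
            simp [h4]
          · refine ⟨(true, true), Subtype.ext ?_⟩
            rw [map_mul, map_inv, inv_mul_eq_iff_eq_mul] at h4
            simp [h4]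
      have h4 := Nat.card_le_card_of_surjective _ h3
      rw [Nat.card_prod] at h4
      simpa using h4
    · left
      have h3 : Nat.card D ∣ 2 ^ a := by rw [← ha]; exact card_dvd_of_le hD
      obtain ⟨b, -, hb⟩ := (Nat.dvd_prime_pow Nat.prime_two).1 h3
      have h4 : Nat.card D ≤ 4 := by
        rw [hb] at h8 ⊢
        by_contra hcon
        have h5 : 2 < b := by
          by_contra h6
          apply hcon
          calc 2 ^ b ≤ 2 ^ 2 := Nat.pow_le_pow_right (by norm_num) (by omega)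
            _ = 4 := by norm_num
        apply h8
        calc 8 = 2 ^ 3 := by norm_num
          _ ≤ 2 ^ b := Nat.pow_le_pow_right (by norm_num) h5
      have h5 : D = zpowers y := by
        symm
        apply Subgroup.eq_of_le_of_card_ge (zpowers_le.2 hyD)
        rw [Nat.card_zpowers, hi, hQ.orderOf_out]
        exact h4
      apply card_le_two_of (z := f y)
      rintro _ ⟨x, hx, rfl⟩
      exact card_map_zpowers_le f (hf y hyD) h5.le x hx

end

variable {T : Type*} [Group T] {W : Subgroup T}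

/-- elements of `W` centralising `x ∉ W` modulo `Z_3` -/
theorem card_cent_le (h : Hyp T W) {x : T} (hx : x ∉ W) {H : Subgroup T} (hHW : H ≤ W)
    (hH : ∀ w ∈ H, ⁅w, x⁆ ∈ Zu T 3) : Nat.card H ≤ 2 ^ 7 := by
  have := h.fin
  set f := QuotientGroup.mk' (Zu T 3) with hf
  have hker : ∀ {t : T}, f t = 1 ↔ t ∈ Zu T 3 := fun {t} => QuotientGroup.eq_one_iff t
  -- the subgroup `X = ⟨V, x⟩`
  have hxV : f x ∉ V W := by
    rintro ⟨w, hw, hwx⟩
    rw [hf, mk_eq_iff] at hwx
    apply hx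
    have e : x = w * (w⁻¹ * x) := by group
    rw [e]
    exact mul_mem hw (h.Z3_le_W hwx)
  have h1 : (V W ⊔ zpowers (f x)).index ≤ 4 := by
    have h2 := Subgroup.relIndex_mul_index (le_sup_left : V W ≤ V W ⊔ zpowers (f x))
    rw [h.V_facts.2.2.1] at h2
    have h3 : (V W).relIndex (V W ⊔ zpowers (f x)) ≠ 1 := by
      rw [Ne, Subgroup.relIndex_eq_one]
      intro h4
      exact hxV (h4 (mem_sup_right (mem_zpowers _)))
    generalize (V W).relIndex (V W ⊔ zpowers (f x)) = r at *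
    generalize (V W ⊔ zpowers (f x)).index = s at *
    by_contra hcon
    push Not at hcon
    have h5 : r = 0 ∨ r = 1 ∨ 2 ≤ r := by omega
    rcases h5 with rfl | rfl | h5
    · omega
    · exact h3 rfl
    · nlinarith
  have h2 := h.card_fix (V W ⊔ zpowers (f x))
  have h3 : 2 ^ (V W ⊔ zpowers (f x)).index ≤ 2 ^ 4 := Nat.pow_le_pow_right (by norm_num) h1
  have h4 : H.map f ≤ V W ⊓ centralizer ((V W ⊔ zpowers (f x) : Subgroup (T ⧸ Zu T 3)) : Set (T ⧸ Zu T 3)) := by
    rintro _ ⟨w, hw, rfl⟩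
    refine ⟨mem_V (hHW hw), ?_⟩
    have h5 : V W ⊔ zpowers (f x) ≤ centralizer {f w} := by
      refine sup_le ?_ ?_
      · intro u hu
        rw [mem_centralizer_singleton_iff]
        exact h.V_facts.2.1 _ hu _ (mem_V (hHW hw))
      · rw [zpowers_le, mem_centralizer_singleton_iff]
        have h6 := hker.2 (hH w hw)
        rw [map_commutatorElement, commutatorElement_eq_one_iff_mul_comm] at h6
        exact h6.symm
    exact mem_centralizer_iff.2 fun u hu => mem_centralizer_singleton_iff.1 (h5 hu)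
  have h5 : Nat.card (H.map f) ≤ 2 ^ 4 := (card_le_of_le h4).trans (h2.trans h3)
  -- back to `T`
  have h6 : Nat.card H ≤ Nat.card (H.map f) * Nat.card (Zu T 3) := by
    have e : H ≤ (H.map f).comap f := le_comap_map f H
    refine (card_le_of_le e).trans ?_
    have h7 := ((H.map f).comap f).card_mul_index
    rw [Subgroup.index_comap_of_surjective _ (QuotientGroup.mk'_surjective _)] at h7
    have h8 := (H.map f).card_mul_index
    have h9 := (Zu T 3).card_mul_index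
    have h10 : (Zu T 3).index = Nat.card (T ⧸ Zu T 3) := rfl
    rw [h10, ← h8, ← h7] at h9
    have h11 : 0 < (H.map f).index := Nat.pos_of_ne_zero Subgroup.index_ne_zero_of_finite
    apply le_of_eq
    apply Nat.eq_of_mul_eq_mul_right h11
    rw [← h9]; ring
  rw [h.cardZ 3 (by norm_num)] at h6
  calc Nat.card H ≤ Nat.card (H.map f) * 2 ^ 3 := h6
    _ ≤ 2 ^ 4 * 2 ^ 3 := Nat.mul_le_mul_right _ h5
    _ = 2 ^ 7 := by norm_num

theorem caseB (h : Hyp T W) {Q : Subgroup T} {c v z : T} {n : ℕ} (hQ : GQ Q c v z n) {a : ℕ}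
    (hcard : Nat.card Q = 2 ^ (a + 3))
    (hQW : ¬ Q ≤ W) (hconj : ∀ t : T, (∀ x ∈ Q, t * x * t⁻¹ ∈ Q) ∨
      ∀ x ∈ Q, ∀ y ∈ Q, x * (t * y * t⁻¹) = (t * y * t⁻¹) * x) : False := by
  classical
  have := h.fin
  have hWn := h.normalW
  have hZn : (Zu T 3).Normal := inferInstance
  obtain ⟨x, hxQ, hxW⟩ := SetLike.not_le_iff_exists.1 hQW
  set f := QuotientGroup.mk' (Zu T 3) with hf
  have hker : ∀ {t : T}, f t = 1 ↔ t ∈ Zu T 3 := fun {t} => QuotientGroup.eq_one_iff t
  set W0 : Subgroup T := W ⊓ normalizer (Q : Set T) with hW0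
  have hW0W : W0 ≤ W := inf_le_left
  have hmemW0 : ∀ w ∈ W, (∀ x ∈ Q, w * x * w⁻¹ ∈ Q) → w ∈ W0 := fun w hw h1 =>
    ⟨hw, Subgroup.mem_normalizer_fintype h1⟩
  have hW0c : ∀ w ∈ W0, ⁅w, x⁆ ∈ Q ⊓ W := by
    rintro w ⟨hw, hwn⟩
    refine Subgroup.mem_inf.2 ⟨?_, ?_⟩
    · have h1 := (mem_normalizer_iff.1 hwn x).1 hxQ
      have e : ⁅w, x⁆ = w * x * w⁻¹ * x⁻¹ := rfl
      rw [e]
      exact mul_mem h1 (inv_mem hxQ)
    · have e : ⁅w, x⁆ = w * (x * w⁻¹ * x⁻¹) := by rw [commutatorElement_def]; group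
      rw [e]
      exact mul_mem hw (hWn.conj_mem _ (inv_mem hw) x)
  -- the order of `W0`
  have hD2 : ∀ d ∈ Q ⊓ W, f d * f d = 1 := by
    rintro d ⟨-, hd⟩
    rw [← map_mul, hker, ← pow_two]
    exact h.sq_W_mem hd
  have hcase := image_cases hQ hcard (D := Q ⊓ W) inf_le_left f hD2
  let H : Subgroup T := W0 ⊓ (centralizer {f x}).comap f
  have hHc : Nat.card H ≤ 2 ^ 7 := by
    apply card_cent_le h hxW (H := H) (inf_le_left.trans hW0W)
    rintro w ⟨-, hw⟩
    rw [← hker, map_commutatorElement, commutatorElement_eq_one_iff_mul_comm]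
    exact mem_centralizer_singleton_iff.1 hw
  have hHi : (H.subgroupOf W0).index ≤ Nat.card ((Q ⊓ W).map f) := by
    apply RuBase.index_le_of_fun (H.subgroupOf W0) (fun w : ↥W0 => (⟨f ⁅(w : T), x⁆, mem_map_of_mem f (hW0c w w.2)⟩ :
      ↥((Q ⊓ W).map f)))
    intro w w' hww
    have h1 : f ⁅(w : T), x⁆ = f ⁅(w' : T), x⁆ := congrArg (fun y : ↥((Q ⊓ W).map f) => (y : T ⧸ Zu T 3)) hww
    rw [mem_subgroupOf]
    refine Subgroup.mem_inf.2 ⟨mul_mem (inv_mem w.2) w'.2, ?_⟩
    rw [mem_comap, mem_centralizer_singleton_iff]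
    rw [map_commutatorElement, map_commutatorElement, commutatorElement_def, commutatorElement_def] at h1
    have h2 := mul_right_cancel h1
    rw [Subgroup.coe_mul, Subgroup.coe_inv, map_mul, map_inv]
    calc (f w)⁻¹ * f w' * f x = (f w)⁻¹ * (f w' * f x * (f w')⁻¹) * f w' := by group
      _ = (f w)⁻¹ * (f w * f x * (f w)⁻¹) * f w' := by rw [h2]
      _ = f x * ((f w)⁻¹ * f w') := by group
  have hHW0 : H ≤ W0 := inf_le_left
  have hW0card : Nat.card W0 ≤ 2 ^ 7 * Nat.card ((Q ⊓ W).map f) := by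
    have h1 := (H.subgroupOf W0).card_mul_index
    rw [Nat.card_congr (Subgroup.subgroupOfEquivOfLe hHW0).toEquiv] at h1
    rw [← h1]
    exact Nat.mul_le_mul hHc hHi
  set m := (W0.subgroupOf W).index with hm
  have hm1 : Nat.card W0 * m = 2 ^ 11 := by
    have h1 := (W0.subgroupOf W).card_mul_index
    rwa [Nat.card_congr (Subgroup.subgroupOfEquivOfLe hW0W).toEquiv, h.orders.2.2.2] at h1
  -- the product of the conjugates
  letI := Fintype.ofFinite (↥W ⧸ W0.subgroupOf W)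
  let F : ↥W ⧸ W0.subgroupOf W → Subgroup T := fun q => Q.map (MulAut.conj ((q.out : ↥W) : T)).toMonoidHom
  have hFc : ∀ q, Nat.card (F q) = 2 * 2 ^ (a + 2) := by
    intro q
    rw [Subgroup.card_map_of_injective (MulAut.conj _).injective, hcard]
    ring
  have hFcomm : ∀ q q', q ≠ q' → ∀ x ∈ F q, ∀ y ∈ F q', x * y = y * x := by
    rintro q q' hne _ ⟨x, hx, rfl⟩ _ ⟨y, hy, rfl⟩
    set u : T := ((q.out : ↥W) : T) with hu
    set u' : T := ((q'.out : ↥W) : T) with hu'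
    have h1 : ¬ ∀ x ∈ Q, (u⁻¹ * u') * x * (u⁻¹ * u')⁻¹ ∈ Q := by
      intro h2
      apply hne
      rw [← Quotient.out_eq q, ← Quotient.out_eq q']
      apply QuotientGroup.eq.2
      rw [mem_subgroupOf]
      exact hmemW0 _ (mul_mem (inv_mem q.out.2) q'.out.2) h2
    have h2 := ((hconj (u⁻¹ * u')).resolve_left h1) x hx y hy
    show u * x * u⁻¹ * (u' * y * u'⁻¹) = u' * y * u'⁻¹ * (u * x * u⁻¹)
    calc u * x * u⁻¹ * (u' * y * u'⁻¹) = u * (x * ((u⁻¹ * u') * y * (u⁻¹ * u')⁻¹)) * u⁻¹ := by group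
      _ = u * (((u⁻¹ * u') * y * (u⁻¹ * u')⁻¹) * x) * u⁻¹ := by rw [h2]
      _ = u' * y * u'⁻¹ * (u * x * u⁻¹) := by group
  have hFZ : ∀ q, ∃ z, ∀ x ∈ F q, (∀ y ∈ F q, x * y = y * x) → x = 1 ∨ x = z := by
    intro q
    refine ⟨((q.out : ↥W) : T) * z * ((q.out : ↥W) : T)⁻¹, ?_⟩
    rintro _ ⟨x, hx, rfl⟩ hxy
    set u : T := ((q.out : ↥W) : T) with hu
    show u * x * u⁻¹ = 1 ∨ u * x * u⁻¹ = u * z * u⁻¹
    have h1 : x = 1 ∨ x = z := by
      apply gq_center hQ hx
      intro y hy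
      have h2 : u * x * u⁻¹ * (u * y * u⁻¹) = u * y * u⁻¹ * (u * x * u⁻¹) := hxy _ ⟨y, hy, rfl⟩
      have h3 : u * (x * y) * u⁻¹ = u * (y * x) * u⁻¹ := by
        calc u * (x * y) * u⁻¹ = u * x * u⁻¹ * (u * y * u⁻¹) := by group
          _ = u * y * u⁻¹ * (u * x * u⁻¹) := h2
          _ = u * (y * x) * u⁻¹ := by group
      exact mul_left_cancel (mul_right_cancel h3)
    rcases h1 with rfl | rfl
    · left; group
    · right; rfl
  have hne : (Finset.univ : Finset (↥W ⧸ W0.subgroupOf W)).Nonempty := ⟨QuotientGroup.mk 1, Finset.mem_univ _⟩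
  have hP := prod_bound F hFc hFcomm hFZ Finset.univ hne
  have hcardm : (Finset.univ : Finset (↥W ⧸ W0.subgroupOf W)).card = m := by
    rw [Finset.card_univ, hm, Subgroup.index, Nat.card_eq_fintype_card]
  rw [hcardm] at hP
  have hPle : (⨆ i ∈ (Finset.univ : Finset (↥W ⧸ W0.subgroupOf W)), F i) ≤ Q ⊔ W := by
    refine iSup₂_le fun q _ => ?_
    rintro _ ⟨y, hy, rfl⟩
    set u : T := ((q.out : ↥W) : T) with hu
    have huW : u ∈ W := q.out.2
    have e : (MulAut.conj u).toMonoidHom y = u * (y * u⁻¹ * y⁻¹) * y := by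
      show u * y * u⁻¹ = _
      group
    rw [e]
    exact mul_mem (mem_sup_right (mul_mem huW (hWn.conj_mem _ (inv_mem huW) y))) (mem_sup_left hy)
  have hP2 := hP.trans (card_le_of_le hPle)
  -- the order of `Q W`
  set σ := W.relIndex Q with hσ
  have hQWc : Nat.card ↥(Q ⊔ W) = 2 ^ 11 * σ := by
    have h1 : Nat.card W * W.relIndex (Q ⊔ W) = Nat.card ↥(Q ⊔ W) := by
      have h5 := Subgroup.relIndex_mul_relIndex ⊥ W (Q ⊔ W) bot_le le_sup_right
      rwa [Subgroup.relIndex_bot_left, Subgroup.relIndex_bot_left] at h5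
    rw [Subgroup.relIndex_sup_right, h.orders.2.2.2] at h1
    exact h1.symm
  have hσ1 : σ ≠ 1 := by
    rw [hσ, Ne, Subgroup.relIndex_eq_one]
    exact hQW
  have hDc : Nat.card ↥(Q ⊓ W) * σ = 2 ^ (a + 3) := by
    have e : Nat.card (W.subgroupOf Q) = Nat.card ↥(Q ⊓ W) := by
      have := Nat.card_congr (Subgroup.equivMapOfInjective (W.subgroupOf Q) Q.subtype Q.subtype_injective).toEquiv
      rwa [Subgroup.subgroupOf_map_subtype, inf_comm] at this
    rw [← e, ← hcard]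
    exact (W.subgroupOf Q).card_mul_index
  have hσ0 : σ ≠ 0 := by
    intro h0
    rw [h0, mul_zero] at hDc
    have : 0 < 2 ^ (a + 3) := by positivity
    omega
  have hσ8 : σ ≤ 8 := by
    have h1 : σ ∣ W.index := Subgroup.relIndex_dvd_index_of_normal W Q
    rw [h.orders.1] at h1
    exact Nat.le_of_dvd (by norm_num) h1
  rw [hQWc] at hP2
  have hk4 : 4 ≤ 2 ^ (a + 2) := by
    calc 4 = 2 ^ 2 := by norm_num
      _ ≤ 2 ^ (a + 2) := Nat.pow_le_pow_right (by norm_num) (by omega)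
  set k := 2 ^ (a + 2) with hk
  have hk3 : 2 ^ (a + 3) = 2 * k := by rw [hk]; ring
  rw [hk3] at hDc
  rcases hcase with h1 | ⟨h1, h2⟩
  · -- `m ≥ 8`
    have hm8 : 8 ≤ m := by
      by_contra hcon
      have h3 : Nat.card W0 ≤ 2 ^ 7 * 2 := hW0card.trans (Nat.mul_le_mul_left _ h1)
      have h4 : Nat.card W0 * m ≤ (2 ^ 7 * 2) * 7 := Nat.mul_le_mul h3 (by omega)
      rw [hm1] at h4
      norm_num at h4
    have h3 : 4 ^ 8 ≤ k ^ m := (Nat.pow_le_pow_left hk4 8).trans (Nat.pow_le_pow_right (by omega) hm8)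
    have h4 : 2 * 4 ^ 8 ≤ 2 ^ 11 * σ := (Nat.mul_le_mul_left 2 h3).trans hP2
    norm_num at h4
    omega
  · have hm4 : 4 ≤ m := by
      by_contra hcon
      have h3 : Nat.card W0 ≤ 2 ^ 7 * 4 := hW0card.trans (Nat.mul_le_mul_left _ h1)
      have h4 : Nat.card W0 * m ≤ (2 ^ 7 * 4) * 3 := Nat.mul_le_mul h3 (by omega)
      rw [hm1] at h4
      norm_num at h4
    have h5 : 4 * σ ≤ k := by
      have : 8 * σ ≤ 2 * k := by rw [← hDc]; exact Nat.mul_le_mul_right _ h2
      omega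
    have h3 : (4 * σ) ^ 4 ≤ k ^ m := (Nat.pow_le_pow_left h5 4).trans (Nat.pow_le_pow_right (by omega) hm4)
    have h4 : 2 * (4 * σ) ^ 4 ≤ 2 ^ 11 * σ := (Nat.mul_le_mul_left 2 h3).trans hP2
    have h6 : σ = 2 ∨ σ = 3 ∨ σ = 4 ∨ σ = 5 ∨ σ = 6 ∨ σ = 7 ∨ σ = 8 := by omega
    rcases h6 with h6 | h6 | h6 | h6 | h6 | h6 | h6 <;> rw [h6] at h4 <;> norm_num at h4

/-- **B1.** -/
theorem no_quat (h : Hyp T W) {Q : Subgroup T} (hQ : IsGQ Q) (hconj : ∀ t : T, (∀ x ∈ Q, t * x * t⁻¹ ∈ Q) ∨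
      ∀ x ∈ Q, ∀ y ∈ Q, x * (t * y * t⁻¹) = (t * y * t⁻¹) * x) : False := by
  obtain ⟨a, ha⟩ := card_gq hQ
  obtain ⟨c, v, z, n, hG⟩ := Cfsg.Agent.Cit.exists_gq hQ
  by_cases hQW : Q ≤ W
  · refine caseA h hG ?_ hQW hconj
    rw [ha]
    calc 8 = 2 ^ 3 := by norm_num
      _ ≤ 2 ^ (a + 3) := Nat.pow_le_pow_right (by norm_num) (by omega)
  · exact caseB h hG ha hQW hconj

end Cfsg.Agent.H303.RsQuat
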