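import Cfsg.Agent.H303.RsQuatB

set_option autoImplicit false
set_option linter.style.haveILetI false
set_option linter.unnecessarySimpa false

/-! 2-groups of Rudvalis type: generalised quaternion subgroups of `T / Z_1` whose conjugates are equal to it or
commute with it. The case `Q ≤ W`. -/

namespace Cfsg.Agent.H303.RsQuat

open Subgroup
open scoped commutatorElement
open Cfsg.Agent.Cit (GQ IsGQ)
open Cfsg.Agent.H303.RuMain Cfsg.Agent.H303.RuMain.Hyp

local notation "Zu" => Subgroup.upperCentralSeries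

theorem sup_bound' {G : Type*} [Group G] [Finite G] {Q B : Subgroup G} {m : ℕ} (h : Nat.card ↥(Q ⊓ B) ≤ m) :
    Nat.card B * Nat.card Q ≤ m * Nat.card ↥(Q ⊔ B) := by
  have h1 : B.relIndex Q ≤ B.relIndex (Q ⊔ B) :=
    Subgroup.relIndex_le_of_le_right le_sup_left (Subgroup.index_ne_zero_of_finite (H := B.subgroupOf (Q ⊔ B)))
  have h2 : Nat.card ↥(Q ⊓ B) * B.relIndex Q = Nat.card Q := by
    have e : Nat.card (B.subgroupOf Q) = Nat.card ↥(Q ⊓ B) := by
      have := Nat.card_congr (Subgroup.equivMapOfInjective (B.subgroupOf Q) Q.subtype Q.subtype_injective).toEquiv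
      rwa [Subgroup.subgroupOf_map_subtype, inf_comm] at this
    rw [← e]
    exact (B.subgroupOf Q).card_mul_index
  have h3 : Nat.card B * B.relIndex (Q ⊔ B) = Nat.card ↥(Q ⊔ B) := by
    have h5 := Subgroup.relIndex_mul_relIndex ⊥ B (Q ⊔ B) bot_le le_sup_right
    rwa [Subgroup.relIndex_bot_left, Subgroup.relIndex_bot_left] at h5
  calc Nat.card B * Nat.card Q = Nat.card B * (Nat.card ↥(Q ⊓ B) * B.relIndex Q) := by rw [h2]
    _ ≤ Nat.card B * (m * B.relIndex (Q ⊔ B)) := Nat.mul_le_mul_left _ (Nat.mul_le_mul h h1)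
    _ = m * Nat.card ↥(Q ⊔ B) := by rw [← h3]; ring

variable {T : Type*} [Group T] {W : Subgroup T}

/-- a normal subgroup of order at least 16 contains `Z_4` -/
theorem Z4_le (h : Hyp T W) {N : Subgroup T} (hN : N.Normal) (hc : 16 ≤ Nat.card N) : Zu T 4 ≤ N := by
  have := h.fin
  rcases RuBase.le_or_card h.two N 4 with h1 | h1
  · exact (Subgroup.eq_of_le_of_card_ge h1 (by rw [h.cardZ 4 (by norm_num)]; omega)).ge
  · have h2 : N ⊓ Zu T 4 = Zu T 4 := Subgroup.eq_of_le_of_card_ge inf_le_right (by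
      rw [h.cardZ 4 (by norm_num)]; exact h1)
    exact inf_eq_right.1 h2

theorem Z13 : Zu T 1 ≤ Zu T 3 := le21.trans le32

theorem quotA (h : Hyp T W) {Q : Subgroup (T ⧸ Zu T 1)} {c v z : T ⧸ Zu T 1} {n : ℕ} (hQ : GQ Q c v z n)
    (hcard : 8 ≤ Nat.card Q) (hQW : Q.comap (QuotientGroup.mk' (Zu T 1)) ≤ W)
    (hconj : ∀ t : T ⧸ Zu T 1, (∀ x ∈ Q, t * x * t⁻¹ ∈ Q) ∨
      ∀ x ∈ Q, ∀ y ∈ Q, x * (t * y * t⁻¹) = (t * y * t⁻¹) * x) : False := by
  have := h.fin
  have hWn := h.normalW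
  have hZn : (Zu T 3).Normal := inferInstance
  set π := QuotientGroup.mk' (Zu T 1) with hπ
  have hsurj : Function.Surjective π := QuotientGroup.mk'_surjective _
  have hker : ∀ {t : T}, π t = 1 ↔ t ∈ Zu T 1 := fun {t} => QuotientGroup.eq_one_iff t
  set R := Q.comap π with hR
  have memR : ∀ {x : T}, x ∈ R ↔ π x ∈ Q := fun {x} => Iff.rfl
  have hzc : ∀ r ∈ Zu T 3, ∀ w ∈ W, r * w = w * r := fun r hr w hw => h.comm_Z3_W hr hw
  obtain ⟨c', hc'⟩ := hsurj c
  obtain ⟨v', hv'⟩ := hsurj v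
  have hcR : c' ∈ R := by rw [memR, hc']; exact hQ.c_mem
  have hvR : v' ∈ R := by rw [memR, hv']; exact hQ.v_mem
  -- `R` is normal in `W`
  have hn : ∀ w ∈ W, ∀ x ∈ R, w * x * w⁻¹ ∈ R := by
    intro w hw x hx
    rcases hconj (π w) with h1 | h1
    · rw [memR, map_mul, map_mul, map_inv]
      exact h1 _ hx
    · exfalso
      apply hQ.not_comm
      have h2 := h1 v hQ.v_mem c hQ.c_mem
      have h3 := h.comm_W_mem hw (hQW hcR)
      have e : π w * c * (π w)⁻¹ = π ⁅w, c'⁆ * c := by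
        rw [← hc', commutatorElement_def]; simp only [map_mul, map_inv]; group
      have e2 : v * π ⁅w, c'⁆ = π ⁅w, c'⁆ * v := by
        rw [← hv', ← map_mul, ← map_mul, hzc _ h3 v' (hQW hvR)]
      rw [e, ← mul_assoc, e2, mul_assoc, mul_assoc] at h2
      exact mul_left_cancel h2
  have h1z : ∀ x ∈ R, x ∈ Zu T 3 → π x = 1 ∨ π x = z := by
    intro x hx hx3
    by_cases h1 : π x = 1
    · exact Or.inl h1
    · right
      refine hQ.eq_z hx ?_ h1
      rw [← map_mul, ← pow_two, h.sq_Z3 x hx3, map_one]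
  have hc : ∀ w ∈ W, ∀ x ∈ R, ⁅x, w⁆ ∈ R ∧ ⁅x, w⁆ ∈ Zu T 3 := by
    intro w hw x hx
    constructor
    · have e : ⁅x, w⁆ = x * (w * x * w⁻¹)⁻¹ := by rw [commutatorElement_def]; group
      rw [e]
      exact mul_mem hx (inv_mem (hn w hw x hx))
    · exact h.comm_W_mem (hQW hx) hw
  -- the element `z0` of `Z_3` above `z`
  set z0 := ⁅v', c'⁆ with hz0
  have hz03 : z0 ∈ Zu T 3 := h.comm_W_mem (hQW hvR) (hQW hcR)
  have hz0R : z0 ∈ R := (hc c' (hQW hcR) v' hvR).1
  have hπz0 : π z0 = z := (h1z z0 hz0R hz03).resolve_left (by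
    rw [hz0, map_commutatorElement, hv', hc', commutatorElement_eq_one_iff_mul_comm]
    exact hQ.not_comm)
  -- `K`
  set K : Subgroup T := (zpowers z).comap π with hK
  have memK : ∀ {x : T}, x ∈ K ↔ π x = 1 ∨ π x = z := by
    intro x
    rw [hK, mem_comap]
    constructor
    · rintro ⟨k, hk⟩
      have hk' : z ^ k = π x := hk
      have hzz := hQ.z_mul
      rcases Int.even_or_odd k with ⟨m, rfl⟩ | ⟨m, rfl⟩
      · left
        rw [← hk', ← two_mul, zpow_mul, zpow_two, hzz, one_zpow]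
      · right
        rw [← hk', zpow_add, zpow_mul, zpow_two, hzz, one_zpow, zpow_one, one_mul]
    · rintro (h1 | h1) <;> rw [h1]
      · exact one_mem _
      · exact mem_zpowers z
  have hK3 : K ≤ Zu T 3 := by
    intro x hx
    rcases memK.1 hx with h1 | h1
    · exact Z13 (hker.1 h1)
    · have h2 : z0⁻¹ * x ∈ Zu T 1 := by rw [← hker, map_mul, map_inv, hπz0, h1, inv_mul_cancel]
      have e : x = z0 * (z0⁻¹ * x) := by group
      rw [e]
      exact mul_mem hz03 (Z13 h2)
  have hKR : K ≤ R := by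
    intro x hx
    rw [memR]
    rcases memK.1 hx with h1 | h1 <;> rw [h1]
    · exact one_mem _
    · exact hQ.z_mem
  have hcardcomap : ∀ P : Subgroup (T ⧸ Zu T 1), Nat.card (P.comap π) = 2 * Nat.card P := by
    intro P
    have h1 := (P.comap π).card_mul_index
    rw [Subgroup.index_comap_of_surjective _ hsurj] at h1
    have h2 := P.card_mul_index
    have h3 := (Zu T 1).card_mul_index
    have h4 : (Zu T 1).index = Nat.card (T ⧸ Zu T 1) := rfl
    rw [h4, ← h2, ← h1, h.cardZ 1 (by norm_num)] at h3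
    have h5 : 0 < P.index := Nat.pos_of_ne_zero Subgroup.index_ne_zero_of_finite
    apply Nat.eq_of_mul_eq_mul_right h5
    rw [← h3]; ring
  have hcardK : Nat.card K = 4 := by
    rw [hK, hcardcomap, Nat.card_zpowers, hQ.orderOf_z]
  have hcardR : 16 ≤ Nat.card R := by
    rw [hR, hcardcomap]; omega
  have hcenR : ∀ x ∈ R, (∀ y ∈ R, ⁅x, y⁆ ∈ Zu T 1) → x ∈ K := by
    intro x hx hxy
    rw [memK]
    apply gq_center hQ hx
    intro y hy
    obtain ⟨y', rfl⟩ := hsurj y
    have h2 := hker.2 (hxy y' hy)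
    rwa [map_commutatorElement, commutatorElement_eq_one_iff_mul_comm] at h2
  have hZ1c : ∀ y ∈ Zu T 1, ∀ t : T, t * y * t⁻¹ = y := by
    intro y hy t
    rw [mul_inv_eq_iff_eq_mul]
    exact (mem_Z1 hy t).symm
  -- the alternative in `T`
  have halt : ∀ t : T, (∀ x ∈ R, t * x * t⁻¹ ∈ R) ∨ ∀ x ∈ R, ∀ y ∈ R, ⁅x, t * y * t⁻¹⁆ ∈ Zu T 1 := by
    intro t
    rcases hconj (π t) with h1 | h1
    · left
      intro x hx
      rw [memR, map_mul, map_mul, map_inv]
      exact h1 _ hx
    · right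
      intro x hx y hy
      rw [← hker, map_commutatorElement, commutatorElement_eq_one_iff_mul_comm, map_mul, map_mul, map_inv]
      exact h1 _ hx _ hy
  -- same `K` implies same `R`
  have same : ∀ t : T, (∀ x ∈ K, t * x * t⁻¹ ∈ K) → ∀ x ∈ R, t * x * t⁻¹ ∈ R := by
    intro t htK
    refine (halt t).resolve_right ?_
    intro ht
    set R' : Subgroup T := R.map (MulAut.conj t).toMonoidHom with hR'
    have memR' : ∀ x ∈ R', ∃ y ∈ R, x = t * y * t⁻¹ := by
      rintro _ ⟨y, hy, rfl⟩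
      exact ⟨y, hy, rfl⟩
    have hRW' : R' ≤ W := by
      intro x hx
      obtain ⟨y, hy, rfl⟩ := memR' x hx
      exact hWn.conj_mem y (hQW hy) t
    have hcardR' : Nat.card R' = Nat.card R := Subgroup.card_map_of_injective (MulAut.conj t).injective
    have hcK : ∀ w ∈ W, ∀ x ∈ R, ⁅x, w⁆ ∈ K := fun w hw x hx =>
      memK.2 (h1z _ (hc w hw x hx).1 (hc w hw x hx).2)
    have hcK' : ∀ w ∈ W, ∀ x ∈ R', ⁅x, w⁆ ∈ K := by
      intro w hw x hx
      obtain ⟨y, hy, rfl⟩ := memR' x hx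
      have hw' : t⁻¹ * w * t ∈ W := by simpa using hWn.conj_mem w hw t⁻¹
      have e : ⁅t * y * t⁻¹, w⁆ = t * ⁅y, t⁻¹ * w * t⁆ * t⁻¹ := by simp only [commutatorElement_def]; group
      rw [e]
      exact htK _ (hcK _ hw' y hy)
    obtain ⟨c0, hc0, hc0K⟩ : ∃ c0 ∈ Zu T 3, c0 ∉ K := by
      by_contra hcon
      push Not at hcon
      have h2 := Subgroup.card_le_of_le (show Zu T 3 ≤ K from fun x hx => hcon x hx)
      rw [h.cardZ 3 (by norm_num), hcardK] at h2
      omega
    let S1 : Subgroup T :=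
      { carrier := {a | a ∈ W ∧ (∀ w ∈ W, ⁅a, w⁆ ∈ K) ∧ a ^ 2 ∈ K}
        one_mem' := ⟨one_mem _, fun w _ => by rw [commutatorElement_one_left]; exact one_mem _, by simp [one_mem]⟩
        mul_mem' := by
          rintro a b ⟨ha1, ha2, ha3⟩ ⟨hb1, hb2, hb3⟩
          refine ⟨mul_mem ha1 hb1, ?_, ?_⟩
          · intro w hw
            have h2 := hzc _ (h.comm_W_mem hb1 hw) a ha1
            have e : ⁅a * b, w⁆ = a * ⁅b, w⁆ * a⁻¹ * ⁅a, w⁆ := by simp only [commutatorElement_def]; group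
            rw [e, ← h2, mul_inv_cancel_right]
            exact mul_mem (hb2 w hw) (ha2 w hw)
          · rw [sq_mul_W h ha1 hb1]
            exact mul_mem (mul_mem ha3 hb3) (ha2 b hb1)
        inv_mem' := by
          rintro a ⟨ha1, ha2, ha3⟩
          refine ⟨inv_mem ha1, ?_, ?_⟩
          · intro w hw
            have h2 := hzc _ (h.comm_W_mem ha1 hw) a ha1
            have e : ⁅a⁻¹, w⁆ = (a⁻¹ * ⁅a, w⁆ * a)⁻¹ := by simp only [commutatorElement_def]; group
            rw [e, mul_assoc, h2, inv_mul_cancel_left]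
            exact inv_mem (ha2 w hw)
          · rw [inv_pow]; exact inv_mem ha3 }
    have hRS : R ≤ S1 := by
      intro x hx
      exact ⟨hQW hx, fun w hw => hcK w hw x hx, memK.2 (h1z _ (pow_mem hx 2) (h.sq_W_mem (hQW hx)))⟩
    have hRS' : R' ≤ S1 := by
      intro x hx
      refine ⟨hRW' hx, fun w hw => hcK' w hw x hx, ?_⟩
      obtain ⟨y, hy, rfl⟩ := memR' x hx
      have e : (t * y * t⁻¹) ^ 2 = t * y ^ 2 * t⁻¹ := by rw [pow_two, pow_two]; group
      rw [e]
      exact htK _ (memK.2 (h1z _ (pow_mem hy 2) (h.sq_W_mem (hQW hy))))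
    have hZS : Zu T 3 ≤ S1 := by
      intro x hx
      refine ⟨h.Z3_le_W hx, ?_, ?_⟩
      · intro w hw
        rw [commutatorElement_eq_one_iff_mul_comm.2 (hzc x hx w hw)]
        exact one_mem _
      · rw [h.sq_Z3 x hx]; exact one_mem _
    have hAS : R ⊔ (R' ⊔ Zu T 3) ≤ S1 := sup_le hRS (sup_le hRS' hZS)
    have h2 : Nat.card ↥(R' ⊓ Zu T 3) ≤ 4 := by
      rw [← hcardK]
      apply Subgroup.card_le_of_le
      rintro x ⟨hx1, hx2⟩
      obtain ⟨y, hy, rfl⟩ := memR' x hx1
      have hy3 : y ∈ Zu T 3 := by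
        have := hZn.conj_mem _ hx2 t⁻¹
        have e : t⁻¹ * (t * y * t⁻¹) * (t⁻¹)⁻¹ = y := by group
        rwa [e] at this
      exact htK y (memK.2 (h1z y hy hy3))
    have h3 := sup_bound' h2
    rw [h.cardZ 3 (by norm_num), hcardR'] at h3
    have h4 : Nat.card ↥(R ⊓ (R' ⊔ Zu T 3)) ≤ 4 := by
      rw [← hcardK]
      apply Subgroup.card_le_of_le
      rintro x ⟨hx1, hx2⟩
      apply hcenR x hx1
      intro y hy
      have h5 : R' ⊔ Zu T 3 ≤ (centralizer {π y}).comap π := by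
        refine sup_le ?_ ?_
        · intro u hu
          rw [mem_comap, mem_centralizer_singleton_iff]
          obtain ⟨u', hu', rfl⟩ := memR' u hu
          have h6 := hker.2 (ht y hy u' hu')
          rw [map_commutatorElement, commutatorElement_eq_one_iff_mul_comm] at h6
          exact h6.symm
        · intro u hu
          rw [mem_comap, mem_centralizer_singleton_iff, ← map_mul, ← map_mul, hzc u hu y (hQW hy)]
      have h6 := h5 hx2
      rw [mem_comap, mem_centralizer_singleton_iff] at h6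
      rw [← hker, map_commutatorElement, commutatorElement_eq_one_iff_mul_comm]
      exact h6
    have h5 := sup_bound' h4
    refine no_rad h hc0 hc0K (A := R ⊔ (R' ⊔ Zu T 3)) (fun x hx => (hAS hx).1) (le_sup_right.trans le_sup_right) ?_
      (fun a ha => (hAS ha).2.2) (fun a ha => (hAS ha).2.1)
    have h6 : 32 ≤ Nat.card ↥(R' ⊔ Zu T 3) := by omega
    have h7 : 32 * 16 ≤ Nat.card ↥(R' ⊔ Zu T 3) * Nat.card R := Nat.mul_le_mul h6 hcardR
    omega
  -- a conjugate of `R`
  obtain ⟨t, ht⟩ : ∃ t : T, ¬ ∀ x ∈ R, t * x * t⁻¹ ∈ R := by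
    by_contra hcon
    push Not at hcon
    have hRn : R.Normal := ⟨fun x hx t => hcon t x hx⟩
    have h2 := h.Z3_le hRn (by omega)
    have h3 : Zu T 3 ≤ K := fun x hx => memK.2 (h1z x (h2 hx) hx)
    have h4 := Subgroup.card_le_of_le h3
    rw [h.cardZ 3 (by norm_num), hcardK] at h4
    omega
  have htc := (halt t).resolve_left ht
  have hcz : ∀ s : T, ⁅s, z0⁆ ∈ Zu T 2 := by
    intro s
    rw [← commutatorElement_inv]
    exact inv_mem (comm_mem hz03 s)
  have hnK : ∀ s : T, ⁅s, z0⁆ ∈ Zu T 1 → ∀ x ∈ K, s * x * s⁻¹ ∈ K := by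
    intro s hs x hx
    have hsz : π s * z * (π s)⁻¹ = z := by
      have h2 := hker.2 hs
      rw [map_commutatorElement, hπz0, commutatorElement_def] at h2
      exact mul_inv_eq_one.1 h2
    rw [memK, map_mul, map_mul, map_inv]
    rcases memK.1 hx with h1 | h1 <;> rw [h1]
    · left; rw [mul_one, mul_inv_cancel]
    · right; exact hsz
  have htz : ⁅t, z0⁆ ∉ Zu T 1 := fun h1 => ht (same t (hnK t h1))
  -- every element normalises `R` or takes it to `R'`
  have hdich : ∀ s : T, (∀ x ∈ R, s * x * s⁻¹ ∈ R) ∨ ∀ x ∈ R, (t⁻¹ * s) * x * (t⁻¹ * s)⁻¹ ∈ R := by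
    intro s
    by_cases hs : ⁅s, z0⁆ ∈ Zu T 1
    · exact Or.inl (same s (hnK s hs))
    · right
      apply same
      apply hnK
      have h1 : ⁅t, z0⁆⁻¹ * ⁅s, z0⁆ ∈ Zu T 1 := by
        rw [h.mul2 (inv_mem (hcz t)) (hcz s), inv_mem_iff]
        exact iff_of_false htz hs
      have e : ⁅t⁻¹ * s, z0⁆ = t⁻¹ * (⁅s, z0⁆ * ⁅t, z0⁆⁻¹) * t := by
        simp only [commutatorElement_def]; group
      have h2 : ⁅s, z0⁆ * ⁅t, z0⁆⁻¹ ∈ Zu T 1 := by
        have e2 : ⁅s, z0⁆ * ⁅t, z0⁆⁻¹ = ⁅t, z0⁆ * (⁅t, z0⁆⁻¹ * ⁅s, z0⁆) * ⁅t, z0⁆⁻¹ := by group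
        rw [e2, hZ1c _ h1]
        exact h1
      have h3 : t⁻¹ * (⁅s, z0⁆ * ⁅t, z0⁆⁻¹) * t = t⁻¹ * (⁅s, z0⁆ * ⁅t, z0⁆⁻¹) * (t⁻¹)⁻¹ := by rw [inv_inv]
      rw [e, h3, hZ1c _ h2]
      exact h2
  set R' : Subgroup T := R.map (MulAut.conj t).toMonoidHom with hR'
  have memR' : ∀ x ∈ R', ∃ y ∈ R, x = t * y * t⁻¹ := by
    rintro _ ⟨y, hy, rfl⟩
    exact ⟨y, hy, rfl⟩
  have mkR' : ∀ y ∈ R, t * y * t⁻¹ ∈ R' := fun y hy => ⟨y, hy, rfl⟩
  set N : Subgroup T := R ⊔ R' with hN
  have hNn : N.Normal := by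
    refine ⟨fun x hx s => ?_⟩
    have h1 : N ≤ N.comap (MulAut.conj s).toMonoidHom := by
      have h2 : ∀ s : T, ∀ x ∈ R, s * x * s⁻¹ ∈ N := by
        intro s x hx
        rcases hdich s with h3 | h3
        · exact mem_sup_left (h3 x hx)
        · have h4 := mkR' _ (h3 x hx)
          have e : t * (t⁻¹ * s * x * (t⁻¹ * s)⁻¹) * t⁻¹ = s * x * s⁻¹ := by group
          rw [e] at h4
          exact mem_sup_right h4
      refine sup_le (fun x hx => h2 s x hx) ?_
      intro x hx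
      obtain ⟨y, hy, rfl⟩ := memR' x hx
      show s * (t * y * t⁻¹) * s⁻¹ ∈ N
      have e : s * (t * y * t⁻¹) * s⁻¹ = (s * t) * y * (s * t)⁻¹ := by group
      rw [e]
      exact h2 _ y hy
    exact h1 hx
  have hZN : Zu T 4 ≤ N := Z4_le h hNn (hcardR.trans (Subgroup.card_le_of_le le_sup_left))
  -- elements of `N`
  have hcommRR' : ∀ x ∈ R, ∀ y ∈ R', π x * π y = π y * π x := by
    intro x hx y hy
    obtain ⟨y', hy', rfl⟩ := memR' y hy
    have h6 := hker.2 (htc x hx y' hy')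
    rwa [map_commutatorElement, commutatorElement_eq_one_iff_mul_comm] at h6
  have memN : ∀ x ∈ N, ∃ q ∈ R, ∃ q' ∈ R', π x = π q * π q' := by
    let P : Subgroup T :=
      { carrier := {x | ∃ q ∈ R, ∃ q' ∈ R', π x = π q * π q'}
        one_mem' := ⟨1, one_mem _, 1, one_mem _, by simp⟩
        mul_mem' := by
          rintro a b ⟨q, hq, q', hq', h1⟩ ⟨p, hp, p', hp', h2⟩
          refine ⟨q * p, mul_mem hq hp, q' * p', mul_mem hq' hp', ?_⟩
          rw [map_mul, map_mul, map_mul, h1, h2]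
          calc π q * π q' * (π p * π p') = π q * (π q' * π p) * π p' := by group
            _ = π q * (π p * π q') * π p' := by rw [hcommRR' p hp q' hq']
            _ = π q * π p * (π q' * π p') := by group
        inv_mem' := by
          rintro a ⟨q, hq, q', hq', h1⟩
          refine ⟨q⁻¹, inv_mem hq, q'⁻¹, inv_mem hq', ?_⟩
          rw [map_inv, map_inv, map_inv, h1, hcommRR' q hq q' hq', mul_inv_rev] }
    have hP : N ≤ P := sup_le (fun x hx => ⟨x, hx, 1, one_mem _, by simp⟩) (fun x hx => ⟨1, one_mem _, x, hx, by simp⟩)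
    exact fun x hx => hP hx
  -- the centraliser
  set C : Subgroup T := W ⊓ (centralizer ((N.map π : Subgroup (T ⧸ Zu T 1)) : Set (T ⧸ Zu T 1))).comap π with hC
  have hNπ : (N.map π).Normal := hNn.map π hsurj
  have hCn : C.Normal := inferInstance
  have memC : ∀ {x : T}, x ∈ C ↔ x ∈ W ∧ ∀ y ∈ N, π y * π x = π x * π y := by
    intro x
    rw [hC, Subgroup.mem_inf, mem_comap, mem_centralizer_iff]
    constructor
    · rintro ⟨h1, h2⟩
      exact ⟨h1, fun y hy => h2 _ ⟨y, hy, rfl⟩⟩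
    · rintro ⟨h1, h2⟩
      refine ⟨h1, ?_⟩
      rintro _ ⟨y, hy, rfl⟩
      exact h2 y hy
  have hNC : N ⊓ C ≤ Zu T 3 := by
    rintro x ⟨hxN, hxC⟩
    obtain ⟨q, hq, q', hq', hx⟩ := memN x hxN
    have h2 := (memC.1 hxC).2
    have h3 : q ∈ K := by
      apply hcenR q hq
      intro y hy
      rw [← hker, map_commutatorElement, commutatorElement_eq_one_iff_mul_comm]
      have h4 := h2 y (mem_sup_left hy)
      have h5 := hcommRR' y hy q' hq'
      rw [hx] at h4
      apply mul_right_cancel (b := π q')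
      calc π q * π y * π q' = π q * (π y * π q') := by group
        _ = π q * (π q' * π y) := by rw [h5]
        _ = π q * π q' * π y := by group
        _ = π y * (π q * π q') := h4.symm
        _ = π y * π q * π q' := by group
    have h3' : q' ∈ Zu T 3 := by
      obtain ⟨p, hp, rfl⟩ := memR' q' hq'
      apply hZn.conj_mem
      apply hK3
      apply hcenR p hp
      intro y hy
      rw [← hker, map_commutatorElement, commutatorElement_eq_one_iff_mul_comm]
      have h4 := h2 _ (mem_sup_right (mkR' y hy))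
      have h5 := hcommRR' q hq _ (mkR' y hy)
      rw [hx] at h4
      have h6 : π (t * p * t⁻¹) * π (t * y * t⁻¹) = π (t * y * t⁻¹) * π (t * p * t⁻¹) := by
        apply mul_left_cancel (a := π q)
        calc π q * (π (t * p * t⁻¹) * π (t * y * t⁻¹)) = π q * π (t * p * t⁻¹) * π (t * y * t⁻¹) := by group
          _ = π (t * y * t⁻¹) * (π q * π (t * p * t⁻¹)) := h4.symm
          _ = π (t * y * t⁻¹) * π q * π (t * p * t⁻¹) := by group
          _ = π q * π (t * y * t⁻¹) * π (t * p * t⁻¹) := by rw [h5]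
          _ = π q * (π (t * y * t⁻¹) * π (t * p * t⁻¹)) := by group
      simp only [map_mul, map_inv] at h6
      have h7 : π t * (π p * π y) * (π t)⁻¹ = π t * (π y * π p) * (π t)⁻¹ := by
        calc π t * (π p * π y) * (π t)⁻¹ = π t * π p * (π t)⁻¹ * (π t * π y * (π t)⁻¹) := by group
          _ = π t * π y * (π t)⁻¹ * (π t * π p * (π t)⁻¹) := h6
          _ = π t * (π y * π p) * (π t)⁻¹ := by group
      exact mul_left_cancel (mul_right_cancel h7)
    have h6 : (q * q')⁻¹ * x ∈ Zu T 1 := by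
      rw [← hker, map_mul, map_inv, map_mul, hx, inv_mul_cancel]
    have e : x = q * q' * ((q * q')⁻¹ * x) := by group
    rw [e]
    exact mul_mem (mul_mem (hK3 h3) h3') (Z13 h6)
  -- the order of `C`
  have hCi : (C.subgroupOf W).index ≤ 16 := by
    classical
    have hval : ∀ w ∈ W, ∀ x ∈ R, π ⁅w, x⁆ = 1 ∨ π ⁅w, x⁆ = z := by
      intro w hw x hx
      have h1 := h1z _ (inv_mem (hc w hw x hx).1) (inv_mem (hc w hw x hx).2)
      rwa [commutatorElement_inv] at h1
    have hval' : ∀ w ∈ W, ∀ x ∈ R, π ⁅w, t * x * t⁻¹⁆ = 1 ∨ π ⁅w, t * x * t⁻¹⁆ = π t * z * (π t)⁻¹ := by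
      intro w hw x hx
      have hw' : t⁻¹ * w * t ∈ W := by simpa using hWn.conj_mem w hw t⁻¹
      have e : ⁅w, t * x * t⁻¹⁆ = t * ⁅t⁻¹ * w * t, x⁆ * t⁻¹ := by simp only [commutatorElement_def]; group
      rw [e, map_mul, map_mul, map_inv]
      rcases hval _ hw' x hx with h2 | h2 <;> rw [h2]
      · left; group
      · right; rfl
    have key := RuBase.index_le_of_fun (C.subgroupOf W) (fun w : ↥W =>
      ((decide (π ⁅(w : T), c'⁆ = 1), decide (π ⁅(w : T), v'⁆ = 1)),
        (decide (π ⁅(w : T), t * c' * t⁻¹⁆ = 1), decide (π ⁅(w : T), t * v' * t⁻¹⁆ = 1))))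
      (by
        intro w w' hww
        simp only [Prod.mk.injEq, decide_eq_decide] at hww
        obtain ⟨⟨g1, g2⟩, g3, g4⟩ := hww
        have aux : ∀ (y : T) (a : T ⧸ Zu T 1), (π ⁅(w : T), y⁆ = 1 ∨ π ⁅(w : T), y⁆ = a) →
            (π ⁅(w' : T), y⁆ = 1 ∨ π ⁅(w' : T), y⁆ = a) → (π ⁅(w : T), y⁆ = 1 ↔ π ⁅(w' : T), y⁆ = 1) →
            π ((w : T)⁻¹ * w') * π y = π y * π ((w : T)⁻¹ * w') := by
          intro y a h1 h2 h3
          have h4 : π ⁅(w : T), y⁆ = π ⁅(w' : T), y⁆ := by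
            by_cases h5 : π ⁅(w : T), y⁆ = 1
            · rw [h5, h3.1 h5]
            · rw [h1.resolve_left h5, h2.resolve_left (fun h6 => h5 (h3.2 h6))]
          rw [map_commutatorElement, map_commutatorElement, commutatorElement_def, commutatorElement_def] at h4
          have h5 := mul_right_cancel h4
          rw [map_mul, map_inv]
          calc (π w)⁻¹ * π w' * π y = (π w)⁻¹ * (π w' * π y * (π w')⁻¹) * π w' := by group
            _ = (π w)⁻¹ * (π w * π y * (π w)⁻¹) * π w' := by rw [h5]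
            _ = π y * ((π w)⁻¹ * π w') := by group
        have k1 := aux c' z (hval w w.2 c' hcR) (hval w' w'.2 c' hcR) g1
        have k2 := aux v' z (hval w w.2 v' hvR) (hval w' w'.2 v' hvR) g2
        have k3 := aux (t * c' * t⁻¹) _ (hval' w w.2 c' hcR) (hval' w' w'.2 c' hcR) g3
        have k4 := aux (t * v' * t⁻¹) _ (hval' w w.2 v' hvR) (hval' w' w'.2 v' hvR) g4
        rw [mem_subgroupOf, memC]
        refine ⟨mul_mem (inv_mem w.2) w'.2, ?_⟩
        set d : T ⧸ Zu T 1 := π ((w : T)⁻¹ * w') with hd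
        have hQd : ∀ e : T ⧸ Zu T 1, e * c = c * e → e * v = v * e → ∀ x ∈ Q, x * e = e * x := by
          intro e he1 he2 x hx
          have hk : ∀ i : ℕ, c ^ i * e = e * c ^ i := fun i => (Commute.pow_left (show Commute c e from he1.symm) i).eq
          rcases hQ.cov x hx with ⟨i, rfl⟩ | ⟨i, rfl⟩
          · exact hk i
          · rw [mul_assoc, hk, ← mul_assoc, ← he2, mul_assoc]
        have hNd : N ≤ (centralizer {d}).comap π := by
          refine sup_le ?_ ?_
          · intro x hx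
            rw [mem_comap, mem_centralizer_singleton_iff]
            rw [hc'] at k1
            rw [hv'] at k2
            exact hQd d k1 k2 _ hx
          · intro x hx
            rw [mem_comap, mem_centralizer_singleton_iff]
            obtain ⟨y, hy, rfl⟩ := memR' x hx
            have k5 : ((π t)⁻¹ * d * π t) * c = c * ((π t)⁻¹ * d * π t) := by
              rw [map_mul, map_mul, map_inv, hc'] at k3
              calc ((π t)⁻¹ * d * π t) * c = (π t)⁻¹ * (d * (π t * c * (π t)⁻¹)) * π t := by group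
                _ = (π t)⁻¹ * ((π t * c * (π t)⁻¹) * d) * π t := by rw [k3]
                _ = c * ((π t)⁻¹ * d * π t) := by group
            have k6 : ((π t)⁻¹ * d * π t) * v = v * ((π t)⁻¹ * d * π t) := by
              rw [map_mul, map_mul, map_inv, hv'] at k4
              calc ((π t)⁻¹ * d * π t) * v = (π t)⁻¹ * (d * (π t * v * (π t)⁻¹)) * π t := by group
                _ = (π t)⁻¹ * ((π t * v * (π t)⁻¹) * d) * π t := by rw [k4]
                _ = v * ((π t)⁻¹ * d * π t) := by group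
            have k7 := hQd _ k5 k6 (π y) hy
            rw [map_mul, map_mul, map_inv]
            calc π t * π y * (π t)⁻¹ * d = π t * (π y * ((π t)⁻¹ * d * π t)) * (π t)⁻¹ := by group
              _ = π t * (((π t)⁻¹ * d * π t) * π y) * (π t)⁻¹ := by rw [k7]
              _ = d * (π t * π y * (π t)⁻¹) := by group
        intro y hy
        exact mem_centralizer_singleton_iff.1 (hNd hy))
    refine key.trans ?_
    simp [Nat.card_eq_fintype_card]
  have hCW : C ≤ W := inf_le_left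
  have hcardC : 16 ≤ Nat.card C := by
    have h1 := (C.subgroupOf W).card_mul_index
    rw [Nat.card_congr (Subgroup.subgroupOfEquivOfLe hCW).toEquiv, h.orders.2.2.2] at h1
    by_contra hcon
    push Not at hcon
    have h2 : Nat.card C * (C.subgroupOf W).index ≤ 16 * 16 := Nat.mul_le_mul hcon.le hCi
    rw [h1] at h2
    norm_num at h2
  have hZC : Zu T 4 ≤ C := Z4_le h hCn hcardC
  have h9 := Subgroup.card_le_of_le ((le_inf hZN hZC).trans hNC)
  rw [h.cardZ 4 le_rfl, h.cardZ 3 (by norm_num)] at h9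
  norm_num at h9

end Cfsg.Agent.H303.RsQuat
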