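import Mathlib
import Cfsg.Prelude.Def_Involutions
import Cfsg.Prelude.Def_Classical
import Cfsg.Prelude.Def_Sz
import Cfsg.Agent.FooteExc.ModelPSU

/-!
# Automorphisms of `PSU₃(2^n)` and `Sz(q)` centralising `S/Z(S)`

`Inn Y`: for each Sylow 2-subgroup `P` of `Y` an automorphism of `Y` which centralises `P/Z(P)` is the
conjugation with an element of `P`.
-/

set_option autoImplicit false

namespace Cfsg.Agent.H303.U3

open Subgroup Cfsg Cfsg.Agent.FooteExc Cfsg.Agent.LieRecognition.RankOneAbstract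

/-- An automorphism centralising `P/Z(P)` is induced by an element of `P`. -/
def InnP (Y : Type*) [Group Y] : Prop :=
  ∀ (P : Sylow 2 Y) (α : MulAut Y), (∀ s ∈ (P : Subgroup Y), s⁻¹ * α s ∈ Zs (P : Subgroup Y)) →
    ∃ t ∈ (P : Subgroup Y), ∀ y, α y = t * y * t⁻¹

theorem mem_Zs_map {Y M : Type*} [Group Y] [Group M] (e : Y ≃* M) (P : Subgroup Y) (x : Y) :
    e x ∈ Zs (P.map e.toMonoidHom) ↔ x ∈ Zs P := by
  have hP : ∀ x, e x ∈ P.map e.toMonoidHom ↔ x ∈ P := fun x =>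
    ⟨fun ⟨y, hy, he⟩ => e.injective he ▸ hy, fun hx => ⟨x, hx, rfl⟩⟩
  rw [mem_Zs, mem_Zs, hP]
  refine and_congr_right fun _ => ⟨fun h s hs => ?_, ?_⟩
  · have := h (e s) ((hP s).2 hs)
    rw [← map_mul, ← map_mul] at this
    exact e.injective this
  · rintro h _ ⟨s, hs, rfl⟩
    have := congrArg e (h s hs)
    rw [map_mul, map_mul] at this
    exact this

theorem innP_of_pack {M Y : Type*} [Group M] [Group Y] [Finite Y] {H S : Subgroup M} {w : M}
    (hp : Pack H S w) (e : Y ≃* M) : InnP Y := by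
  intro P α hα
  have : Fact (Nat.Prime 2) := ⟨Nat.prime_two⟩
  have : Finite M := Finite.of_equiv Y e.toEquiv
  obtain ⟨g, hg⟩ := MulAction.exists_smul_eq M (P.mapSurjective (f := e.toMonoidHom) e.surjective)
    (hp.two.toSylow hp.odd)
  have hS : (S : Subgroup M) = (P : Subgroup Y).map (e.trans (MulAut.conj g)).toMonoidHom := by
    have h2 := congrArg (fun P : Sylow 2 M => (P : Subgroup M)) hg
    have h3 : (S : Subgroup M) = ((P : Subgroup Y).map e.toMonoidHom).map (MulAut.conj g).toMonoidHom := h2.symm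
    rw [h3, Subgroup.map_map]
    rfl
  set f : Y ≃* M := e.trans (MulAut.conj g) with hf
  have hfS : ∀ x, f x ∈ S ↔ x ∈ (P : Subgroup Y) := fun x => by
    rw [hS]
    exact ⟨fun ⟨y, hy, he⟩ => f.injective he ▸ hy, fun hx => ⟨x, hx, rfl⟩⟩
  have hfZ : ∀ x, f x ∈ Zs S ↔ x ∈ Zs (P : Subgroup Y) := fun x => by
    rw [hS]; exact mem_Zs_map f _ x
  let β : MulAut M := (f.symm.trans α).trans f
  have hβ : ∀ x, β (f x) = f (α x) := fun x => by
    change f (α (f.symm (f x))) = _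
    rw [f.symm_apply_apply]
  obtain ⟨t, ht, h⟩ := hp.exists_conj β (by
    intro s hs
    obtain ⟨s, rfl⟩ := f.surjective s
    rw [hfS] at hs
    rw [hβ, ← map_inv, ← map_mul, hfZ]
    exact hα s hs)
  obtain ⟨t, rfl⟩ := f.surjective t
  refine ⟨t, (hfS t).1 ht, fun y => ?_⟩
  have h1 := h (f y)
  rw [hβ, ← map_inv, ← map_mul, ← map_mul] at h1
  exact f.injective h1

/-- an element which is not in the field with four elements -/
theorem exists_not_four {F : Type*} [Field F] [Finite F] [CharP F 2] (h4 : 4 < Nat.card F) :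
    ∃ x : F, x ≠ 0 ∧ x ≠ 1 ∧ x ^ 2 + x + 1 ≠ 0 := by
  have hfr : ∀ x : F, iterateFrobenius F 2 2 x = x ^ 4 := fun x => by rw [iterateFrobenius_def]; norm_num
  have h5 : Nat.card {x : F // iterateFrobenius F 2 2 x = x} ≤ 4 :=
    Cfsg.Agent.LieRecognition.HermHeis.card_fixed_le (σ := iterateFrobenius F 2 2) (by norm_num) (fun x => hfr x)
  obtain ⟨x, hx⟩ : ∃ x : F, x ^ 4 ≠ x := by
    by_contra hall
    push Not at hall
    have h6 : Nat.card F ≤ Nat.card {x : F // iterateFrobenius F 2 2 x = x} :=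
      Nat.card_le_card_of_injective (fun x => ⟨x, by rw [hfr]; exact hall x⟩)
        (fun x y hxy => congrArg (fun z : {x : F // iterateFrobenius F 2 2 x = x} => (z : F)) hxy)
    omega
  refine ⟨x, ?_, ?_, ?_⟩
  · rintro rfl; exact hx (by ring)
  · rintro rfl; exact hx (by ring)
  · intro h; apply hx
    linear_combination (x ^ 2 - x) * h

theorem innP_sz {F : Type} [Field F] [Fintype F] {m : ℕ} (hm : 1 ≤ m)
    (hF : Fintype.card F = 2 ^ (2 * m + 1)) {Y : Type*} [Group Y] [Finite Y]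
    (e : Y ≃* Cfsg.Lie.Sz F (2 ^ (m + 1))) : InnP Y := by
  have H := Cfsg.Agent.LieRecognition.SzMatrix.good hF
  have hchar := Cfsg.Agent.LieRecognition.SzMatrix.charP_two hF
  obtain ⟨x, h0, h1, h2⟩ := exists_not_four (F := F) (by
    rw [Nat.card_eq_fintype_card, hF]
    calc 4 < 2 ^ (2 * 1 + 1) := by norm_num
      _ ≤ 2 ^ (2 * m + 1) := Nat.pow_le_pow_right (by norm_num) (by omega))
  exact innP_of_pack (pack_sz H h0 h1 h2) e

theorem innP_psu {F : Type*} [Field F] [Fintype F] {n : ℕ} (hn : 2 ≤ n)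
    (hF : Fintype.card F = (2 ^ n) ^ 2) {Y : Type*} [Group Y] [Finite Y]
    (e : Y ≃* Cfsg.PSU 3 F (2 ^ n)) : InnP Y := by
  have hF' : Nat.card F = (2 ^ n) ^ 2 := by rw [Nat.card_eq_fintype_card, hF]
  obtain ⟨h2, σ, hσ, hs, -⟩ :=
    Cfsg.Agent.LieRecognition.PSUThreeSylow.exists_heis_equiv F (by omega : 1 ≤ n) hF'
  obtain ⟨H, S, w, h⟩ := exists_pack_psu (F := F) (σ := σ) hn hs hF'
  exact innP_of_pack h e

end Cfsg.Agent.H303.U3
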