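import Mathlib
import Cfsg.Prelude.Def_Involutions
import Cfsg.Prelude.Def_Classical
import Cfsg.Agent.LieRecognition.PSUThreeSylow
import Cfsg.Agent.LieRecognition.HermHeis

/-!
# The Sylow 2-subgroups of `PSU₃(2^n)`: the facts which are used

`UType P q`: `|P| = q³`, `|Z(P)| = q`, the centre is the set of solutions of `x * x = 1`, contains all squares, every
element of the centre is a commutator `[x, y]` for each given noncentral `x`, and an element commuting with two
elements which do not commute is central.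
-/

set_option autoImplicit false

namespace Cfsg.Agent.H303.U3

open Subgroup

/-- The facts on the Sylow 2-subgroups of `PSU₃(q)`, `q = 2^n`. -/
structure UType (P : Type*) [Group P] (q : ℕ) : Prop where
  card : Nat.card P = q ^ 3
  cardZ : Nat.card (center P) = q
  inv : ∀ x : P, x * x = 1 ↔ x ∈ center P
  sq : ∀ x : P, x * x ∈ center P
  full : ∀ x : P, x ∉ center P → ∀ z ∈ center P, ∃ y : P, x * y * x⁻¹ * y⁻¹ = z
  two : ∀ x y w : P, x * y ≠ y * x → w * x = x * w → w * y = y * w → w ∈ center P

theorem mem_center_map {P P' : Type*} [Group P] [Group P'] (e : P ≃* P') (x : P) :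
    e x ∈ center P' ↔ x ∈ center P := by
  rw [mem_center_iff, mem_center_iff]
  constructor
  · intro h g
    apply e.injective
    rw [map_mul, map_mul, h]
  · intro h g
    obtain ⟨g, rfl⟩ := e.surjective g
    rw [← map_mul, ← map_mul, h]

theorem UType.congr {P P' : Type*} [Group P] [Group P'] (e : P ≃* P') {q : ℕ} (h : UType P q) :
    UType P' q where
  card := by rw [← Nat.card_congr e.toEquiv]; exact h.card
  cardZ := by
    rw [← h.cardZ]
    exact (Nat.card_congr (e.toEquiv.subtypeEquiv fun x => (mem_center_map e x).symm)).symm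
  inv x := by
    obtain ⟨x, rfl⟩ := e.surjective x
    rw [mem_center_map, ← h.inv, ← map_mul, ← map_one e]
    exact e.injective.eq_iff
  sq x := by
    obtain ⟨x, rfl⟩ := e.surjective x
    rw [← map_mul, mem_center_map]
    exact h.sq x
  full x hx z hz := by
    obtain ⟨x, rfl⟩ := e.surjective x
    obtain ⟨z, rfl⟩ := e.surjective z
    rw [mem_center_map] at hx hz
    obtain ⟨y, hy⟩ := h.full x hx z hz
    refine ⟨e y, ?_⟩
    rw [← hy]
    simp only [map_mul, map_inv]
  two x y w := by
    obtain ⟨x, rfl⟩ := e.surjective x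
    obtain ⟨y, rfl⟩ := e.surjective y
    obtain ⟨w, rfl⟩ := e.surjective w
    rw [mem_center_map, ← map_mul, ← map_mul, ← map_mul, ← map_mul, ← map_mul, ← map_mul]
    intro h1 h2 h3
    exact h.two x y w (fun h4 => h1 (by rw [h4])) (e.injective h2) (e.injective h3)

open Cfsg.Agent.LieRecognition.HermHeis in
theorem uType_heis {F : Type*} [Field F] [Finite F] [CharP F 2] {σ : F →+* F}
    [hσ : Fact (∀ x, σ (σ x) = x)] {q : ℕ} (hq : 1 < q) (hs : ∀ x, σ x = x ^ q)
    (hF : Nat.card F = q ^ 2) : UType (Heis σ) q where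
  card := card_heis hq hs hF
  cardZ := card_center hq hs hF
  inv x := by
    rw [Cfsg.Agent.LieRecognition.HermHeis.mul_self_eq_one_iff, mem_center_iff hq hs hF]
  sq x := by
    rw [mem_center_iff hq hs hF, mul_a]
    exact CharTwo.add_self_eq_zero _
  full x hx z hz := by
    rw [mem_center_iff hq hs hF] at hx hz
    have hzb : σ z.b = z.b := b_fixed_of_a_eq_zero hz
    obtain ⟨t, ht⟩ := (card_fixed (σ := σ) hq hs hF).2 z.b hzb
    obtain ⟨y, hy⟩ := exists_heis_a (σ := σ) hq hs hF (σ (t / x.a))
    refine ⟨y, ?_⟩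
    have h1 : x * y = z * (y * x) := by
      have h2 : x.a * σ y.a = t := by
        rw [hy, sig]; field_simp
      have h3 : y.a * σ x.a = σ t := by
        have h4 : σ x.a ≠ 0 := (map_ne_zero σ).2 hx
        rw [hy, map_div₀]; field_simp
      ext
      · simp only [mul_a, hz]; ring
      · simp only [mul_b, mul_a, hz, h2, h3, zero_mul, add_zero]
        rw [← ht]
        have h5 : σ t + σ t = 0 := CharTwo.add_self_eq_zero _
        linear_combination -h5
    rw [h1]; group
  two x y w h1 h2 h3 := by
    rw [mem_center_iff hq hs hF]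
    rw [Ne, commute_iff] at h1
    rw [commute_iff] at h2 h3
    by_contra hw
    apply h1
    have h4 : σ w.a ≠ 0 := (map_ne_zero σ).2 hw
    have h5 : w.a * σ w.a ≠ 0 := mul_ne_zero hw h4
    apply mul_left_cancel₀ h5
    linear_combination (-y.a * σ w.a) * h2 + (x.a * σ w.a) * h3

theorem uType_psu {F : Type*} [Field F] [Finite F] {n : ℕ} (hn : 1 ≤ n)
    (hF : Nat.card F = (2 ^ n) ^ 2) (S : Sylow 2 (Cfsg.PSU 3 F (2 ^ n))) :
    UType (S : Subgroup (Cfsg.PSU 3 F (2 ^ n))) (2 ^ n) := by
  obtain ⟨_, σ, hσ, hs, -, h3⟩ :=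
    Cfsg.Agent.LieRecognition.PSUThreeSylow.exists_heis_equiv F hn hF
  obtain ⟨e⟩ := h3 S
  exact (uType_heis (Nat.one_lt_two_pow (by omega)) hs hF).congr e

end Cfsg.Agent.H303.U3
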