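import Mathlib

/-!
# Transfer: elements of a Sylow subgroup of a perfect group with trivial fusion
-/

set_option autoImplicit false

namespace Cfsg.Agent.H303.U3Tr

open Subgroup

variable {L : Type*} [Group L] [Finite L] {p : ℕ} [Fact p.Prime]

omit [Finite L] in
theorem hom_eq_one {A : Type*} [CommGroup A] (hL : Group.IsPerfect L) (f : L →* A) (x : L) : f x = 1 := by
  have h1 : _root_.commutator L ≤ f.ker := Abelianization.commutator_subset_ker f
  rw [hL.commutator_eq_top] at h1
  exact h1 (mem_top x)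

/-- An element with trivial fusion of a Sylow subgroup of a perfect group is in the commutator subgroup. -/
theorem mem_commutator (hL : Group.IsPerfect L) (P : Sylow p L) {y : L} (hy : y ∈ (P : Subgroup L))
    (key : ∀ (k : ℕ) (g₀ : L), g₀⁻¹ * y ^ k * g₀ ∈ (P : Subgroup L) → g₀⁻¹ * y ^ k * g₀ = y ^ k) :
    (⟨y, hy⟩ : (P : Subgroup L)) ∈ _root_.commutator (P : Subgroup L) := by
  have h1 := MonoidHom.transfer_eq_pow (Abelianization.of (G := (P : Subgroup L))) y key
  rw [hom_eq_one hL] at h1
  have h2 : (Abelianization.of (⟨y, hy⟩ : (P : Subgroup L))) ^ (P : Subgroup L).index = 1 := by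
    rw [← map_pow]; exact h1.symm
  obtain ⟨k, hk⟩ := P.isPGroup' ⟨y, hy⟩
  have h3 : (Abelianization.of (⟨y, hy⟩ : (P : Subgroup L))) ^ p ^ k = 1 := by
    rw [← map_pow, hk, map_one]
  have h4 : Abelianization.of (⟨y, hy⟩ : (P : Subgroup L)) = 1 := by
    rw [← orderOf_eq_one_iff]
    apply Nat.eq_one_of_dvd_coprimes (a := p ^ k) (b := (P : Subgroup L).index)
    · apply Nat.Coprime.pow_left
      rw [(Fact.out : p.Prime).coprime_iff_not_dvd]
      exact P.not_dvd_index
    · rwa [orderOf_dvd_iff_pow_eq_one]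
    · rwa [orderOf_dvd_iff_pow_eq_one]
  rw [← Abelianization.ker_of, MonoidHom.mem_ker]
  exact h4

/-- A central element of a Sylow subgroup of a perfect group. -/
theorem mem_commutator_of_mem_center (hL : Group.IsPerfect L) (P : Sylow p L) {y : L}
    (hy : y ∈ (P : Subgroup L)) (hc : y ∈ center L) :
    (⟨y, hy⟩ : (P : Subgroup L)) ∈ _root_.commutator (P : Subgroup L) := by
  refine mem_commutator hL P hy ?_
  intro k g₀ _
  have h1 : g₀ * y ^ k = y ^ k * g₀ := mem_center_iff.1 (pow_mem hc k) g₀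
  rw [mul_assoc, ← h1]; group

/-- Elements of an abelian Sylow subgroup of a perfect group centralised by its normaliser. -/
theorem eq_one_of_normalizer (hL : Group.IsPerfect L) (P : Sylow p L)
    (hcomm : ∀ x ∈ (P : Subgroup L), ∀ y ∈ (P : Subgroup L), x * y = y * x) {y : L}
    (hy : y ∈ (P : Subgroup L))
    (hN : ∀ n ∈ normalizer ((P : Subgroup L) : Set L), n * y = y * n) : y = 1 := by
  have key : ∀ (k : ℕ) (g₀ : L), g₀⁻¹ * y ^ k * g₀ ∈ (P : Subgroup L) →
      g₀⁻¹ * y ^ k * g₀ = y ^ k := by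
    intro k g₀ hk
    have : IsMulCommutative (P : Subgroup L) :=
      ⟨⟨fun a b => Subtype.ext (hcomm a a.2 b b.2)⟩⟩
    obtain ⟨n, hn, hn2⟩ := P.conj_eq_normalizer_conj_of_mem (y ^ k) g₀
      ((P : Subgroup L).pow_mem hy k) hk
    rw [hn2]
    have h1 : Commute n (y ^ k) := Commute.pow_right (hN n hn) k
    rw [mul_assoc, ← h1.eq]; group
  have h1 := mem_commutator hL P hy key
  have h2 : _root_.commutator (P : Subgroup L) = ⊥ := by
    rw [_root_.commutator_def, Subgroup.commutator_eq_bot_iff_le_centralizer]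
    intro a _
    rw [mem_centralizer_iff]
    intro b _
    exact Subtype.ext (hcomm b b.2 a a.2)
  rw [h2, mem_bot] at h1
  exact congrArg Subtype.val h1

end Cfsg.Agent.H303.U3Tr
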