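import Mathlib
import Cfsg.Agent.H303.U3Base
import Cfsg.Agent.H303.U3Tr
import Cfsg.Agent.SylowL.CompFacts
import Cfsg.Agent.SignalizersComponents.CompBasic

/-!
# Sylow 2-subgroups of type `PSU₃(2^n)`: components

Let `O(G) = 1`, `S` of type `UType q`, `L` a component. Then `S` normalises `L`, `Z(S)` does not centralise `L`
and `S ∩ L` is not contained in `Z(S)`.
-/

set_option autoImplicit false

namespace Cfsg.Agent.H303.U3

open Subgroup Cfsg Cfsg.Agent.SignalizersComponents Cfsg.Agent.SignalizersComponents.Components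
open Cfsg.Agent.SylowL.CompFacts

universe u

variable {G : Type u} [Group G] [Finite G] {S : Sylow 2 G} {q : ℕ} {L : Subgroup G}

/-- the centre of a component is contained in `S` -/
theorem center_le (hO : Cfsg.oddCore G = ⊥) (hL : IsComponent L) {c : G} (hc : c ∈ L)
    (hcc : c ∈ centralizer (L : Set G)) : c ∈ (S : Subgroup G) := by
  have : Fact (Nat.Prime 2) := ⟨Nat.prime_two⟩
  exact Cfsg.Agent.Lib.Cores.pCore_le_sylow S (BalanceAux.center_component_le_pCore 2 hO hL ⟨hc, hcc⟩)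

theorem even_card (hO : Cfsg.oddCore G = ⊥) (hL : IsComponent L) : 2 ∣ Nat.card L := by
  by_contra hodd
  have h1 : (⊤ : Subgroup L) ≤ pPrimeCore 2 L := by
    apply Cfsg.Agent.Lib.Cores.le_pPrimeCore inferInstance
    rw [Subgroup.card_top]
    exact ((Nat.Prime.coprime_iff_not_dvd Nat.prime_two).2 hodd).symm
  have h2 := Cfsg.Agent.SignalizersComponents.CompBasic.map_subtype_pPrimeCore_of_subnormal 2 hL.1
  have hO' : pPrimeCore 2 G = ⊥ := hO
  rw [hO', inf_bot_eq, top_le_iff.1 h1, ← MonoidHom.range_eq_map, range_subtype] at h2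
  exact component_ne_bot hL h2

/-- a component contains an involution of `Z(S)` -/
theorem exists_inv (h : UType (S : Subgroup G) q) (hO : Cfsg.oddCore G = ⊥) (hL : IsComponent L) :
    ∃ t ∈ Zc (S : Subgroup G), t ∈ L ∧ t ≠ 1 := by
  have : Fact (Nat.Prime 2) := ⟨Nat.prime_two⟩
  obtain ⟨P, hP⟩ := exists_sylow S hL.1
  have h1 : 2 ∣ Nat.card (P : Subgroup L) := by
    have h2 := even_card hO hL
    rw [← Subgroup.card_mul_index (P : Subgroup L)] at h2
    exact ((Nat.Prime.dvd_mul Nat.prime_two).1 h2).resolve_right P.not_dvd_index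
  obtain ⟨x, hx⟩ := exists_prime_orderOf_dvd_card' 2 h1
  have hxx : x * x = 1 := by
    have h2 := pow_orderOf_eq_one x
    rwa [hx, pow_two] at h2
  have hx1 : x ≠ 1 := by
    rintro rfl
    rw [orderOf_one] at hx
    omega
  have hxS : ((x : L) : G) ∈ (S : Subgroup G) := by
    have h3 : (x : L) ∈ (S : Subgroup G).subgroupOf L := by rw [← hP]; exact x.2
    exact h3
  refine ⟨((x : L) : G), (mem_Zc_iff_sq h).2 ⟨hxS, ?_⟩, (x : L).2, ?_⟩
  · exact congrArg (fun y : P => ((y : L) : G)) hxx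
  · intro h4
    exact hx1 (Subtype.ext (Subtype.ext h4))

/-- If `S ∩ L` is abelian then it meets the centre of `L` trivially. -/
theorem eq_one_of_abel (hL : IsComponent L)
    (hT : ∀ x ∈ (S : Subgroup G), x ∈ L → ∀ y ∈ (S : Subgroup G), y ∈ L → x * y = y * x) {t : G}
    (ht : t ∈ (S : Subgroup G)) (htL : t ∈ L) (hc : t ∈ centralizer (L : Set G)) : t = 1 := by
  have : Fact (Nat.Prime 2) := ⟨Nat.prime_two⟩
  obtain ⟨P, hP⟩ := exists_sylow S hL.1
  have hPm : ∀ x : L, x ∈ (P : Subgroup L) ↔ (x : G) ∈ (S : Subgroup G) := fun x => by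
    rw [hP, mem_subgroupOf]
  have h1 := Cfsg.Agent.H303.U3Tr.eq_one_of_normalizer hL.2.1 P
    (fun x hx y hy => Subtype.ext (hT x ((hPm x).1 hx) x.2 y ((hPm y).1 hy) y.2))
    (y := ⟨t, htL⟩) ((hPm _).2 ht)
    (fun n _ => Subtype.ext (mem_centralizer_iff.1 hc n n.2))
  exact congrArg Subtype.val h1

/-- `S` normalises `L`. -/
theorem conj_mem (h : UType (S : Subgroup G) q) (hO : Cfsg.oddCore G = ⊥) (hL : IsComponent L) {s : G}
    (hs : s ∈ (S : Subgroup G)) {x : G} (hx : x ∈ L) : s * x * s⁻¹ ∈ L := by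
  by_contra hcon
  have hne : L ≠ L.map (MulAut.conj s).toMonoidHom := by
    intro h0
    apply hcon
    rw [h0]
    exact ⟨x, hx, rfl⟩
  have hcomm := component_commutator_eq_bot_of_ne hL (isComponent_conj s hL) hne
  have hcm : ∀ k ∈ L, ∀ x ∈ L, k * (s * x * s⁻¹) = (s * x * s⁻¹) * k := by
    intro k hk x hx
    rw [commutator_eq_bot_iff_le_centralizer] at hcomm
    have h1 := mem_centralizer_iff.1 (hcomm hk) (s * x * s⁻¹) ⟨x, hx, rfl⟩
    exact h1.symm
  obtain ⟨t, htZ, htL, ht1⟩ := exists_inv h hO hL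
  apply ht1
  refine eq_one_of_abel hL ?_ (Zc_le _ htZ) htL ?_
  · intro x hxS hx y hyS hy
    have h1 := hcm y hy x hx
    have h2 := comm_mem h hs hxS
    have h3 := (mem_Zc.1 h2).2 y hyS
    have h4 : s * x * s⁻¹ = s * x * s⁻¹ * x⁻¹ * x := by group
    rw [h4] at h1
    set a := s * x * s⁻¹ * x⁻¹ with ha
    have h5 : a * (y * x) = a * (x * y) := by
      calc a * (y * x) = (a * y) * x := by group
        _ = y * (a * x) := by rw [← h3]; group
        _ = a * (x * y) := by rw [h1]; group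
    exact (mul_left_cancel h5).symm
  · rw [mem_centralizer_iff]
    intro k hk
    have h1 := hcm k hk t htL
    have h2 : s * t * s⁻¹ = t := by rw [(mem_Zc.1 htZ).2 s hs]; group
    rwa [h2] at h1

/-- If `S ∩ L` is not contained in `Z(S)` then `Z(S) ≤ L`. -/
theorem Zc_le_comp (h : UType (S : Subgroup G) q) (hO : Cfsg.oddCore G = ⊥) (hL : IsComponent L) {x : G}
    (hx : x ∈ (S : Subgroup G)) (hxL : x ∈ L) (hxZ : x ∉ Zc (S : Subgroup G)) :
    Zc (S : Subgroup G) ≤ L := by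
  intro z hz
  obtain ⟨y, hy, rfl⟩ := exists_comm h hx hxZ hz
  have h1 := conj_mem h hO hL hy (inv_mem hxL)
  have e : x * y * x⁻¹ * y⁻¹ = x * (y * x⁻¹ * y⁻¹) := by group
  rw [e]
  exact mul_mem hxL h1

/-- `Z(S) ∩ L` is not central in `L`. -/
theorem false_of_central (hG : GoldHyp.{u}) (h : UType (S : Subgroup G) q) (hq : 4 ≤ q)
    (hO : Cfsg.oddCore G = ⊥) (hL : IsComponent L)
    (hc : ∀ v ∈ Zc (S : Subgroup G), v ∈ L → v ∈ centralizer (L : Set G)) : False := by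
  have : Fact (Nat.Prime 2) := ⟨Nat.prime_two⟩
  obtain ⟨P, hP⟩ := exists_sylow S hL.1
  have hPm : ∀ x : L, x ∈ (P : Subgroup L) ↔ (x : G) ∈ (S : Subgroup G) := fun x => by
    rw [hP, mem_subgroupOf]
  -- `S ∩ L` is not abelian
  obtain ⟨x₀, hx₀, hx₀L, y₀, hy₀, hy₀L, hxy⟩ : ∃ x ∈ (S : Subgroup G), ∃ _ : x ∈ L, ∃ y ∈ (S : Subgroup G),
      ∃ _ : y ∈ L, x * y ≠ y * x := by
    by_contra hcon
    push Not at hcon
    obtain ⟨t, htZ, htL, ht1⟩ := exists_inv h hO hL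
    exact ht1 (eq_one_of_abel hL (fun x hx hxL y hy hyL => hcon x hx hxL y hy hyL) (Zc_le _ htZ) htL
      (hc t htZ htL))
  have hx₀Z : x₀ ∉ Zc (S : Subgroup G) := fun h1 => hxy ((mem_Zc.1 h1).2 y₀ hy₀).symm
  have hAL := Zc_le_comp h hO hL hx₀ hx₀L hx₀Z
  have hAc : ∀ z ∈ Zc (S : Subgroup G), z ∈ centralizer (L : Set G) := fun z hz => hc z hz (hAL hz)
  have hcT : ∀ c ∈ L, c ∈ centralizer (L : Set G) → c ∈ Zc (S : Subgroup G) := by
    intro c hcL hcc
    have h1 := mem_centralizer_iff.1 hcc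
    exact mem_of_two h hx₀ hy₀ (center_le hO hL hcL hcc) hxy (h1 x₀ hx₀L).symm (h1 y₀ hy₀L).symm
  obtain ⟨hs, hna⟩ := simple_quot hL
  obtain ⟨P', hP', -⟩ := exists_quot S hL.1
  have hel : Cfsg.IsElementaryAbelian 2 (P' : Subgroup (L ⧸ center L)) := by
    rw [hP']
    constructor
    · constructor
      constructor
      rintro ⟨_, a, ha, rfl⟩ ⟨_, b, hb, rfl⟩
      apply Subtype.ext
      change (QuotientGroup.mk' (center L)) a * (QuotientGroup.mk' (center L)) b =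
        (QuotientGroup.mk' (center L)) b * (QuotientGroup.mk' (center L)) a
      have h1 := comm_mem h (mem_subgroupOf.1 ha) (mem_subgroupOf.1 hb)
      have h2 : a * b * a⁻¹ * b⁻¹ ∈ center L := mem_center_iff_mem_centralizer.2 (hAc _ h1)
      have h3 : QuotientGroup.mk' (center L) (a * b * a⁻¹ * b⁻¹) = 1 := by
        rw [QuotientGroup.mk'_apply, QuotientGroup.eq_one_iff]; exact h2
      rw [map_mul, map_mul, map_mul, map_inv, map_inv, mul_inv_eq_one, mul_inv_eq_iff_eq_mul] at h3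
      exact h3
    · rintro _ ⟨a, ha, rfl⟩
      rw [← map_pow, QuotientGroup.mk'_apply, QuotientGroup.eq_one_iff, mem_center_iff_mem_centralizer, pow_two]
      exact hAc _ (sq_mem h (mem_subgroupOf.1 ha))
  have hne : (P' : Subgroup (L ⧸ center L)) ≠ ⊥ := by
    intro hbot
    have h1 : x₀ ∉ centralizer (L : Set G) := fun h2 => hxy (mem_centralizer_iff.1 h2 y₀ hy₀L).symm
    apply mk_ne_one hx₀L h1
    rw [← mem_bot, ← hbot, hP']
    exact ⟨⟨x₀, hx₀L⟩, hx₀, rfl⟩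
  obtain ⟨hcj, -⟩ := hG.conj (L ⧸ center L) hna P' _ hel ⟨le_rfl, fun _ _ _ h1 => h1⟩ hne
  have hord : ∀ x (hxL : x ∈ L), x ∈ (S : Subgroup G) → x ∉ Zc (S : Subgroup G) →
      orderOf (QuotientGroup.mk' (center L) ⟨x, hxL⟩) = 2 := by
    intro x hxL hxS hxZ
    apply orderOf_eq_prime
    · rw [pow_two, ← map_mul, QuotientGroup.mk'_apply, QuotientGroup.eq_one_iff,
        mem_center_iff_mem_centralizer]
      exact hAc _ (sq_mem h hxS)
    · exact mk_ne_one hxL (fun h1 => hxZ (hcT x hxL h1))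
  have hsq : ∀ y ∈ (S : Subgroup G), y ∈ L → y ∉ Zc (S : Subgroup G) → y * y = x₀ * x₀ := by
    intro y hy hyL hyZ
    obtain ⟨g, hg⟩ := hcj _ _ (hord x₀ hx₀L hx₀ hx₀Z) (hord y hyL hy hyZ)
    obtain ⟨g, rfl⟩ := QuotientGroup.mk'_surjective (center L) g
    rw [← map_inv, ← map_mul, ← map_mul, QuotientGroup.mk'_apply, QuotientGroup.mk'_apply] at hg
    have hg' := QuotientGroup.eq.1 hg.symm
    rw [mem_center_iff_mem_centralizer] at hg'
    set c : L := (⟨y, hyL⟩ : L)⁻¹ * (g * ⟨x₀, hx₀L⟩ * g⁻¹) with hcdef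
    have hcZ : (c : G) ∈ Zc (S : Subgroup G) := hcT c c.2 hg'
    have e1 : (g : G) * x₀ * (g : G)⁻¹ = y * c := by
      have : (c : G) = y⁻¹ * ((g : G) * x₀ * (g : G)⁻¹) := rfl
      rw [this]; group
    have e2 : (g : G) * (x₀ * x₀) * (g : G)⁻¹ = x₀ * x₀ := by
      have h1 := mem_centralizer_iff.1 (hAc _ (sq_mem h hx₀)) g g.2
      rw [h1]; group
    have e3 : y * (c : G) = c * y := (mem_Zc.1 hcZ).2 y hy
    have e4 : (c : G) * c = 1 := sq_eq_one h hcZ
    calc y * y = y * y * (c * c) := by rw [e4, mul_one]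
      _ = y * (y * c) * c := by group
      _ = y * (c * y) * c := by rw [e3]
      _ = (y * c) * (y * c) := by group
      _ = ((g : G) * x₀ * (g : G)⁻¹) * ((g : G) * x₀ * (g : G)⁻¹) := by rw [e1]
      _ = (g : G) * (x₀ * x₀) * (g : G)⁻¹ := by group
      _ = x₀ * x₀ := e2
  have hz2 : x₀ * x₀ * (x₀ * x₀) = 1 := sq_eq_one h (sq_mem h hx₀)
  have hcomm : ∀ x ∈ (S : Subgroup G), x ∈ L → ∀ y ∈ (S : Subgroup G), y ∈ L →
      x * y * x⁻¹ * y⁻¹ ∈ zpowers (x₀ * x₀) := by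
    intro x hx hxL y hy hyL
    by_cases h1 : x ∈ Zc (S : Subgroup G)
    · have h2 := (mem_Zc.1 h1).2 y hy
      have h3 : x * y * x⁻¹ * y⁻¹ = 1 := by rw [← h2]; group
      rw [h3]; exact one_mem _
    by_cases h2 : y ∈ Zc (S : Subgroup G)
    · have h3 := (mem_Zc.1 h2).2 x hx
      have h4 : x * y * x⁻¹ * y⁻¹ = 1 := by rw [h3]; group
      rw [h4]; exact one_mem _
    by_cases h3 : x * y ∈ Zc (S : Subgroup G)
    · have h4 := (mem_Zc.1 h3).2 x hx
      have h5 : y * x = x * y := by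
        have h6 : x * (x * y) = x * (y * x) := by rw [h4]; group
        exact (mul_left_cancel h6).symm
      have h6 : x * y * x⁻¹ * y⁻¹ = 1 := by rw [← h5]; group
      rw [h6]; exact one_mem _
    have e1 := hsq x hx hxL h1
    have e2 := hsq y hy hyL h2
    have e3 := hsq (x * y) (mul_mem hx hy) (mul_mem hxL hyL) h3
    have h4 := (mem_Zc.1 (sq_mem h hx)).2 y hy
    have e : x * y * x⁻¹ * y⁻¹ = (x * y * (x * y)) * (x * x)⁻¹ * (y * y)⁻¹ := by
      have h5 : (x * x)⁻¹ = y⁻¹ * (x * x)⁻¹ * y := by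
        have : y⁻¹ * (x * x)⁻¹ * y = y⁻¹ * (y * (x * x) * y⁻¹)⁻¹ * y := by
          rw [h4]; group
        rw [this]; group
      rw [h5]; group
    rw [e, e1, e2, e3]
    have hz : x₀ * x₀ ∈ zpowers (x₀ * x₀) := mem_zpowers _
    exact mul_mem (mul_mem hz (inv_mem hz)) (inv_mem hz)
  -- the commutator subgroup of `P`
  let f : (P : Subgroup L) →* G := L.subtype.comp (P : Subgroup L).subtype
  have hle : _root_.commutator (P : Subgroup L) ≤ (zpowers (x₀ * x₀)).comap f := by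
    rw [_root_.commutator_def, Subgroup.commutator_le]
    intro a _ b _
    rw [mem_comap]
    have h1 := hcomm (f a) ((hPm a).1 a.2) (a : L).2 (f b) ((hPm b).1 b.2) (b : L).2
    rw [commutatorElement_def, map_mul, map_mul, map_mul, map_inv, map_inv]
    exact h1
  have hZle : Zc (S : Subgroup G) ≤ zpowers (x₀ * x₀) := by
    intro z hz
    have h1 := Cfsg.Agent.H303.U3Tr.mem_commutator_of_mem_center hL.2.1 P (y := ⟨z, hAL hz⟩)
      ((hPm _).2 (Zc_le _ hz)) (mem_center_iff_mem_centralizer.2 (hAc z hz))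
    exact hle h1
  have h1 := Subgroup.card_dvd_of_le hZle
  rw [card_Zc h, Nat.card_zpowers] at h1
  have h2 : orderOf (x₀ * x₀) ∣ 2 := by
    rw [orderOf_dvd_iff_pow_eq_one, pow_two]
    exact hz2
  have h3 := Nat.le_of_dvd (by norm_num) (h1.trans h2)
  omega

omit [Finite G] in
theorem exists_not_Zc (h : UType (S : Subgroup G) q) (hq : 2 ≤ q) :
    ∃ x ∈ (S : Subgroup G), x ∉ Zc (S : Subgroup G) := by
  by_contra hcon
  push Not at hcon
  have h1 : (S : Subgroup G) = Zc (S : Subgroup G) := le_antisymm hcon (Zc_le _)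
  have h2 := card_Zc h
  rw [← h1, h.card] at h2
  have h3 : q ^ 1 < q ^ 3 := Nat.pow_lt_pow_right (by omega) (by omega)
  rw [pow_one] at h3
  omega

/-- `S ∩ L` is not contained in `Z(S)`. -/
theorem false_of_le (h : UType (S : Subgroup G) q) (hq : 4 ≤ q)
    (hO : Cfsg.oddCore G = ⊥) (hL : IsComponent L)
    (hle : ∀ x ∈ (S : Subgroup G), x ∈ L → x ∈ Zc (S : Subgroup G)) : False := by
  have : Fact (Nat.Prime 2) := ⟨Nat.prime_two⟩
  obtain ⟨P, hP⟩ := exists_sylow S hL.1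
  have hPm : ∀ x : L, x ∈ (P : Subgroup L) ↔ (x : G) ∈ (S : Subgroup G) := fun x => by
    rw [hP, mem_subgroupOf]
  obtain ⟨t, htZ, htL, ht1⟩ := exists_inv h hO hL
  apply ht1
  obtain ⟨x, hx, hxZ⟩ := exists_not_Zc h (by omega : 2 ≤ q)
  obtain ⟨y, hy, hxyt⟩ := exists_comm h hx hxZ htZ
  have key := Cfsg.Agent.H303.U3Tr.eq_one_of_normalizer hL.2.1 P
    (fun x hx y hy => Subtype.ext ((mem_Zc.1 (hle y ((hPm y).1 hy) y.2)).2 x ((hPm x).1 hx)))
    (y := ⟨t, htL⟩) ((hPm _).2 (Zc_le _ htZ)) ?_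
  · exact congrArg Subtype.val key
  rintro ⟨n, hnL⟩ hn
  apply Subtype.ext
  change n * t = t * n
  have hn1 : ∀ s ∈ (S : Subgroup G), s ∈ L → n * s * n⁻¹ ∈ (S : Subgroup G) := by
    intro s hs hsL
    have h1 := (mem_normalizer_iff.1 hn ⟨s, hsL⟩).1 ((hPm _).2 hs)
    exact (hPm _).1 h1
  have hn2 : ∀ s ∈ (S : Subgroup G), s ∈ L → n⁻¹ * s * n ∈ (S : Subgroup G) := by
    intro s hs hsL
    have h1 := (mem_normalizer_iff.1 (inv_mem hn) ⟨s, hsL⟩).1 ((hPm _).2 hs)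
    have h2 := (hPm _).1 h1
    simpa using h2
  -- the centraliser of `S ∩ L` in `LS`
  have hconj := fun {s : G} (hs : s ∈ (S : Subgroup G)) {x : G} (hx : x ∈ L) => conj_mem h hO hL hs hx
  let C : Subgroup G := L ⊓ centralizer (((S : Subgroup G) ⊓ L : Subgroup G) : Set G)
  have hCm : ∀ c, c ∈ C ↔ c ∈ L ∧ ∀ s ∈ (S : Subgroup G), s ∈ L → s * c = c * s := by
    intro c
    rw [mem_inf, mem_centralizer_iff]
    exact and_congr_right fun _ => ⟨fun h1 s hs hsL => h1 s ⟨hs, hsL⟩, fun h1 s hs => h1 s hs.1 hs.2⟩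
  have hCS : ∀ s ∈ (S : Subgroup G), ∀ c ∈ C, s * c * s⁻¹ ∈ C := by
    intro s hs c hc
    rw [hCm] at hc ⊢
    refine ⟨hconj hs hc.1, fun a ha haL => ?_⟩
    have h1 := (mem_Zc.1 (hle a ha haL)).2 s hs
    have h2 := hc.2 a ha haL
    calc a * (s * c * s⁻¹) = (a * s) * c * s⁻¹ := by group
      _ = s * (a * c) * s⁻¹ := by rw [← h1]; group
      _ = s * c * (a * s⁻¹) := by rw [h2]; group
      _ = s * c * (s⁻¹ * (s * a) * s⁻¹) := by group
      _ = s * c * s⁻¹ * a := by rw [h1]; group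
  let K : Subgroup G :=
    { carrier := {x | ∃ c ∈ C, ∃ s ∈ (S : Subgroup G), x = c * s}
      one_mem' := ⟨1, one_mem _, 1, one_mem _, by group⟩
      mul_mem' := by
        rintro _ _ ⟨c, hc, s, hs, rfl⟩ ⟨c', hc', s', hs', rfl⟩
        exact ⟨c * (s * c' * s⁻¹), mul_mem hc (hCS s hs c' hc'), s * s', mul_mem hs hs', by group⟩
      inv_mem' := by
        rintro _ ⟨c, hc, s, hs, rfl⟩
        refine ⟨s⁻¹ * c⁻¹ * s⁻¹⁻¹, hCS s⁻¹ (inv_mem hs) _ (inv_mem hc), s⁻¹, inv_mem hs, by group⟩ }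
  have hSK : (S : Subgroup G) ≤ K := fun s hs => ⟨1, one_mem _, s, hs, by group⟩
  have hnSK : ((n • S : Sylow 2 G) : Subgroup G) ≤ K := by
    rintro _ ⟨s, hs, rfl⟩
    change n * s * n⁻¹ ∈ K
    refine ⟨n * s * n⁻¹ * s⁻¹, ?_, s, hs, by group⟩
    rw [hCm]
    constructor
    · have e : n * s * n⁻¹ * s⁻¹ = n * (s * n⁻¹ * s⁻¹) := by group
      rw [e]
      exact mul_mem hnL (hconj hs (inv_mem hnL))
    · intro a ha haL
      have h1 := (mem_Zc.1 (hle a ha haL)).2 s hs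
      have h2 : n⁻¹ * a * n ∈ (S : Subgroup G) := hn2 a ha haL
      have h3 : n⁻¹ * a * n ∈ L := mul_mem (mul_mem (inv_mem hnL) haL) hnL
      have h4 := (mem_Zc.1 (hle _ h2 h3)).2 s hs
      calc a * (n * s * n⁻¹ * s⁻¹) = n * ((n⁻¹ * a * n) * s) * n⁻¹ * s⁻¹ := by group
        _ = n * (s * (n⁻¹ * a * n)) * n⁻¹ * s⁻¹ := by rw [h4]
        _ = n * s * n⁻¹ * (s⁻¹ * (s * a) * s⁻¹) := by group
        _ = n * s * n⁻¹ * s⁻¹ * a := by rw [h1]; group
  obtain ⟨g, hg⟩ := MulAction.exists_smul_eq K (S.subtype hSK) ((n • S).subtype hnSK)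
  obtain ⟨c, hc, s₁, hs₁, hgcs⟩ := g.2
  have hbS : ∀ s ∈ (S : Subgroup G), (c⁻¹ * n) * s * (c⁻¹ * n)⁻¹ ∈ (S : Subgroup G) := by
    intro s hs
    have h1 : (⟨n * s * n⁻¹, hnSK ⟨s, hs, rfl⟩⟩ : K) ∈ (((n • S).subtype hnSK : Sylow 2 K) : Subgroup K) := by
      change n * s * n⁻¹ ∈ ((n • S : Sylow 2 G) : Subgroup G)
      exact ⟨s, hs, rfl⟩
    rw [← hg] at h1
    obtain ⟨w, hw, hw2⟩ := h1
    have hwS : (w : G) ∈ (S : Subgroup G) := hw
    have h2 : (g : G) * w * (g : G)⁻¹ = n * s * n⁻¹ := congrArg Subtype.val hw2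
    rw [hgcs] at h2
    have e : c⁻¹ * n * s * (c⁻¹ * n)⁻¹ = s₁ * w * s₁⁻¹ := by
      calc c⁻¹ * n * s * (c⁻¹ * n)⁻¹ = c⁻¹ * (n * s * n⁻¹) * c := by group
        _ = c⁻¹ * (c * s₁ * w * (c * s₁)⁻¹) * c := by rw [h2]
        _ = s₁ * w * s₁⁻¹ := by group
    rw [e]
    exact mul_mem (mul_mem hs₁ hwS) (inv_mem hs₁)
  set b : G := c⁻¹ * n with hb
  rw [hCm] at hc
  have hbL : b ∈ L := mul_mem (inv_mem hc.1) hnL
  have hbZ : ∀ s ∈ (S : Subgroup G), b * s * b⁻¹ * s⁻¹ ∈ Zc (S : Subgroup G) := by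
    intro s hs
    refine hle _ (mul_mem (hbS s hs) (inv_mem hs)) ?_
    have e : b * s * b⁻¹ * s⁻¹ = b * (s * b⁻¹ * s⁻¹) := by group
    rw [e]
    exact mul_mem hbL (hconj hs (inv_mem hbL))
  have hbt : b * t * b⁻¹ = t := by
    have h1 := hbZ x hx
    have h2 := hbZ y hy
    set u := b * x * b⁻¹ * x⁻¹ with hu
    set v := b * y * b⁻¹ * y⁻¹ with hv
    have e1 : b * x * b⁻¹ = u * x := by rw [hu]; group
    have e2 : b * y * b⁻¹ = v * y := by rw [hv]; group
    have hux : x * u = u * x := (mem_Zc.1 h1).2 x hx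
    have huy : y * u = u * y := (mem_Zc.1 h1).2 y hy
    have hvx : x * v = v * x := (mem_Zc.1 h2).2 x hx
    have hvy : y * v = v * y := (mem_Zc.1 h2).2 y hy
    have huv : v * u = u * v := (mem_Zc.1 h1).2 v (Zc_le _ h2)
    have e3 : b * t * b⁻¹ = (b * x * b⁻¹) * (b * y * b⁻¹) * (b * x * b⁻¹)⁻¹ * (b * y * b⁻¹)⁻¹ := by
      rw [← hxyt]; group
    have cux : Commute u x := hux.symm
    have cuy : Commute u y := huy.symm
    have cvx : Commute v x := hvx.symm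
    have cvy : Commute v y := hvy.symm
    have cuv : Commute u v := huv.symm
    rw [e3, e1, e2]
    calc u * x * (v * y) * (u * x)⁻¹ * (v * y)⁻¹
        = u * (x * v) * y * (x⁻¹ * (u⁻¹ * y⁻¹)) * v⁻¹ := by group
      _ = u * (v * x) * y * (x⁻¹ * (y⁻¹ * u⁻¹)) * v⁻¹ := by
          rw [hvx, (cuy.inv_inv).eq]
      _ = (u * v) * (x * y * x⁻¹ * y⁻¹) * (u⁻¹ * v⁻¹) := by group
      _ = (u * v) * t * (u⁻¹ * v⁻¹) := by rw [hxyt]
      _ = t * (u * v) * (u⁻¹ * v⁻¹) := by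
          rw [(mem_Zc.1 htZ).2 (u * v) (mul_mem (Zc_le _ h1) (Zc_le _ h2))]
      _ = t * (v * u) * (u⁻¹ * v⁻¹) := by rw [huv]
      _ = t := by group
  have hct := hc.2 t (Zc_le _ htZ) htL
  have hn' : n = c * b := by rw [hb]; group
  have hbt' : b * t = t * b := by
    calc b * t = b * t * b⁻¹ * b := by group
      _ = t * b := by rw [hbt]
  calc n * t = c * (b * t) := by rw [hn']; group
    _ = c * t * b := by rw [hbt']; group
    _ = t * n := by rw [← hct, hn']; group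

end Cfsg.Agent.H303.U3
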