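import Mathlib
import Cfsg.Agent.H303.U3Comp
import Cfsg.Agent.H303.U3Aut
import Cfsg.Agent.SylowL.GoldOf
import Cfsg.Agent.TypeU3Sz.Main
import Cfsg.Agent.WeakTI.PslTwo

/-!
# Sylow 2-subgroups of type `PSU₃(2^n)`: the main theorem

Let `O(G) = 1`, `S` of type `UType q`, `q ≥ 4`. Then `S` is normal or `G` has a normal subgroup of odd index
isomorphic to `PSU(3, q)`. The hypotheses `hT` (Goldschmidt's theorem for simple groups) and `hB` (Bender's
theorem) are discharged in `U3Final`.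
-/

set_option autoImplicit false

namespace Cfsg.Agent.H303.U3

open Subgroup Cfsg Cfsg.Agent.SignalizersComponents Cfsg.Agent.SignalizersComponents.Components
open Cfsg.Agent.SylowL.CompFacts
open Cfsg.Agent.TwoFusion.Gold
open Cfsg.Agent.TypeU3Sz.Main (Ty Concl)

universe u

/-- Bender's theorem for simple groups. -/
def BAll : Prop := ∀ (K : Type u) [Group K] [Finite K] [IsSimpleGroup K], (∃ a b : K, a * b ≠ b * a) →
  ∀ H : Subgroup K, Cfsg.IsStronglyEmbedded H → Concl K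

/-- The isomorphism with the unitary group. -/
def IsoU (K : Type*) [Group K] (q : ℕ) : Prop :=
  ∃ (F : Type) (_ : Field F) (_ : Fintype F) (n : ℕ), 2 ≤ n ∧ q = 2 ^ n ∧ Fintype.card F = (2 ^ n) ^ 2 ∧
    Nonempty (K ≃* Cfsg.PSU 3 F (2 ^ n))

theorem of_concl {K : Type u} [Group K] [Finite K] (hK : Concl K) (P : Sylow 2 K) {x : K}
    (hx : x ∈ (P : Subgroup K)) (hx2 : x * x ≠ 1) :
    ∃ q c : ℕ, Ty (P : Subgroup K) q c ∧ InnP K ∧ (c = 2 ∨ c = 3 ∧ IsoU K q) := by
  have : Fact (Nat.Prime 2) := ⟨Nat.prime_two⟩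
  rcases hK with ⟨F, _, _, ⟨n, hn, hF⟩, ⟨e⟩⟩ | ⟨F, _, _, m, hm, hF, ⟨e⟩⟩ |
    ⟨F, _, _, n, hn, hF, ⟨e⟩⟩
  · exfalso
    have h2 : CharP F 2 := charP_of_card_eq_prime_pow hF
    obtain ⟨k, hk⟩ := P.isPGroup' ⟨x, hx⟩
    have hk' : x ^ 2 ^ k = 1 := congrArg Subtype.val hk
    exact hx2 (Cfsg.Agent.WeakTI.PslTwo.mul_self e hk')
  · have h1 := Cfsg.Agent.TypeU3Sz.Main.ty_sz hm hF (P.mapSurjective (f := e.toMonoidHom) e.surjective)
    exact ⟨_, 2, Ty.congr (e.subgroupMap (P : Subgroup K)).symm h1, innP_sz hm hF e, Or.inl rfl⟩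
  · have hF' : Nat.card F = (2 ^ n) ^ 2 := by rw [Nat.card_eq_fintype_card, hF]
    have h1 := Cfsg.Agent.TypeU3Sz.Main.ty_psu (by omega) hF'
      (P.mapSurjective (f := e.toMonoidHom) e.surjective)
    exact ⟨2 ^ n, 3, Ty.congr (e.subgroupMap (P : Subgroup K)).symm h1, innP_psu hn hF e,
      Or.inr ⟨rfl, F, _, _, n, hn, rfl, hF, ⟨e⟩⟩⟩

theorem card_map_mul {K M : Type*} [Group K] [Group M] (f : K →* M) (H : Subgroup K)
    (hk : f.ker ≤ H) : Nat.card f.ker * Nat.card (H.map f) = Nat.card H := by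
  have h1 := relIndex_mul_relIndex ⊥ f.ker H bot_le hk
  rwa [relIndex_bot_left, relIndex_bot_left, relIndex_ker] at h1

theorem hom_eq_one' {K A : Type*} [Group K] [Group A] (hK : Group.IsPerfect K) (f : K →* A)
    (hA : ∀ a b : A, a * b = b * a) (x : K) : f x = 1 := by
  have h1 : _root_.commutator K ≤ f.ker := by
    rw [_root_.commutator_def, Subgroup.commutator_le]
    intro a _ b _
    rw [MonoidHom.mem_ker, commutatorElement_def, map_mul, map_mul, map_mul, map_inv, map_inv,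
      hA (f a) (f b)]
    group
  rw [hK.commutator_eq_top] at h1
  exact h1 (mem_top x)

variable {G : Type u} [Group G] [Finite G] {S : Sylow 2 G} {q : ℕ} {L : Subgroup G}

/-- **A component**: `S ≤ L`, and `L` is isomorphic to `PSU(3, q)`. -/
theorem component (hT : Cfsg.Agent.SylowL.GoldOf.TAll.{u}) (hB : BAll.{u})
    (h : UType (S : Subgroup G) q) (hq : 4 ≤ q) (hO : Cfsg.oddCore G = ⊥) (hL : IsComponent L) :
    (S : Subgroup G) ≤ L ∧ center L = ⊥ ∧ IsoU L q := by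
  have : Fact (Nat.Prime 2) := ⟨Nat.prime_two⟩
  have hG := Cfsg.Agent.SylowL.GoldOf.goldHyp hT
  have hAe := elem_Zc h
  have hAc := closed_Zc h
  -- a noncentral element of `Z(S) ∩ L`
  obtain ⟨v, hvZ, hvL, hvc⟩ : ∃ v ∈ Zc (S : Subgroup G), ∃ _ : v ∈ L, v ∉ centralizer (L : Set G) := by
    by_contra hcon
    push Not at hcon
    exact false_of_central hG h hq hO hL (fun v hv hvL => hcon v hv hvL)
  -- a noncentral element of `S ∩ L`
  obtain ⟨x₀, hx₀, hx₀L, hx₀Z⟩ : ∃ x ∈ (S : Subgroup G), ∃ _ : x ∈ L, x ∉ Zc (S : Subgroup G) := by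
    by_contra hcon
    push Not at hcon
    exact false_of_le h hq hO hL (fun x hx hxL => hcon x hx hxL)
  have hAL := Zc_le_comp h hO hL hx₀ hx₀L hx₀Z
  have hZ : ∀ c ∈ L, c ∈ centralizer (L : Set G) → c ∈ Zc (S : Subgroup G) := by
    intro c hcL hcc
    have hcS := center_le (S := S) hO hL hcL hcc
    by_cases hab : ∀ x ∈ (S : Subgroup G), x ∈ L → ∀ y ∈ (S : Subgroup G), y ∈ L → x * y = y * x
    · rw [eq_one_of_abel hL hab hcS hcL hcc]
      exact one_mem _
    · push Not at hab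
      obtain ⟨x, hx, hxL, y, hy, hyL, hxy⟩ := hab
      have h1 := mem_centralizer_iff.1 hcc
      exact mem_of_two h hx hy hcS hxy (h1 x hxL).symm (h1 y hyL).symm
  obtain ⟨hs, hna⟩ := simple_quot hL
  have hna' : ∃ a b : L ⧸ center L, a * b ≠ b * a := by
    by_contra hcon
    push Not at hcon
    exact hna ⟨⟨hcon⟩⟩
  obtain ⟨P', hP', hsc⟩ := exists_quot S hL.1
  have hA' := hsc _ hAc
  set π := QuotientGroup.mk' (center L) with hπ
  have hπm : ∀ x (hxL : x ∈ L), x ∈ (S : Subgroup G) → π ⟨x, hxL⟩ ∈ (P' : Subgroup (L ⧸ center L)) := by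
    intro x hxL hx
    rw [hP']
    exact ⟨⟨x, hxL⟩, hx, rfl⟩
  have hπ1 : ∀ x (hxL : x ∈ L), π ⟨x, hxL⟩ = 1 → x ∈ Zc (S : Subgroup G) := by
    intro x hxL h1
    rw [hπ, QuotientGroup.mk'_apply, QuotientGroup.eq_one_iff, mem_center_iff_mem_centralizer] at h1
    exact hZ x hxL h1
  -- the conclusion of Goldschmidt's theorem
  have htc : TCon (L ⧸ center L) := by
    refine hT (L ⧸ center L) hs hna' _ (Cfsg.Agent.SylowL.GoldOf.elemFam P' (elem_map hAe L π) hA') ?_
    exact ⟨π ⟨v, hvL⟩, ⟨1, by rw [one_mul, inv_one, mul_one]; exact ⟨⟨v, hvL⟩, hvZ, rfl⟩⟩,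
      mk_ne_one hvL hvc⟩
  have hsq : ∀ x (hxL : x ∈ L), x ∈ (S : Subgroup G) → x ∉ Zc (S : Subgroup G) →
      π ⟨x, hxL⟩ * π ⟨x, hxL⟩ ≠ 1 := by
    intro x hxL hx hxZ hxx
    have h1 : π ⟨x, hxL⟩ ≠ 1 := fun h1 => hxZ (hπ1 x hxL h1)
    have h2 : orderOf (π ⟨x, hxL⟩) = 2 := orderOf_eq_prime (by rw [pow_two]; exact hxx) h1
    obtain ⟨g, hg⟩ := htc.conj _ _ (orderOf_mk hAe ⟨hvZ, hvL⟩ hvc) h2
    have h3 := hA'.2 _ ⟨⟨v, hvL⟩, hvZ, rfl⟩ g (by rw [hg]; exact hπm x hxL hx)
    rw [hg] at h3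
    obtain ⟨a, ha, hax⟩ := h3
    have haZ : (a : G) ∈ Zc (S : Subgroup G) := ha
    have h4 := QuotientGroup.eq.1 hax
    rw [mem_center_iff_mem_centralizer] at h4
    have h5 := hZ _ (a⁻¹ * ⟨x, hxL⟩ : L).2 h4
    have h6 : (a : G) * ((a⁻¹ * ⟨x, hxL⟩ : L) : G) = x := by
      rw [Subgroup.coe_mul, Subgroup.coe_inv]; group
    apply hxZ
    rw [← h6]
    exact mul_mem haZ h5
  have hconcl : Concl (L ⧸ center L) := by
    rcases htc.alt with h1 | h1
    · exact absurd (h1 P' _ (hπm x₀ hx₀L hx₀)) (hsq x₀ hx₀L hx₀ hx₀Z)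
    · obtain ⟨H, hH⟩ := h1.se
      exact hB (L ⧸ center L) hna' H hH
  obtain ⟨q', c, hty, hinn, hc⟩ := of_concl hconcl P' (hπm x₀ hx₀L hx₀) (hsq x₀ hx₀L hx₀ hx₀Z)
  -- two elements of `S ∩ L` which do not commute
  obtain ⟨x₁, hx₁, hx₁L, y₁, hy₁, hy₁L, hxy⟩ : ∃ x ∈ (S : Subgroup G), ∃ _ : x ∈ L, ∃ y ∈ (S : Subgroup G),
      ∃ _ : y ∈ L, x * y ≠ y * x := by
    by_contra hcon
    push Not at hcon
    obtain ⟨⟨a, ha⟩, ⟨b, hb⟩, hab⟩ := hty.nc
    rw [hP'] at ha hb
    obtain ⟨x, hx, rfl⟩ := ha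
    obtain ⟨y, hy, rfl⟩ := hb
    apply hab
    apply Subtype.ext
    change π x * π y = π y * π x
    rw [← map_mul, ← map_mul]
    congr 1
    exact Subtype.ext (hcon x hx x.2 y hy y.2)
  -- `S ≤ L`
  have hSL : (S : Subgroup G) ≤ L := by
    intro s hs
    have hsn : ∀ x, x ∈ L ↔ s * x * s⁻¹ ∈ L := by
      intro x
      constructor
      · exact fun hx => conj_mem h hO hL hs hx
      · intro hx
        have h1 := conj_mem h hO hL (inv_mem hs) hx
        have e : s⁻¹ * (s * x * s⁻¹) * s⁻¹⁻¹ = x := by group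
        rwa [e] at h1
    let α : MulAut L :=
      { toFun := fun x => ⟨s * x * s⁻¹, (hsn x).1 x.2⟩
        invFun := fun x => ⟨s⁻¹ * x * s, (hsn _).2 (by
          have e : s * (s⁻¹ * (x : G) * s) * s⁻¹ = x := by group
          rw [e]; exact x.2)⟩
        left_inv := fun x => Subtype.ext (by group)
        right_inv := fun x => Subtype.ext (by group)
        map_mul' := fun x y => Subtype.ext (by
          change s * ((x : G) * y) * s⁻¹ = s * x * s⁻¹ * (s * y * s⁻¹)
          group) }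
    have hα : ∀ x : L, ((α x : L) : G) = s * x * s⁻¹ := fun x => rfl
    have hαc : (center L).map (α : L ≃* L) = center L :=
      (characteristic_iff_map_eq.1 (inferInstance : (center L).Characteristic)) α
    let β : MulAut (L ⧸ center L) := QuotientGroup.congr (center L) (center L) α hαc
    have hβ : ∀ x : L, β (π x) = π (α x) := fun x => rfl
    obtain ⟨t, ht, hβt⟩ := hinn P' β (by
      intro p hp
      rw [hP'] at hp
      obtain ⟨x, hx, rfl⟩ := hp
      have hxS : (x : G) ∈ (S : Subgroup G) := hx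
      rw [hβ, ← map_inv, ← map_mul]
      have h1 : (x : G)⁻¹ * (s * x * s⁻¹) ∈ Zc (S : Subgroup G) := by
        have h2 := comm_mem h (inv_mem hxS) hs
        have e : (x : G)⁻¹ * (s * x * s⁻¹) = (x : G)⁻¹ * s * (x : G)⁻¹⁻¹ * s⁻¹ := by group
        rw [e]; exact h2
      rw [Cfsg.Agent.FooteExc.mem_Zs]
      constructor
      · rw [hP']
        exact ⟨x⁻¹ * α x, (show (x : G)⁻¹ * (s * x * s⁻¹) ∈ (S : Subgroup G) from Zc_le _ h1), rfl⟩
      · intro p hp
        rw [hP'] at hp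
        obtain ⟨y, hy, rfl⟩ := hp
        rw [← map_mul, ← map_mul]
        congr 1
        exact Subtype.ext ((mem_Zc.1 h1).2 y hy))
    rw [hP'] at ht
    obtain ⟨t, htS, rfl⟩ := ht
    have htS' : (t : G) ∈ (S : Subgroup G) := htS
    -- `r = t⁻¹ s` centralises `L`
    set r : G := (t : G)⁻¹ * s with hr
    have hrL : ∀ l ∈ L, r * l * r⁻¹ * l⁻¹ ∈ L := by
      intro l hl
      have h1 := conj_mem h hO hL hs hl
      have e : r * l * r⁻¹ * l⁻¹ = (t : G)⁻¹ * (s * l * s⁻¹) * t * l⁻¹ := by rw [hr]; group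
      rw [e]
      exact mul_mem (mul_mem (mul_mem (inv_mem t.2) h1) t.2) (inv_mem hl)
    have hrc : ∀ l : L, (⟨r * l * r⁻¹ * (l : G)⁻¹, hrL l l.2⟩ : L) ∈ center L := by
      intro l
      rw [← QuotientGroup.eq_one_iff]
      change π _ = 1
      have h1 := hβt (π l)
      rw [hβ, ← map_inv, ← map_mul, ← map_mul] at h1
      have e : (⟨r * l * r⁻¹ * (l : G)⁻¹, hrL l l.2⟩ : L) = t⁻¹ * α l * t * l⁻¹ := by
        apply Subtype.ext
        change r * l * r⁻¹ * (l : G)⁻¹ = (t : G)⁻¹ * (s * l * s⁻¹) * t * (l : G)⁻¹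
        rw [hr]; group
      rw [e, map_mul, map_mul, map_mul, h1, ← map_mul, ← map_mul, ← map_mul]
      have e2 : t⁻¹ * (t * l * t⁻¹) * t * l⁻¹ = 1 := by group
      rw [e2, map_one]
    let f : L →* center L :=
      { toFun := fun l => ⟨⟨r * l * r⁻¹ * (l : G)⁻¹, hrL l l.2⟩, hrc l⟩
        map_one' := by
          apply Subtype.ext; apply Subtype.ext
          change r * ((1 : L) : G) * r⁻¹ * ((1 : L) : G)⁻¹ = 1
          rw [Subgroup.coe_one]; group
        map_mul' := fun a b => by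
          apply Subtype.ext; apply Subtype.ext
          change r * ((a : G) * b) * r⁻¹ * ((a : G) * b)⁻¹ =
            (r * a * r⁻¹ * (a : G)⁻¹) * (r * b * r⁻¹ * (b : G)⁻¹)
          have h1 := mem_center_iff.1 (hrc b) a
          have h2 : (a : G) * (r * b * r⁻¹ * (b : G)⁻¹) = (r * b * r⁻¹ * (b : G)⁻¹) * a :=
            congrArg Subtype.val h1
          calc r * ((a : G) * b) * r⁻¹ * ((a : G) * b)⁻¹
              = (r * a * r⁻¹) * ((r * b * r⁻¹ * (b : G)⁻¹) * (a : G)⁻¹) := by group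
            _ = (r * a * r⁻¹) * ((a : G)⁻¹ * ((a : G) * (r * b * r⁻¹ * (b : G)⁻¹)) * (a : G)⁻¹) := by
                group
            _ = (r * a * r⁻¹) * ((a : G)⁻¹ * ((r * b * r⁻¹ * (b : G)⁻¹) * a) * (a : G)⁻¹) := by
                rw [h2]
            _ = (r * a * r⁻¹ * (a : G)⁻¹) * (r * b * r⁻¹ * (b : G)⁻¹) := by group }
    have hf1 : ∀ l ∈ L, r * l = l * r := by
      intro l hl
      have h1 := hom_eq_one' hL.2.1 f (fun a b => Subtype.ext (mem_center_iff.1 b.2 a)) ⟨l, hl⟩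
      have h2 : r * l * r⁻¹ * l⁻¹ = 1 := congrArg (fun z : center L => ((z : L) : G)) h1
      rwa [mul_inv_eq_one, mul_inv_eq_iff_eq_mul] at h2
    have hrS : r ∈ (S : Subgroup G) := mul_mem (inv_mem htS') hs
    have hrZ : r ∈ Zc (S : Subgroup G) := mem_of_two h hx₁ hy₁ hrS hxy (hf1 x₁ hx₁L) (hf1 y₁ hy₁L)
    have e : s = t * r := by rw [hr]; group
    rw [e]
    exact mul_mem t.2 (hAL hrZ)
  -- counting
  have hkerπ : π.ker = center L := by rw [hπ, QuotientGroup.ker_mk']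
  have hc1 : Nat.card (center L) * Nat.card (P' : Subgroup (L ⧸ center L)) = q ^ 3 := by
    have h1 := card_map_mul π ((S : Subgroup G).subgroupOf L) (by
      rw [hkerπ]
      intro c hc
      exact center_le hO hL c.2 (mem_center_iff_mem_centralizer.1 hc))
    rw [hkerπ, ← hP', Nat.card_congr (Subgroup.subgroupOfEquivOfLe hSL).toEquiv, h.card] at h1
    exact h1
  have hc2 : Nat.card (center L) * q' = q := by
    have h1 := card_map_mul π ((Zc (S : Subgroup G)).subgroupOf L) (by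
      rw [hkerπ]
      intro c hc
      exact hZ c c.2 (mem_center_iff_mem_centralizer.1 hc))
    rw [hkerπ, Nat.card_congr (Subgroup.subgroupOfEquivOfLe hAL).toEquiv, card_Zc h] at h1
    rw [← h1]
    congr 1
    rw [← hty.inv]
    refine Nat.card_congr
      { toFun := fun x => ⟨x.1.1, ?_⟩
        invFun := fun x => ⟨⟨x.1, hA'.1 x.2⟩, ?_⟩
        left_inv := fun x => rfl
        right_inv := fun x => rfl }
    · obtain ⟨⟨x, hx⟩, hxx⟩ := x
      rw [hP'] at hx
      obtain ⟨y, hy, rfl⟩ := hx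
      refine ⟨y, ?_, rfl⟩
      by_contra hyZ
      exact hsq y y.2 hy hyZ (congrArg Subtype.val hxx)
    · obtain ⟨x, y, hy, rfl⟩ := x
      apply Subtype.ext
      change π y * π y = 1
      rw [← map_mul]
      have e : y * y = 1 := Subtype.ext (sq_eq_one h hy)
      rw [e, map_one]
  rw [hty.card] at hc1
  have hz : 0 < Nat.card (center L) := Nat.card_pos
  have hq' : 0 < q' := by
    rcases Nat.eq_zero_or_pos q' with h0 | h0
    · rw [h0] at hc2; omega
    · exact h0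
  rcases hc with rfl | ⟨rfl, hiso⟩
  · exfalso
    have h1 : Nat.card (center L) * q' ^ 2 * 1 =
        Nat.card (center L) * q' ^ 2 * (Nat.card (center L) ^ 2 * q') := by
      calc Nat.card (center L) * q' ^ 2 * 1 = q ^ 3 := by rw [mul_one]; exact hc1
        _ = (Nat.card (center L) * q') ^ 3 := by rw [hc2]
        _ = _ := by ring
    have h2 := Nat.eq_of_mul_eq_mul_left (by positivity) h1
    have h3 : q' = 1 := Nat.eq_one_of_mul_eq_one_left h2.symm
    have h4 : Nat.card (center L) ^ 2 = 1 := Nat.eq_one_of_mul_eq_one_right h2.symm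
    have h5 : Nat.card (center L) = 1 := by
      rw [Nat.pow_eq_one] at h4
      rcases h4 with h4 | h4
      · exact h4
      · omega
    rw [h5, h3] at hc2
    omega
  · have h1 : Nat.card (center L) * q' ^ 3 * 1 =
        Nat.card (center L) * q' ^ 3 * (Nat.card (center L) ^ 2) := by
      calc Nat.card (center L) * q' ^ 3 * 1 = q ^ 3 := by rw [mul_one]; exact hc1
        _ = (Nat.card (center L) * q') ^ 3 := by rw [hc2]
        _ = _ := by ring
    have h4 := Nat.eq_of_mul_eq_mul_left (by positivity) h1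
    have h5 : Nat.card (center L) = 1 := by
      have h4' := h4.symm
      rw [Nat.pow_eq_one] at h4'
      rcases h4' with h4' | h4'
      · exact h4'
      · omega
    have h6 : center L = ⊥ := Subgroup.card_eq_one.1 h5
    have h7 : q' = q := by rw [← hc2, h5, one_mul]
    refine ⟨hSL, h6, ?_⟩
    rw [h7] at hiso
    obtain ⟨F, i1, i2, n, hn, hqn, hF, ⟨e⟩⟩ := hiso
    have e' : L ≃* L ⧸ center L := MulEquiv.ofBijective π ⟨by
      rw [← MonoidHom.ker_eq_bot_iff, hkerπ, h6], QuotientGroup.mk'_surjective _⟩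
    exact ⟨F, i1, i2, n, hn, hqn, hF, ⟨e'.trans e⟩⟩

/-- **Main theorem.** -/
theorem main (hT : Cfsg.Agent.SylowL.GoldOf.TAll.{u}) (hB : BAll.{u})
    (h : UType (S : Subgroup G) q) (hq : 4 ≤ q) (hO : Cfsg.oddCore G = ⊥) :
    (S : Subgroup G).Normal ∨ ∃ N : Subgroup G, N.Normal ∧ Odd N.index ∧ IsoU N q := by
  have : Fact (Nat.Prime 2) := ⟨Nat.prime_two⟩
  by_cases hE : Cfsg.layer G = ⊥
  · exact Or.inl (normal_of_layer S h hO hE)
  right
  obtain ⟨L, hL⟩ : ∃ L : Subgroup G, IsComponent L := by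
    by_contra hcon
    push Not at hcon
    apply hE
    rw [eq_bot_iff, layer_le_iff]
    exact fun K hK => absurd hK (hcon K)
  obtain ⟨hSL, hcL, hiso⟩ := component hT hB h hq hO hL
  refine ⟨L, ?_, ?_, hiso⟩
  · refine ⟨fun x hx g => ?_⟩
    by_contra hcon
    have hne : L.map (MulAut.conj g).toMonoidHom ≠ L := by
      intro h0
      apply hcon
      rw [← h0]
      exact ⟨x, hx, rfl⟩
    have hK := isComponent_conj g hL
    have hcomm := component_commutator_eq_bot_of_ne hK hL hne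
    rw [commutator_eq_bot_iff_le_centralizer] at hcomm
    obtain ⟨t, htZ, htK, ht1⟩ := exists_inv h hO hK
    have htL : t ∈ L := hSL (Zc_le _ htZ)
    have h1 : (⟨t, htL⟩ : L) ∈ center L := mem_center_iff_mem_centralizer.2 (hcomm htK)
    rw [hcL, mem_bot] at h1
    exact ht1 (congrArg Subtype.val h1)
  · rw [← Nat.not_even_iff_odd, even_iff_two_dvd]
    intro h2
    exact S.not_dvd_index (h2.trans (Subgroup.index_dvd_of_le hSL))

end Cfsg.Agent.H303.U3
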