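import Cfsg.Agent.H533.Wf.Inner

/-!
# S3826: a section kill (helper303, task 4279 of helper533)

* `false_of_section` : `c`, `d` act non-trivially on the simple section `L V / V` of a stabiliser.
-/

set_option autoImplicit false
set_option linter.unusedSectionVars false

namespace Cfsg.Agent.H303.WfSec

universe v

open Subgroup Cfsg Cfsg.Agent.H533.T5 Cfsg.Agent.H533.Wf

variable {p : ℕ} {K : Type v} [Group K] [Finite K] {Γ : Subgroup (MulAut K)} {C D : Set (MulAut K)}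

/-- **Section kill.** `M` preserves `V` and `L V`, `L` is simple and not contained in `V`; `c`, `d ∈ M` act non-trivially on
`L V / V`. -/
theorem false_of_section [hp : Fact p.Prime] (h : ACfg p Γ C D) {M : Subgroup (MulAut K)} {V L : Subgroup K}
    (hV : V ≠ ⊥) (hVt : V ≠ ⊤) (hMV : ∀ γ ∈ M, ∀ v ∈ V, γ v ∈ V)
    (hML : ∀ γ ∈ M, ∀ l ∈ L, ∃ l' ∈ L, ∃ v ∈ V, γ l = l' * v)
    (hLM : ∀ l ∈ L, MulAut.conj l ∈ M)
    (hs : IsSimpleGroup L) (hna : ¬ IsMulCommutative L) (hLV : ∃ l ∈ L, l ∉ V)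
    {c d : MulAut K} (hc : c ∈ C) (hd : d ∈ D) (hcM : c ∈ M) (hdM : d ∈ M)
    (hcL : ∃ l ∈ L, l⁻¹ * c l ∉ V) (hdL : ∃ l ∈ L, l⁻¹ * d l ∉ V) : False := by
  have Cf := h.toCfg
  set H : Subgroup Γ := M.subgroupOf Γ with hH
  have hHt : H ≠ ⊤ := by
    intro htop
    have hsK := h.simple
    have hVn : V.Normal := by
      constructor
      intro x hx k
      have h1 : h.inc k ∈ H := by rw [htop]; exact Subgroup.mem_top _
      exact hMV _ (Subgroup.mem_subgroupOf.1 h1) x hx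
    rcases hVn.eq_bot_or_eq_top with h1 | h1
    · exact hV h1
    · exact hVt h1
  have hincH : ∀ l ∈ L, h.inc l ∈ H := fun l hl => Subgroup.mem_subgroupOf.2 (hLM l hl)
  have hmap : ∀ k : K, h.inc k ∈ V.map h.inc ↔ k ∈ V := by
    intro k
    constructor
    · rintro ⟨w, hw, hwk⟩
      rwa [← h.inc_injective hwk]
    · intro hk
      exact ⟨k, hk, rfl⟩
  set N : Subgroup H := (V.map h.inc).subgroupOf H with hN
  have hNn : N.Normal := by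
    constructor
    rintro n hn g
    rw [hN, Subgroup.mem_subgroupOf] at hn ⊢
    obtain ⟨w, hw, hwn⟩ := hn
    refine ⟨((g : Γ) : MulAut K) w, hMV _ (Subgroup.mem_subgroupOf.1 g.2) w hw, ?_⟩
    rw [← h.conj_inc, hwn]
    rfl
  set φ : H →* H ⧸ N := QuotientGroup.mk' N with hφ
  have hφs : Function.Surjective φ := QuotientGroup.mk'_surjective N
  set ι : L →* H := (h.inc.comp L.subtype).codRestrict H (fun l => hincH l l.2) with hι
  have hιc : ∀ l : L, ((ι l : H) : Γ) = h.inc (l : K) := fun l => rfl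
  set ψ : L →* H ⧸ N := φ.comp ι with hψ
  have hker : ∀ l : L, ψ l = 1 ↔ (l : K) ∈ V := by
    intro l
    rw [hψ, MonoidHom.comp_apply, hφ, QuotientGroup.mk'_apply, QuotientGroup.eq_one_iff, hN, Subgroup.mem_subgroupOf,
      hιc, hmap]
  have hinj : Function.Injective ψ := by
    rcases ψ.normal_ker.eq_bot_or_eq_top with h1 | h1
    · exact (MonoidHom.ker_eq_bot_iff ψ).1 h1
    · exfalso
      obtain ⟨l, hl, hlV⟩ := hLV
      have h2 : (⟨l, hl⟩ : L) ∈ ψ.ker := by rw [h1]; exact Subgroup.mem_top _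
      exact hlV ((hker _).1 (MonoidHom.mem_ker.1 h2))
  have e : L ≃* ψ.range := MonoidHom.ofInjective hinj
  have hR : QS ψ.range := by
    refine QS.of_simple e.symm.isSimpleGroup fun hcm => hna ⟨⟨fun a b => e.injective ?_⟩⟩
    rw [map_mul, map_mul]
    exact hcm.is_comm.comm _ _
  have hRn : ψ.range.Normal := by
    constructor
    rintro _ ⟨l, rfl⟩ g
    obtain ⟨g, rfl⟩ := hφs g
    obtain ⟨l', hl', w, hw, hlw⟩ := hML _ (Subgroup.mem_subgroupOf.1 g.2) l l.2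
    refine ⟨⟨l', hl'⟩, ?_⟩
    have h1 : g * ι l * g⁻¹ = ι ⟨l', hl'⟩ * ((ι ⟨l', hl'⟩)⁻¹ * (g * ι l * g⁻¹)) := by group
    have h2 : (ι ⟨l', hl'⟩)⁻¹ * (g * ι l * g⁻¹) ∈ N := by
      rw [hN, Subgroup.mem_subgroupOf]
      have h3 : (((ι ⟨l', hl'⟩)⁻¹ * (g * ι l * g⁻¹) : H) : Γ) = h.inc w := by
        have h4 : (((ι ⟨l', hl'⟩)⁻¹ * (g * ι l * g⁻¹) : H) : Γ) =
            (h.inc l')⁻¹ * ((g : Γ) * h.inc (l : K) * (g : Γ)⁻¹) := rfl
        rw [h4, h.conj_inc, hlw, map_mul, inv_mul_cancel_left]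
      rw [h3]
      exact ⟨w, hw, rfl⟩
    have h5 : φ ((ι ⟨l', hl'⟩)⁻¹ * (g * ι l * g⁻¹)) = 1 := (QuotientGroup.eq_one_iff _).2 h2
    show φ (ι ⟨l', hl'⟩) = φ g * φ (ι l) * (φ g)⁻¹
    rw [← map_inv, ← map_mul, ← map_mul, h1, map_mul, h5, mul_one]
  have hcent : ∀ (x : MulAut K) (hx : x ∈ Γ) (hxM : x ∈ M), (∃ l ∈ L, l⁻¹ * x l ∉ V) →
      φ ⟨⟨x, hx⟩, Subgroup.mem_subgroupOf.2 hxM⟩ ∉ Subgroup.centralizer (ψ.range : Set (H ⧸ N)) := by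
    rintro x hx hxM ⟨l, hl, hlV⟩ hcen
    apply hlV
    have h1 := Subgroup.mem_centralizer_iff.1 hcen (ψ ⟨l, hl⟩) ⟨_, rfl⟩
    set y : H := ⟨⟨x, hx⟩, Subgroup.mem_subgroupOf.2 hxM⟩ with hy
    have h2 : φ ((ι ⟨l, hl⟩)⁻¹ * (y * ι ⟨l, hl⟩ * y⁻¹)) = 1 := by
      have h3 : φ y * φ (ι ⟨l, hl⟩) * (φ y)⁻¹ = φ (ι ⟨l, hl⟩) := by
        rw [show φ y * φ (ι ⟨l, hl⟩) = φ (ι ⟨l, hl⟩) * φ y from h1.symm]
        group
      rw [map_mul, map_mul, map_mul, map_inv, map_inv, h3, inv_mul_cancel]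
    have h4 : (ι ⟨l, hl⟩)⁻¹ * (y * ι ⟨l, hl⟩ * y⁻¹) ∈ N := (QuotientGroup.eq_one_iff _).1 h2
    rw [hN, Subgroup.mem_subgroupOf] at h4
    have h5 : (((ι ⟨l, hl⟩)⁻¹ * (y * ι ⟨l, hl⟩ * y⁻¹) : H) : Γ) = h.inc (l⁻¹ * x l) := by
      have h6 : (((ι ⟨l, hl⟩)⁻¹ * (y * ι ⟨l, hl⟩ * y⁻¹) : H) : Γ) =
          (h.inc l)⁻¹ * ((⟨x, hx⟩ : Γ) * h.inc l * (⟨x, hx⟩ : Γ)⁻¹) := rfl
      rw [h6, h.conj_inc, map_mul, map_inv]
    rw [h5, hmap] at h4
    exact h4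
  exact Cf.false_of_hom hHt φ hφs hRn hR (c := ⟨c, h.subC hc⟩) (d := ⟨d, h.subD hd⟩) hc hd
    (Subgroup.mem_subgroupOf.2 hcM) (Subgroup.mem_subgroupOf.2 hdM) (hcent c (h.subC hc) hcM hcL)
    (hcent d (h.subD hd) hdM hdL)

end Cfsg.Agent.H303.WfSec
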